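import Groth.Agent.FMod90.ComplGen
import Groth.Agent.FComplLib.AffSysSec
import Groth.Agent.QCoh.Tilde
import Groth.Agent.Frg7.Basic

/-!
# Completed modules on a formal spectrum

For a finite complete module the global sections of its completion are the module.
-/

set_option autoImplicit false
set_option maxHeartbeats 1000000

universe u

open CategoryTheory CategoryTheory.Limits AlgebraicGeometry TopologicalSpace Opposite

namespace Groth.Agent.FMod90

set_option allowUnsafeReducibility true in
attribute [local reducible] FSch.ModSys.realMod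

open FTors52

variable {A : Type u} [CommRing A] {J : Ideal A}
  (hX : (FSch.completionAlong (Spec (CommRingCat.of A)) (FSch.idealSpec A J)).IsFormal)

local notation "X₀" => Spec (CommRingCat.of A)
local notation "𝓘₀" => FSch.idealSpec A J
local notation "𝔐" => FSch.complMod (FSch.idealSpec A J)
set_option quotPrecheck false in
local notation "Ti" => tilde (R := CommRingCat.of A)
set_option quotPrecheck false in
local notation "topA" => (⟨⊤, isAffineOpen_top _⟩ : (Spec (CommRingCat.of A)).affineOpens)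

set_option quotPrecheck false in
local notation "trO(" U ")" =>
  (Opens.map (FSch.completionToX _ (FSch.idealSpec A J) 0).base).obj U

/-- An element of a module as a section of its completion. -/
noncomputable def csM (M : ModuleCat.{u} A) :
    M →+ Sec ((𝔐 (Ti M)).realMod hX) trO((⊤ : (Spec (CommRingCat.of A)).Opens)) :=
  (csHom hX (Ti M) ⊤).comp (FComplLib.θ M)

/-- Scalars on the completion. -/
noncomputable def scA :
    A →+* Ring ((FSch.completionAlong X₀ 𝓘₀).Osh hX) trO((⊤ : (Spec (CommRingCat.of A)).Opens)) :=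
  (shg hX (FSch.completionToX X₀ 𝓘₀) (FSch.completionToX_comm X₀ 𝓘₀) ⊤).comp
    (Scheme.ΓSpecIso (CommRingCat.of A)).inv.hom

theorem csM_smul (M : ModuleCat.{u} A) (a : A) (x : M) :
    csM hX M (a • x) = scA hX a • csM hX M x :=
  (congrArg (cs hX (Ti M) ⊤) (FComplLib.θ_smul M a x)).trans (cs_smul hX (Ti M) ⊤ _ _)

theorem csM_naturality {M N : ModuleCat.{u} A} (u : M ⟶ N) (x : M) :
    appL (FSch.ModSys.realModMap hX (FSch.complModMap 𝓘₀ ((tilde.functor (CommRingCat.of A)).map u))) _
      (csM hX M x) = csM hX N (u.hom x) :=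
  (cs_map hX _ _ _).trans (congrArg (cs hX (Ti N) ⊤) (FComplLib.θ_naturality u x))

theorem θ_mem_iff (M : ModuleCat.{u} A) (x : M) (k : ℕ) :
    FComplLib.θ M x ∈ (FSch.idealSpec A J).ideal topA ^ k • (⊤ : Submodule Γ(Spec (CommRingCat.of A), (topA).1) Γ(Ti M, (topA).1)) ↔
      x ∈ J ^ k • (⊤ : Submodule A M) := by
  rw [FComplLib.AffData.idealSpec_ideal_top, ← Ideal.map_pow]
  have hb := ConcreteCategory.bijective_of_isIso (Scheme.ΓSpecIso (CommRingCat.of A)).inv
  refine ⟨fun h => ?_, fun h => FComplLib.map_mem_smul_top _ _ (FComplLib.θ_smul M) _ h⟩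
  obtain ⟨y, hy, he⟩ := FComplLib.exists_mem_smul_top _ hb.2 (FComplLib.θ M)
    (FComplLib.bijective_θ M).2 (FComplLib.θ_smul M) _ h
  exact (FComplLib.bijective_θ M).1 he ▸ hy

theorem bijective_csM (M : ModuleCat.{u} A) [IsAdicComplete J M] : Function.Bijective (csM hX M) := by
  have hq := FComplLib.isQCoh_tilde M
  refine ⟨(injective_iff_map_eq_zero _).2 fun x hx => ?_, fun s => ?_⟩
  · refine IsHausdorff.haus' (I := J) x fun n => ?_
    rw [SModEq.zero]
    rcases n with _ | n
    · simp
    refine (θ_mem_iff M x (n + 1)).1 ((ys_eq_zero_iff hX hq topA n _).1 ?_)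
    refine (rproj_cs hX (Ti M) ⊤ _ n).symm.trans ?_
    exact (congrArg (rproj hX _ (𝔐 (Ti M)).F (𝔐 (Ti M)).toPush n) hx).trans (map_zero _)
  · choose z hz using fun n => ys_surjective hX hq topA n
      (rproj hX trO((topA).1) (𝔐 (Ti M)).F (𝔐 (Ti M)).toPush n s)
    have he : ∀ n, z n - z (n + 1) ∈ (FSch.idealSpec A J).ideal topA ^ (n + 1) •
        (⊤ : Submodule Γ(Spec (CommRingCat.of A), (topA).1) Γ(Ti M, (topA).1)) := fun n =>
      (ys_eq_iff hX hq topA n _ _).1
        ((hz n).trans ((τ_rproj hX trO((topA).1) (𝔐 (Ti M)).F (𝔐 (Ti M)).toPush n s).symm.trans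
          ((congrArg (τ hX trO((topA).1) (𝔐 (Ti M)).F (𝔐 (Ti M)).toPush n) (hz (n + 1)).symm).trans
            (τ_ys hX (Ti M) (topA).1 n (z (n + 1))))))
    choose m hm using fun n => (FComplLib.bijective_θ M).2 (z n)
    let b : ℕ → M := fun n => m (n - 1)
    have hb : ∀ {k l}, k ≤ l → b k ≡ b l [SMOD (J ^ k • ⊤ : Submodule A M)] := by
      intro k l hkl
      induction l, hkl using Nat.le_induction with
      | base => rfl
      | succ l hkl ih =>
        refine ih.trans ?_
        rcases k with _ | k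
        · simp [SModEq.sub_mem]
        obtain ⟨l', rfl⟩ : ∃ l', l = l' + 1 := ⟨l - 1, by omega⟩
        refine SModEq.mono (Submodule.smul_mono_left (Ideal.pow_le_pow_right hkl)) ?_
        rw [SModEq.sub_mem]
        refine (θ_mem_iff M _ (l' + 1)).1 ?_
        rw [map_sub, show b (l' + 1) = m l' from rfl, show b (l' + 1 + 1) = m (l' + 1) from rfl, hm, hm]
        exact he l'
    obtain ⟨L, hL⟩ := IsPrecomplete.prec' b hb
    refine ⟨L, lim_ext hX _ _ _ fun n => (rproj_cs hX (Ti M) ⊤ _ n).trans (Eq.trans ?_ (hz n))⟩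
    refine (ys_eq_iff hX hq topA n _ _).2 ?_
    rw [← hm, ← map_sub, θ_mem_iff]
    exact SModEq.sub_mem.1 (hL (n + 1)).symm

theorem exists_gens (M : ModuleCat.{u} A) [Module.Finite A M] :
    ∃ (n : ℕ) (t : Fin n → M),
      IsGen ((𝔐 (Ti M)).realMod hX) (U := trO((⊤ : (Spec (CommRingCat.of A)).Opens))) fun i => csM hX M (t i) := by
  obtain ⟨n, t, ht⟩ := Module.Finite.exists_fin (R := A) (M := M)
  refine ⟨n, t, isGen_complMod hX (FComplLib.isQCoh_tilde M) topA (fun i => FComplLib.θ M (t i)) fun y => ?_⟩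
  obtain ⟨x, rfl⟩ := (FComplLib.bijective_θ M).2 y
  obtain ⟨a, ha⟩ := (Submodule.mem_span_range_iff_exists_fun A).1 (ht ▸ Submodule.mem_top : x ∈ Submodule.span A (Set.range t))
  refine ⟨fun i => (Scheme.ΓSpecIso (CommRingCat.of A)).inv (a i), ?_⟩
  rw [← ha, map_sum]
  exact Finset.sum_congr rfl fun i _ => (FComplLib.θ_smul M (a i) (t i)).symm

/-- Morphisms out of a completed finite module are determined by the elements of the module. -/
theorem hom_ext_csM (M : ModuleCat.{u} A) [Module.Finite A M]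
    {N : ModSite.Mod ((FSch.completionAlong X₀ 𝓘₀).Osh hX)} {φ ψ : (𝔐 (Ti M)).realMod hX ⟶ N}
    (h : ∀ x, appL φ trO((⊤ : (Spec (CommRingCat.of A)).Opens)) (csM hX M x) =
      appL ψ trO((⊤ : (Spec (CommRingCat.of A)).Opens)) (csM hX M x)) : φ = ψ := by
  obtain ⟨n, t, ht⟩ := exists_gens hX M
  exact hom_ext_of_isGen ht (isSuppOn_top N) fun i => h (t i)

/-- Completion is fully faithful on finite complete modules. -/
theorem bijective_realModMap_tilde (M N : ModuleCat.{u} A) [Module.Finite A M] [IsAdicComplete J N] :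
    Function.Bijective (fun u : M ⟶ N => FSch.ModSys.realModMap hX
      (FSch.complModMap 𝓘₀ ((tilde.functor (CommRingCat.of A)).map u))) := by
  refine ⟨fun u v h => ?_, fun φ => ?_⟩
  · refine ModuleCat.hom_ext (LinearMap.ext fun x => (bijective_csM hX N).1 ?_)
    exact ((csM_naturality hX u x).symm.trans (congrArg (fun ψ => appL ψ _ (csM hX M x)) h)).trans
      (csM_naturality hX v x)
  · choose w hw using fun x => (bijective_csM hX N).2 (appL φ _ (csM hX M x))
    let u : M ⟶ N := FComplLib.mkModuleHom M N w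
      (fun x y => (bijective_csM hX N).1 <| by
        rw [map_add (csM hX N), hw, hw, hw, map_add (csM hX M)]
        exact map_add (appL φ _) _ _)
      (fun a x => (bijective_csM hX N).1 <| by
        rw [csM_smul, hw, hw, csM_smul]
        exact map_smul (appL φ _) _ _)
    exact ⟨u, hom_ext_csM hX M fun x => (csM_naturality hX u x).trans (hw x)⟩

/-- A sequence with short exact completion is short exact. -/
theorem shortExact_of_completion (M₁ M₂ M₃ : ModuleCat.{u} A) [Module.Finite A M₁] [Module.Finite A M₂]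
    [Module.Finite A M₃] [IsAdicComplete J M₁] [IsAdicComplete J M₂] [IsAdicComplete J M₃]
    (hcoker : ∀ q : Submodule A M₃, IsAdicComplete J (M₃ ⧸ q)) (u : M₁ ⟶ M₂) (v : M₂ ⟶ M₃)
    (w : FSch.ModSys.realModMap hX (FSch.complModMap 𝓘₀ ((tilde.functor (CommRingCat.of A)).map u)) ≫
        FSch.ModSys.realModMap hX (FSch.complModMap 𝓘₀ ((tilde.functor (CommRingCat.of A)).map v)) = 0)
    (hS : (ShortComplex.mk _ _ w).ShortExact) :
    ∃ w' : u ≫ v = 0, (ShortComplex.mk u v w').ShortExact := by
  set F := FSch.ModSys.realModMap hX (FSch.complModMap 𝓘₀ ((tilde.functor (CommRingCat.of A)).map u)) with hF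
  set G := FSch.ModSys.realModMap hX (FSch.complModMap 𝓘₀ ((tilde.functor (CommRingCat.of A)).map v)) with hG
  haveI : Mono F := hS.mono_f
  haveI : Epi G := hS.epi_g
  have huv : ∀ x, v.hom (u.hom x) = 0 := fun x => (bijective_csM hX M₃).1 <| by
    rw [← csM_naturality, ← csM_naturality]
    exact ((congrArg (fun φ => appL φ _ (csM hX M₁ x)) w).trans (appL_zero _ _)).trans
      (map_zero (csM hX M₃)).symm
  refine ⟨ModuleCat.hom_ext (LinearMap.ext huv), { exact := ?_, mono_f := ?_, epi_g := ?_ }⟩
  · refine (ShortComplex.moduleCat_exact_iff _).2 fun x hx => ?_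
    have h0 : appL G _ (csM hX M₂ x) = 0 :=
      (csM_naturality hX v x).trans ((congrArg (csM hX M₃) hx).trans (map_zero _))
    obtain ⟨t, ht⟩ := exists_kernel_lift G _ h0
    let φ : kernel G ⟶ (𝔐 (Ti M₁)).realMod hX :=
      (IsLimit.conePointUniqueUpToIso hS.fIsKernel (kernelIsKernel G)).inv
    have hφ : φ ≫ F = kernel.ι G :=
      IsLimit.conePointUniqueUpToIso_inv_comp hS.fIsKernel (kernelIsKernel G) WalkingParallelPair.zero
    obtain ⟨y, hy⟩ := (bijective_csM hX M₁).2 (appL φ _ t)
    refine ⟨y, (bijective_csM hX M₂).1 ?_⟩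
    refine (csM_naturality hX u y).symm.trans ?_
    refine (congrArg (appL F _) hy).trans ?_
    exact (congrArg (fun ψ => appL ψ _ t) hφ).trans ht
  · refine (ModuleCat.mono_iff_injective u).2 ((injective_iff_map_eq_zero _).2 fun x hx => ?_)
    have h0 : appL F trO((⊤ : (Spec (CommRingCat.of A)).Opens)) (csM hX M₁ x) = 0 :=
      (csM_naturality hX u x).trans ((congrArg (csM hX M₂) hx).trans (map_zero _))
    exact (bijective_csM hX M₁).1 (((injective_of_mono F _) (h0.trans (map_zero _).symm)).trans (map_zero _).symm)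
  · refine (ModuleCat.epi_iff_surjective v).2 (LinearMap.range_eq_top.1 ?_)
    let Q : ModuleCat.{u} A := ModuleCat.of A (M₃ ⧸ LinearMap.range v.hom)
    haveI : IsAdicComplete J Q := hcoker _
    let q : M₃ ⟶ Q := ModuleCat.ofHom (LinearMap.range v.hom).mkQ
    have hGq : G ≫ FSch.ModSys.realModMap hX (FSch.complModMap 𝓘₀ ((tilde.functor (CommRingCat.of A)).map q)) = 0 :=
      hom_ext_csM hX M₂ fun x => (congrArg (appL _ _) (csM_naturality hX v x)).trans
        ((csM_naturality hX q _).trans ((congrArg (csM hX Q)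
          ((Submodule.Quotient.mk_eq_zero _).2 (LinearMap.mem_range_self v.hom x))).trans
            ((map_zero _).trans (appL_zero _ _).symm)))
    have h1 := zero_of_epi_comp G hGq
    rw [← Submodule.ker_mkQ (LinearMap.range v.hom), LinearMap.ker_eq_top]
    refine LinearMap.ext fun x => (bijective_csM hX Q).1 ?_
    exact (csM_naturality hX q x).symm.trans
      ((congrArg (fun ψ => appL ψ _ (csM hX M₃ x)) h1).trans (map_zero (csM hX Q)).symm)

end Groth.Agent.FMod90
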