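import Groth.Agent.FMod90.TopFT
import Groth.Agent.FComplLib.AffSysCompl
import Groth.Agent.Frg7.Coherent

/-!
# Finitely presented systems on the completion of a complete ring

A system of finitely presented modules on the levels of the formal spectrum of an algebra topologically of
finite type comes from a finitely presented module.
-/

set_option autoImplicit false
set_option maxHeartbeats 1000000

universe u

open CategoryTheory CategoryTheory.Limits AlgebraicGeometry TopologicalSpace Opposite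

namespace Groth.Agent.FMod90

open AdicRing FComplLib

section Alg

variable {R : Type u} [CommRing R] {I : Ideal R} (hR : IsBase R I) {A : Type u} [CommRing A] [Algebra R A]
  (hA : TopFiniteType R I A)

include hR hA in
/-- A finite module with finitely presented truncations is finitely presented. -/
theorem finitePresentation_of_trunc_module (M : Type u) [AddCommGroup M] [Module A M] [Module.Finite A M]
    (h : ∀ k, Module.FinitePresentation A
      (M ⧸ (I.map (algebraMap R A)) ^ (k + 1) • (⊤ : Submodule A M))) :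
    Module.FinitePresentation A M := by
  let J := I.map (algebraMap R A)
  obtain ⟨n, p, hp⟩ := Module.Finite.exists_fin' A M
  refine Module.finitePresentation_of_free_of_surjective p hp ?_
  let K := LinearMap.ker p
  obtain ⟨c, hc⟩ := hasAR_of_finiteType hR hA (RingHom.id A) (RingHom.FiniteType.id A) (N := Fin n → A) K
  rw [Ideal.map_id] at hc
  haveI := h c
  let q : (Fin n → A) →ₗ[A] M ⧸ J ^ (c + 1) • (⊤ : Submodule A M) := (Submodule.mkQ _).comp p
  obtain ⟨S₀, hS₀⟩ := Module.FinitePresentation.fg_ker q ((Submodule.mkQ_surjective _).comp hp)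
  have hdec : ∀ v : S₀, ∃ k ∈ K, (v : Fin n → A) - k ∈ J ^ (c + 1) • (⊤ : Submodule A (Fin n → A)) := fun v => by
    have h1 : p (v : Fin n → A) ∈ J ^ (c + 1) • (⊤ : Submodule A M) :=
      (Submodule.Quotient.mk_eq_zero _).1 (show (v : Fin n → A) ∈ LinearMap.ker q from hS₀ ▸ Submodule.subset_span v.2)
    rw [← LinearMap.range_eq_top.2 hp, ← Submodule.map_top, ← Submodule.map_smul''] at h1
    obtain ⟨e, he, he'⟩ := h1
    exact ⟨(v : Fin n → A) - e, by simp [K, he'], by rwa [sub_sub_cancel]⟩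
  choose k hk hk' using hdec
  let S : Submodule A (Fin n → A) := Submodule.span A (Set.range k)
  have hSK : S ≤ K := Submodule.span_le.2 (by rintro _ ⟨v, rfl⟩; exact hk v)
  have h1 : K ≤ S ⊔ J • K := fun x hx => by
    have hq : x ∈ Submodule.span A (S₀ : Set (Fin n → A)) := by
      rw [hS₀]
      change Submodule.mkQ _ (p x) = 0
      rw [show p x = 0 from hx, map_zero]
    have hd : x ∈ S ⊔ J ^ (c + 1) • (⊤ : Submodule A (Fin n → A)) := by
      refine Submodule.span_le.2 (fun v hv => ?_) hq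
      exact Submodule.mem_sup.2 ⟨k ⟨v, hv⟩, Submodule.subset_span ⟨_, rfl⟩, _, hk' ⟨v, hv⟩, add_sub_cancel _ _⟩
    obtain ⟨s, hs, e, he, rfl⟩ := Submodule.mem_sup.1 hd
    refine Submodule.mem_sup.2 ⟨s, hs, e, ?_, rfl⟩
    have heK : e ∈ K := by simpa using K.sub_mem hx (hSK hs)
    have := hc 1 ⟨by rwa [add_comm] at he, heK⟩
    rwa [pow_one] at this
  have h2 : ∀ m, K ≤ S ⊔ J ^ m • K := fun m => by
    induction m with
    | zero => simp
    | succ m ih =>
      refine ih.trans (sup_le le_sup_left ((Submodule.smul_mono le_rfl h1).trans ?_))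
      rw [Submodule.smul_sup, ← Submodule.mul_smul, ← pow_succ]
      exact sup_le_sup Submodule.smul_le_right le_rfl
  haveI := isAdicComplete_finite hR hA ((Fin n → A) ⧸ S)
  have h3 : K ≤ S := fun x hx => (Submodule.Quotient.mk_eq_zero S).1
    (IsHausdorff.haus' (I := J) _ fun m => by
      rw [SModEq.zero]
      obtain ⟨s, hs, e, he, rfl⟩ := Submodule.mem_sup.1 (h2 m hx)
      rw [Submodule.Quotient.mk_add, (Submodule.Quotient.mk_eq_zero S).2 hs, zero_add]
      have h4 := Submodule.mem_map_of_mem (f := S.mkQ) (Submodule.smul_mono (le_refl (J ^ m)) le_top he)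
      rw [Submodule.map_smul'', Submodule.map_top, Submodule.range_mkQ] at h4
      exact h4)
  rw [show LinearMap.ker p = S from le_antisymm h3 hSK]
  exact Submodule.fg_span (Set.finite_range k)

end Alg

section Sys

variable {A : Type u} [CommRing A] {I : Ideal A} {𝔛 : FSch.Sys.{u}} (D : AffData A I 𝔛)

/-- The scalars of the ring on a level are finitely presented. -/
theorem ker_σ (n : ℕ) : RingHom.ker (D.σ n) = I ^ (n + 1) := by
  have := D.cl n
  have hb := ConcreteCategory.bijective_of_isIso (Scheme.ΓSpecIso (CommRingCat.of A)).inv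
  have h1 : RingHom.ker (D.p n).appTop.hom = ((FSch.idealSpec A I).ideal ⟨⊤, isAffineOpen_top _⟩) ^ (n + 1) := by
    refine (ideal_ker (D.p n) ⟨⊤, isAffineOpen_top _⟩).symm.trans ?_
    rw [D.ker, Scheme.IdealSheafData.ideal_pow, Pi.pow_apply]
  rw [AffData.σ, ← RingHom.comap_ker, h1, AffData.idealSpec_ideal_top, ← Ideal.map_pow,
    Ideal.comap_map_of_bijective _ hb]

include D in
/-- A system of finitely presented modules is the system of a finite module, finitely presented on every level. -/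
theorem exists_iso_sys_fp [IsAdicComplete I A] (hI : I.FG) (𝔐 : FSch.ModSys 𝔛) (h𝔐 : 𝔐.IsCoh)
    (hfp : ∀ n, CohB1.IsFP (𝔐.F n)) :
    ∃ L : ModuleCat.{u} A, Module.Finite A L ∧
      (∀ k, Module.FinitePresentation A (L ⧸ I ^ (k + 1) • (⊤ : Submodule A L))) ∧
      Nonempty (𝔐 ≅ D.sys L) := by
  let M : ℕ → Type u := fun n => Γ(𝔐.F n, ⊤)
  letI : ∀ n, AddCommGroup (M n) := fun n => inferInstanceAs (AddCommGroup Γ(𝔐.F n, ⊤))
  letI : ∀ n, Module A (M n) := fun n => Module.compHom Γ(𝔐.F n, ⊤) (D.σ n)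
  let f : ∀ n, M (n + 1) →ₗ[A] M n := fun n =>
    { toFun := AffData.trans 𝔐 n
      map_add' := AffData.trans_add 𝔐 n
      map_smul' := D.trans_smul 𝔐 n }
  have hker : ∀ n, LinearMap.ker (f n) = I ^ (n + 1) • (⊤ : Submodule A (M (n + 1))) := fun n => by
    refine SetLike.ext fun x => Iff.trans (D.trans_eq_zero_iff 𝔐 h𝔐 n x) ⟨fun h => ?_, fun h => ?_⟩
    · obtain ⟨y, hy, rfl⟩ := exists_mem_smul_top (R := A) (M := M (n + 1)) (D.σ (n + 1))
        (D.σ_surjective (n + 1)) (AddMonoidHom.id _) Function.surjective_id (fun _ _ => rfl) _ h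
      exact hy
    · exact FComplLib.map_mem_smul_top (R := A) (M := M (n + 1)) (P := Γ(𝔐.F (n + 1), ⊤)) (D.σ (n + 1))
        (AddMonoidHom.id _) (fun _ _ => rfl) _ h
  have hMfp : ∀ n, Module.FinitePresentation A (M n) := fun n => by
    letI : Algebra A Γ(𝔛.X n, ⊤) := (D.σ n).toAlgebra
    haveI : IsScalarTower A Γ(𝔛.X n, ⊤) (M n) := IsScalarTower.of_algebraMap_smul fun _ _ => rfl
    haveI : Module.FinitePresentation A Γ(𝔛.X n, ⊤) := by
      refine Module.finitePresentation_of_surjective (Algebra.linearMap A Γ(𝔛.X n, ⊤)) (D.σ_surjective n) ?_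
      have : LinearMap.ker (Algebra.linearMap A Γ(𝔛.X n, ⊤)) = RingHom.ker (D.σ n) := rfl
      rw [this, ker_σ]
      exact hI.pow
    haveI : Module.FinitePresentation Γ(𝔛.X n, ⊤) (M n) :=
      QCoh.finitePresentation_of_isFP (hfp n) (@isAffineOpen_top _ (D.isAffine n))
    exact Module.FinitePresentation.trans (R := A) (M := M n) Γ(𝔛.X n, ⊤)
  let L : Submodule A (∀ n, M n) :=
    { carrier := {x | ∀ n, f n (x (n + 1)) = x n}
      zero_mem' := fun n => map_zero _
      add_mem' := fun {x y} hx hy n => by rw [Pi.add_apply, map_add, hx n, hy n]; rfl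
      smul_mem' := fun a x hx n => by rw [Pi.smul_apply, map_smul, hx n]; rfl }
  let π : ∀ n, L →ₗ[A] M n := fun n => (LinearMap.proj n).comp L.subtype
  obtain ⟨-, hπ, hfin⟩ := Adic7.limit_quotient_system A I hI M f
    (fun n => D.trans_surjective 𝔐 h𝔐 n) hker L π (fun n => LinearMap.ext fun x => x.2 n)
    (fun x hx => Subtype.ext (funext hx)) (fun y hy => ⟨⟨y, hy⟩, fun n => rfl⟩)
  haveI := hMfp 0
  refine ⟨ModuleCat.of A L, hfin inferInstance inferInstance, fun k => ?_, ?_⟩
  · haveI := hMfp k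
    exact Module.FinitePresentation.of_equiv
      ((Submodule.quotEquivOfEq _ _ (hπ k).2.symm).trans ((π k).quotKerEquivOfSurjective (hπ k).1)).symm
  have hsurj : ∀ n, Function.Surjective (π n) := fun n => (hπ n).1
  have hkerπ : ∀ n x, π n x = 0 ↔ x ∈ I ^ (n + 1) • (⊤ : Submodule A L) := fun n x =>
    (LinearMap.mem_ker (f := π n)).symm.trans (SetLike.ext_iff.mp (hπ n).2 x)
  let L' : ModuleCat.{u} A := ModuleCat.of A L
  have hφ : ∀ n, ∃ φ : (D.sys L').F n ⟶ 𝔐.F n, ∀ x, φ.app ⊤ (D.sec L' n x) = π n x := by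
    intro n
    let adj := Scheme.Modules.pullbackPushforwardAdjunction (D.p n)
    let P : (Spec (CommRingCat.of A)).Modules := (Scheme.Modules.pushforward (D.p n)).obj (𝔐.F n)
    obtain ⟨ψ, hψ⟩ := exists_hom_tilde L' P (π n).toAddMonoidHom (fun a x => map_smul (π n) a x)
    obtain ⟨φ, hφ⟩ := (adj.homEquiv _ _).surjective ψ
    refine ⟨φ, fun x => Eq.trans ?_ (hψ x)⟩
    exact congrArg (fun f => Scheme.Modules.Hom.app f ⊤ (θ L' x))
      ((Adjunction.homEquiv_unit adj _ _ φ).symm.trans hφ)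
  choose φ hφ using hφ
  have hiso : ∀ n, IsIso (φ n) := fun n => by
    have := D.isAffine n
    refine isIso_of_bijective_app_top (D.isQCoh_level L' n) (h𝔐 n).1 _
      ⟨(injective_iff_map_eq_zero _).mpr fun z hz => ?_, fun y => ?_⟩
    · obtain ⟨x, rfl⟩ := D.sec_surjective L' n z
      exact (D.sec_eq_zero_iff L' n x).2 ((hkerπ n x).1 ((hφ n x).symm.trans hz))
    · obtain ⟨x, rfl⟩ := hsurj n y
      exact ⟨_, hφ n x⟩
  have hcomm : ∀ n, (Scheme.Modules.pullback (𝔛.ι n)).map (φ (n + 1)) ≫ (𝔐.e n).hom =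
      ((D.sys L').e n).hom ≫ φ n := by
    intro n
    have := D.isAffine n
    have := D.isAffine (n + 1)
    have := D.cl (n + 1)
    have : IsClosedImmersion (𝔛.ι n ≫ D.p (n + 1)) := by rw [D.comm]; exact D.cl n
    have := IsClosedImmersion.of_comp (𝔛.ι n) (D.p (n + 1))
    refine hom_ext_top (QCoh.isQCoh_pullback _ (D.isQCoh_level L' (n + 1))) (h𝔐 n).1 _ _ fun z => ?_
    obtain ⟨w, rfl⟩ := (QCoh.unit_app_closed (𝔛.ι n) (D.isQCoh_level L' (n + 1))
      (isAffineOpen_top _)).1 z
    obtain ⟨x, rfl⟩ := D.sec_surjective L' (n + 1) w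
    change (𝔐.e n).hom.app ⊤ (((Scheme.Modules.pullback (𝔛.ι n)).map (φ (n + 1))).app ⊤
        (pullTop (𝔛.ι n) _ (D.sec L' (n + 1) x))) =
      (φ n).app ⊤ (AffData.trans (D.sys L') n (D.sec L' (n + 1) x))
    rw [D.trans_sec, hφ]
    exact (congrArg ((𝔐.e n).hom.app ⊤) ((pullTop_naturality (𝔛.ι n) (φ (n + 1)) (D.sec L' (n + 1) x)).trans
      (congrArg (pullTop (𝔛.ι n) (𝔐.F (n + 1))) (hφ (n + 1) x)))).trans (x.2 n)
  let Φ : D.sys L' ⟶ 𝔐 := ⟨φ, hcomm⟩
  refine ⟨(Iso.symm ⟨Φ, ⟨fun n => inv (φ n), fun n => ?_⟩, ?_, ?_⟩)⟩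
  · rw [Functor.map_inv, IsIso.inv_comp_eq, ← Category.assoc, hcomm n, Category.assoc,
      IsIso.hom_inv_id, Category.comp_id]
  · exact FSch.ModSys.Hom.ext (funext fun n => IsIso.hom_inv_id _)
  · exact FSch.ModSys.Hom.ext (funext fun n => IsIso.inv_hom_id _)

end Sys

end Groth.Agent.FMod90
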