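import Groth.Agent.FMod90.TopFT
import Groth.Agent.Frg7.Local
import Groth.Agent.Frg7.Trunc

/-!
# The rings of the formal spectrum over basic opens

Over the trace of a basic open the ring of functions of the formal spectrum of an algebra topologically of finite
type is again complete and topologically of finite type.
-/

set_option autoImplicit false
set_option maxHeartbeats 1000000

universe u

open CategoryTheory CategoryTheory.Limits AlgebraicGeometry TopologicalSpace Opposite

namespace Groth.Agent.FMod90

open AdicRing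

variable {R : Type u} [CommRing R] {I : Ideal R} (hR : IsBase R I) {A : Type u} [CommRing A] [Algebra R A]
  (hA : TopFiniteType R I A)
  (h : (FSch.completionAlong (Spec (CommRingCat.of A))
    (FSch.idealSpec A (I.map (algebraMap R A)))).IsFormal)

set_option quotPrecheck false in
local notation "Dg(" g ")" =>
  ((Spec (CommRingCat.of A)).affineBasicOpen (U := ⟨⊤, isAffineOpen_top _⟩) g)

set_option quotPrecheck false in
local notation "trD(" g ")" =>
  (Opens.map (FSch.completionToX _ (FSch.idealSpec A (I.map (algebraMap R A))) 0).base).obj (Dg(g)).1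

/-- The functions on a basic open, as an algebra over the ring. -/
noncomputable def toBasic (g : Γ(Spec (CommRingCat.of A), ⊤)) :
    A →+* Γ(Spec (CommRingCat.of A), (Dg(g)).1) :=
  ((Spec (CommRingCat.of A)).presheaf.map (homOfLE ((Spec (CommRingCat.of A)).basicOpen_le g)).op).hom.comp
    (Scheme.ΓSpecIso (CommRingCat.of A)).inv.hom

theorem finiteType_toBasic (g : Γ(Spec (CommRingCat.of A), ⊤)) : (toBasic g).FiniteType := by
  haveI := (isAffineOpen_top (Spec (CommRingCat.of A))).isLocalization_basicOpen g
  have h1 : (algebraMap Γ(Spec (CommRingCat.of A), ⊤) Γ(Spec (CommRingCat.of A), (Spec (CommRingCat.of A)).basicOpen g)).FiniteType :=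
    (RingHom.finiteType_algebraMap).2 (IsLocalization.finiteType_of_monoid_fg (Submonoid.powers g) _)
  exact h1.comp (RingHom.FiniteType.of_surjective _
    (ConcreteCategory.bijective_of_isIso (Scheme.ΓSpecIso (CommRingCat.of A)).inv).2)

theorem ideal_basic (g : Γ(Spec (CommRingCat.of A), ⊤)) :
    (FSch.idealSpec A (I.map (algebraMap R A))).ideal Dg(g) = (I.map (algebraMap R A)).map (toBasic g) := by
  refine ((FSch.idealSpec A (I.map (algebraMap R A))).map_ideal_basicOpen ⟨⊤, isAffineOpen_top _⟩ g).symm.trans ?_
  rw [FComplLib.AffData.idealSpec_ideal_top, Ideal.map_map]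
  rfl

variable (g : Γ(Spec (CommRingCat.of A), ⊤))

/-- The ring over the trace of a basic open receives the ring. -/
noncomputable def scD :
    A →+* Ring ((FSch.completionAlong _ (FSch.idealSpec A (I.map (algebraMap R A)))).Osh h) trD(g) :=
  (shg h (FSch.completionToX _ (FSch.idealSpec A (I.map (algebraMap R A))))
    (FSch.completionToX_comm _ _) (Dg(g)).1).comp (toBasic g)

/-- The base acts on the ring over the trace of a basic open. -/
@[reducible]
noncomputable def algD :
    Algebra R (Ring ((FSch.completionAlong _ (FSch.idealSpec A (I.map (algebraMap R A)))).Osh h) trD(g)) :=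
  ((scD h g).comp (algebraMap R A)).toAlgebra

theorem pr_shg_surjective (n : ℕ) :
    Function.Surjective (fun a => pr h trD(g) n
      (shg h (FSch.completionToX _ (FSch.idealSpec A (I.map (algebraMap R A))))
        (FSch.completionToX_comm _ _) (Dg(g)).1 a)) ∧
    ∀ a, pr h trD(g) n (shg h (FSch.completionToX _ (FSch.idealSpec A (I.map (algebraMap R A))))
        (FSch.completionToX_comm _ _) (Dg(g)).1 a) = 0 ↔
      a ∈ (FSch.idealSpec A (I.map (algebraMap R A))).ideal Dg(g) ^ (n + 1) := by
  obtain ⟨h1, h2⟩ := appLE_surjective_ker (FSch.completionToX _ (FSch.idealSpec A (I.map (algebraMap R A))) n)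
    Dg(g) _ (FSch.lvU_p _ h _ (FSch.completionToX_comm _ _) n (Dg(g)).1).symm
  refine ⟨fun y => ?_, fun a => ?_⟩
  · obtain ⟨a, rfl⟩ := h1 y
    exact ⟨a, pr_shg h (FSch.completionToX _ _) (FSch.completionToX_comm _ _) (Dg(g)).1 n a⟩
  · rw [pr_shg]
    refine (SetLike.ext_iff.1 h2 a).trans ?_
    rw [show (FSch.completionToX _ (FSch.idealSpec A (I.map (algebraMap R A))) n).ker =
        FSch.idealSpec A (I.map (algebraMap R A)) ^ (n + 1) from Scheme.IdealSheafData.ker_subschemeι _,
      Scheme.IdealSheafData.ideal_pow, Pi.pow_apply]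
    rfl

include hR hA in
/-- The ring over the trace of a basic open is complete, topologically of finite type, with the expected kernels. -/
theorem topFiniteType_ring :
    letI := algD h g
    IsAdicComplete (I.map (algebraMap R (Ring ((FSch.completionAlong _ (FSch.idealSpec A (I.map (algebraMap R A)))).Osh h) trD(g))))
        (Ring ((FSch.completionAlong _ (FSch.idealSpec A (I.map (algebraMap R A)))).Osh h) trD(g)) ∧
      (∀ n, RingHom.ker (pr h trD(g) n) =
        (I.map (algebraMap R (Ring ((FSch.completionAlong _ (FSch.idealSpec A (I.map (algebraMap R A)))).Osh h) trD(g)))) ^ (n + 1)) ∧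
      TopFiniteType R I (Ring ((FSch.completionAlong _ (FSch.idealSpec A (I.map (algebraMap R A)))).Osh h) trD(g)) := by
  letI := algD h g
  let 𝔛 := FSch.completionAlong _ (FSch.idealSpec A (I.map (algebraMap R A)))
  let C := Ring (𝔛.Osh h) trD(g)
  let J := I.map (algebraMap R C)
  let U := trD(g)
  let sC := shg h (FSch.completionToX _ (FSch.idealSpec A (I.map (algebraMap R A))))
    (FSch.completionToX_comm _ _) (Dg(g)).1
  have hJ : J = ((FSch.idealSpec A (I.map (algebraMap R A))).ideal Dg(g)).map sC := by
    rw [ideal_basic]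
    exact ((congrArg (Ideal.map sC) (Ideal.map_map (algebraMap R A) (toBasic g))).trans
      (Ideal.map_map (I := I) ((toBasic g).comp (algebraMap R A)) sC)).symm
  letI : ∀ n, Module C (Rn h U n) := fun n => Module.compHom _ (pr h U n)
  let f : ∀ n, Rn h U (n + 1) →ₗ[C] Rn h U n := fun n =>
    { toFun := ρ h U n
      map_add' := map_add _
      map_smul' := fun a x => (map_mul _ _ _).trans (congrArg (· * ρ h U n x) (ρ_pr h U n a)) }
  let π : ∀ n, C →ₗ[C] Rn h U n := fun n =>
    { toFun := pr h U n
      map_add' := map_add _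
      map_smul' := fun a x => map_mul _ _ _ }
  have hsmul : ∀ n k, J ^ k • (⊤ : Submodule C (Rn h U n)) =
      Submodule.map (π n) (J ^ k : Ideal C) := fun n k => by
    have htop : Submodule.map (π n) ⊤ = ⊤ := by
      rw [Submodule.map_top, LinearMap.range_eq_top]
      intro y
      obtain ⟨a, ha⟩ := (pr_shg_surjective h g n).1 y
      exact ⟨_, ha⟩
    rw [← htop, ← Submodule.map_smul'', smul_eq_mul, Ideal.mul_top]
  obtain ⟨hc, hπ, -⟩ := Adic7.limit_quotient_system C J ((Frg7.IsBase.fg hR).map _) (Rn h U) f
    (fun n y => by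
      obtain ⟨a, ha⟩ := (pr_shg_surjective h g n).1 y
      exact ⟨pr h U (n + 1) (sC a), (ρ_pr h U n _).trans ha⟩)
    (fun n => by
      refine le_antisymm (fun x hx => ?_) ?_
      · obtain ⟨a, rfl⟩ := (pr_shg_surjective h g (n + 1)).1 x
        have h0 : pr h U n (sC a) = 0 := (ρ_pr h U n _).symm.trans hx
        rw [hsmul, hJ]
        exact ⟨sC a, (Ideal.map_pow sC _ (n + 1)).le
          (Ideal.mem_map_of_mem sC (((pr_shg_surjective h g n).2 a).1 h0)), rfl⟩
      · rw [hsmul, hJ, Submodule.map_le_iff_le_comap]
        refine (Ideal.map_pow sC _ (n + 1)).ge.trans ?_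
        refine (Ideal.map_le_iff_le_comap (K := (Submodule.comap (π (n + 1)) (LinearMap.ker (f n)) : Ideal C))).2
          fun a ha => ?_
        exact (ρ_pr h U n _).trans (((pr_shg_surjective h g n).2 a).2 ha))
    C π (fun n => LinearMap.ext fun a => ρ_pr h U n a)
    (fun x hx => ring_ext h U fun n => (hx n).trans (map_zero _).symm)
    (fun y hy => exists_ring h U y hy)
  have hker : ∀ n, RingHom.ker (pr h U n) = J ^ (n + 1) := fun n => by
    have h1 := (hπ n).2
    rw [smul_eq_mul, Ideal.mul_top] at h1
    exact SetLike.ext fun a => SetLike.ext_iff.1 h1 a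
  refine ⟨hc, hker, ?_⟩
  haveI := hc
  haveI : Algebra.FiniteType R (C ⧸ J) := by
    haveI hfA : Algebra.FiniteType R (A ⧸ I.map (algebraMap R A)) := by
      have := Frg7.finiteType_trunc (Frg7.IsBase.fg hR) hA 1
      rwa [pow_one] at this
    let φ := toBasic g
    let ψ : (A ⧸ I.map (algebraMap R A)) →+* Γ(Spec (CommRingCat.of A), (Dg(g)).1) ⧸
        (FSch.idealSpec A (I.map (algebraMap R A))).ideal Dg(g) :=
      Ideal.quotientMap _ φ (by rw [ideal_basic]; exact Ideal.le_comap_map)
    have hψ : ψ.FiniteType := by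
      refine RingHom.FiniteType.of_comp_finiteType (f := Ideal.Quotient.mk _) ?_
      rw [Ideal.quotientMap_comp_mk]
      exact (RingHom.FiniteType.of_surjective _ Ideal.Quotient.mk_surjective).comp (finiteType_toBasic g)
    let θ : Γ(Spec (CommRingCat.of A), (Dg(g)).1) ⧸
        (FSch.idealSpec A (I.map (algebraMap R A))).ideal Dg(g) →+* C ⧸ J :=
      Ideal.quotientMap _ sC (by rw [hJ]; exact Ideal.le_comap_map)
    have hθ : Function.Surjective θ := fun y => by
      obtain ⟨b, rfl⟩ := Ideal.Quotient.mk_surjective y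
      obtain ⟨a, ha⟩ := (pr_shg_surjective h g 0).1 (pr h U 0 b)
      refine ⟨Ideal.Quotient.mk _ a, ?_⟩
      change Ideal.Quotient.mk J (sC a) = _
      rw [Ideal.Quotient.eq]
      have h2 : sC a - b ∈ RingHom.ker (pr h U 0) := by
        rw [RingHom.mem_ker, map_sub, sub_eq_zero]
        exact ha
      rwa [hker, zero_add, pow_one] at h2
    have h3 := ((RingHom.FiniteType.of_surjective θ hθ).comp hψ).comp
      (RingHom.finiteType_algebraMap.2 hfA)
    rw [← RingHom.finiteType_algebraMap]
    exact (show algebraMap R (C ⧸ J) = (θ.comp ψ).comp (algebraMap R _) from RingHom.ext fun r => rfl) ▸ h3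
  exact Frg7.topFiniteType_of_finiteType hR

include hR hA in
/-- Finite modules over the ring over the trace of a basic open are separated. -/
theorem mem_of_forall_mem_sup_basic {n : ℕ}
    (S : Submodule (Ring ((FSch.completionAlong _ (FSch.idealSpec A (I.map (algebraMap R A)))).Osh h) trD(g))
      (Fin n → Ring ((FSch.completionAlong _ (FSch.idealSpec A (I.map (algebraMap R A)))).Osh h) trD(g)))
    (x : Fin n → Ring ((FSch.completionAlong _ (FSch.idealSpec A (I.map (algebraMap R A)))).Osh h) trD(g))
    (hx : ∀ k, ∃ y, (∀ i, pr h trD(g) k (y i) = 0) ∧ x - y ∈ S) : x ∈ S := by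
  letI := algD h g
  obtain ⟨-, hker, hC⟩ := topFiniteType_ring hR hA h g
  haveI := isAdicComplete_finite hR hC (_ ⧸ S)
  refine (Submodule.Quotient.mk_eq_zero S).1 (IsHausdorff.haus'
    (I := I.map (algebraMap R (Ring ((FSch.completionAlong _ (FSch.idealSpec A (I.map (algebraMap R A)))).Osh h) trD(g)))) _
    fun k => ?_)
  rw [SModEq.zero]
  obtain ⟨y, hy, hxy⟩ := hx k
  rw [show Submodule.Quotient.mk (p := S) x = Submodule.Quotient.mk y from (Submodule.Quotient.eq S).2 hxy]
  refine Submodule.smul_mono_left (Ideal.pow_le_pow_right (Nat.le_succ k)) ?_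
  have h1 : y ∈ (I.map (algebraMap R (Ring ((FSch.completionAlong _ (FSch.idealSpec A (I.map (algebraMap R A)))).Osh h) trD(g)))) ^ (k + 1) •
      (⊤ : Submodule _ (Fin n → Ring ((FSch.completionAlong _ (FSch.idealSpec A (I.map (algebraMap R A)))).Osh h) trD(g))) :=
    mem_smul_top_of_apply_mem fun i => by rw [← hker, RingHom.mem_ker]; exact hy i
  have h2 := Submodule.mem_map_of_mem (f := S.mkQ) h1
  rw [Submodule.map_smul'', Submodule.map_top, Submodule.range_mkQ] at h2
  exact h2

end Groth.Agent.FMod90
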