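import Groth.Agent.FMod90.Recon
import Groth.Agent.FMod90.TopCompl
import Groth.Agent.FMod90.AffEssSys
import Groth.Agent.QCoh.Support

/-!
# Essential surjectivity of completion on formal spectra

A finitely presented module on the formal spectrum of an algebra topologically of finite presentation is the
realisation of its inverse images to the levels, hence the completion of a finitely presented module.
-/

set_option autoImplicit false
set_option maxHeartbeats 1000000
set_option backward.isDefEq.respectTransparency false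
set_option backward.isDefEq.respectTransparency.types false

universe u

open CategoryTheory CategoryTheory.Limits AlgebraicGeometry TopologicalSpace Opposite

namespace Groth.Agent.FMod90

open AdicRing

section gen

variable {𝔛 : FSch.Sys.{u}} (h : 𝔛.IsFormal) (𝔉 : FSch.ModF 𝔛 h)

/-- Inverse images of finitely presented modules to the levels are finitely presented. -/
theorem isFP_pullM [𝔉.IsFinitePresentation] (k : ℕ) : CohB1.IsFP (pullM h k 𝔉) := by
  choose U hx n m s r hp using exists_isPres 𝔉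
  choose P hP using fun x : 𝔛.X 0 => exists_presentation_pull h (hp x) k
  have hcov : ∀ y : 𝔛.X k, ∃ x, y ∈ 𝔛.lvU h k (U x) := fun y => ⟨_, hx (𝔛.gInv h k y)⟩
  refine isFinitePresentation_of_isPres (fun x : 𝔛.X 0 => 𝔛.lvU h k (U x)) hcov fun x => ?_
  have := hP x
  have : (QCoh.presentationOver (M := pullM h k 𝔉) (𝔛.lvU h k (U x)) (P x)).IsFinite :=
    { isFiniteType_generators := ⟨inferInstanceAs (Finite (P x).generators.I)⟩
      isFiniteType_relations := ⟨inferInstanceAs (Finite (P x).relations.I)⟩ }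
  exact exists_isPres_of_presentation (QCoh.presentationOver _ (P x))

theorem isCoh_pullM [𝔉.IsFinitePresentation] (k : ℕ) : Coh.IsCoh (pullM h k 𝔉) := by
  have hq : Coh.IsQCoh (pullM h k 𝔉) := QCoh.isQCoh_of_isFP (isFP_pullM h 𝔉 k)
  refine QCoh.isCoh_iff.2 ⟨hq, fun U => ?_⟩
  have := (QCoh.isFP_iff hq).1 (isFP_pullM h 𝔉 k) U
  infer_instance

/-- The transitions send the image of a section to its image. -/
theorem τ_pullSec90 {U : (𝔛.X 0).Opens} (k : ℕ) (y : Sec 𝔉 U) :
    τ h U (pullSys h 𝔉).F (pullSys h 𝔉).toPush k (pullSec90 h (k + 1) y) = pullSec90 h k y := by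
  exact ((congrArg (τ h U (pullSys h 𝔉).F (pullSys h 𝔉).toPush k) (rproj_toRealMod h (𝔉 := 𝔉) (k + 1) y).symm).trans
    (τ_rproj h U _ _ k (appL (toRealMod h 𝔉) U y))).trans (rproj_toRealMod h (𝔉 := 𝔉) k y)

/-- Sections of the realisation over an affine open with a presentation come from the module. -/
theorem surjective_toRealMod_of_isPres {U : (𝔛.X 0).Opens} (hU : IsAffineOpen U) {n m : ℕ}
    {s : Fin n → Sec 𝔉 U} {r : Fin m → Fin n → Ring (𝔛.Osh h) U} (hp : IsPres 𝔉 s r) :
    Function.Surjective (appL (toRealMod h 𝔉) U) := fun z => by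
  let P : ∀ k, (Fin n → Rn h U k) → Prop := fun k c =>
    ∑ i, c i • pullSec90 h k (s i) = rproj h U (pullSys h 𝔉).F (pullSys h 𝔉).toPush k z
  have h0 : ∃ c, P 0 c := exists_pull_coeff h hU hp 0 _
  have hτ : ∀ k (c : Fin n → Rn h U (k + 1)),
      τ h U (pullSys h 𝔉).F (pullSys h 𝔉).toPush k (∑ i, c i • pullSec90 h (k + 1) (s i)) =
        ∑ i, ρ h U k (c i) • pullSec90 h k (s i) := fun k c => by
    refine (map_sum _ _ _).trans (Finset.sum_congr rfl fun i _ => ?_)
    exact (τ_smul h U _ _ k _ _).trans (congrArg (ρ h U k (c i) • ·) (τ_pullSec90 h 𝔉 k (s i)))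
  have step : ∀ k (c : {c // P k c}), ∃ c' : {c' // P (k + 1) c'}, ∀ i, ρ h U k (c'.1 i) = c.1 i := by
    rintro k ⟨c, hc⟩
    obtain ⟨e, he⟩ := exists_pull_coeff h hU hp (k + 1)
      (rproj h U (pullSys h 𝔉).F (pullSys h 𝔉).toPush (k + 1) z)
    have hdiff : ∑ i, (ρ h U k (e i) - c i) • pullSec90 h k (s i) = 0 := by
      simp only [sub_smul, Finset.sum_sub_distrib]
      exact sub_eq_zero.2 ((hτ k e).symm.trans ((congrArg _ he).trans ((τ_rproj h U _ _ k z).trans hc.symm)))
    obtain ⟨d, hd⟩ := exists_pull_rel h hU hp k _ hdiff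
    choose d' hd' using fun l => ρ_surjective h hU k (d l)
    refine ⟨⟨fun i => e i - ∑ l, d' l * pr h U (k + 1) (r l i), ?_⟩, fun i => ?_⟩
    · change ∑ i, (e i - ∑ l, d' l * pr h U (k + 1) (r l i)) • pullSec90 h (k + 1) (s i) = _
      have hz : ∑ i, (∑ l, d' l * pr h U (k + 1) (r l i)) • pullSec90 h (k + 1) (s i) = 0 := by
        simp only [Finset.sum_smul, mul_smul]
        rw [Finset.sum_comm]
        refine Finset.sum_eq_zero fun l _ => ?_
        rw [← Finset.smul_sum]
        exact (congrArg (d' l • ·) (sum_pullSec90_eq_zero h hp (k + 1) l)).trans (smul_zero _)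
      simp only [sub_smul, Finset.sum_sub_distrib]
      exact (congrArg (_ - ·) hz).trans ((sub_zero _).trans he)
    · simp only [map_sub, map_sum, map_mul, ρ_pr, hd']
      rw [← hd i, sub_sub_cancel]
  choose F hF using step
  let cs : ∀ k, {c // P k c} := fun k => Nat.rec ⟨h0.choose, h0.choose_spec⟩ (fun k c => F k c) k
  choose a ha using fun i => exists_ring h U (fun k => (cs k).1 i) (fun k => hF k (cs k) i)
  refine ⟨comb s le_rfl a, lim_ext h U _ _ fun k => ?_⟩
  refine (rproj_toRealMod_comb h s a k).trans (Eq.trans ?_ (cs k).2)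
  simp only [ha]

/-- The realisation of an isomorphism of systems. -/
noncomputable def realModIso {𝔐 𝔑 : FSch.ModSys 𝔛} (e : 𝔐 ≅ 𝔑) : 𝔐.realMod h ≅ 𝔑.realMod h where
  hom := FSch.ModSys.realModMap h e.hom
  inv := FSch.ModSys.realModMap h e.inv
  hom_inv_id := by
    refine hom_ext fun V s => lim_ext h V _ _ fun k => ?_
    have h1 := congrArg (fun f => appL f V (appL (FSch.ModSys.realModMap h e.hom) V s))
      (FSch.realLimMap_realProj 𝔛 h e.inv.app (FSch.ModSys.Hom.toPush_comm e.inv) k)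
    have h2 := congrArg (fun f => appL f V s)
      (FSch.realLimMap_realProj 𝔛 h e.hom.app (FSch.ModSys.Hom.toPush_comm e.hom) k)
    refine h1.trans ((congrArg _ h2).trans ?_)
    exact congrArg (fun f => Scheme.Modules.Hom.app f _ (rproj h V 𝔐.F 𝔐.toPush k s))
      (congrArg (fun q => q.app k) e.hom_inv_id)
  inv_hom_id := by
    refine hom_ext fun V s => lim_ext h V _ _ fun k => ?_
    have h1 := congrArg (fun f => appL f V (appL (FSch.ModSys.realModMap h e.inv) V s))
      (FSch.realLimMap_realProj 𝔛 h e.hom.app (FSch.ModSys.Hom.toPush_comm e.hom) k)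
    have h2 := congrArg (fun f => appL f V s)
      (FSch.realLimMap_realProj 𝔛 h e.inv.app (FSch.ModSys.Hom.toPush_comm e.inv) k)
    refine h1.trans ((congrArg _ h2).trans ?_)
    exact congrArg (fun f => Scheme.Modules.Hom.app f _ (rproj h V 𝔑.F 𝔑.toPush k s))
      (congrArg (fun q => q.app k) e.inv_hom_id)

end gen

section aff

variable {R : Type u} [CommRing R] {I : Ideal R} (hR : IsBase R I) {A : Type u} [CommRing A] [Algebra R A]
  (hA : TopFiniteType R I A)
  (h : (FSch.completionAlong (Spec (CommRingCat.of A))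
    (FSch.idealSpec A (I.map (algebraMap R A)))).IsFormal)

set_option quotPrecheck false in
local notation "𝔛A" => FSch.completionAlong (Spec (CommRingCat.of A)) (FSch.idealSpec A (I.map (algebraMap R A)))
set_option quotPrecheck false in
local notation "trD(" g ")" =>
  (Opens.map (FSch.completionToX _ (FSch.idealSpec A (I.map (algebraMap R A))) 0).base).obj
    ((Spec (CommRingCat.of A)).affineBasicOpen (U := ⟨⊤, isAffineOpen_top _⟩) g).1

omit [Algebra R A] in
theorem isAffineOpen_trD [Algebra R A] (g : Γ(Spec (CommRingCat.of A), ⊤)) : IsAffineOpen trD(g) := by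
  haveI : IsClosedImmersion (FSch.completionToX _ (FSch.idealSpec A (I.map (algebraMap R A))) 0) :=
    inferInstanceAs (IsClosedImmersion (FSch.idealSpec A (I.map (algebraMap R A)) ^ (0 + 1)).subschemeι)
  exact ((Spec (CommRingCat.of A)).affineBasicOpen (U := ⟨⊤, isAffineOpen_top _⟩) g).2.preimage
    (FSch.completionToX _ (FSch.idealSpec A (I.map (algebraMap R A))) 0)

/-- The traces of basic opens form a basis. -/
theorem exists_trD_le {W : ((𝔛A).X 0).Opens} {x : (𝔛A).X 0} (hx : x ∈ W) :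
    ∃ g, x ∈ trD(g) ∧ trD(g) ≤ W := by
  haveI : IsClosedImmersion (FSch.completionToX _ (FSch.idealSpec A (I.map (algebraMap R A))) 0) :=
    inferInstanceAs (IsClosedImmersion (FSch.idealSpec A (I.map (algebraMap R A)) ^ (0 + 1)).subschemeι)
  obtain ⟨O, hO, hO'⟩ := (FSch.completionToX _ (FSch.idealSpec A (I.map (algebraMap R A))) 0).isClosedEmbedding.isInducing.isOpen_iff.1 W.2
  have hxO : (FSch.completionToX _ (FSch.idealSpec A (I.map (algebraMap R A))) 0).base x ∈ (⟨O, hO⟩ : Opens _) :=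
    (Set.ext_iff.1 hO' x).2 hx
  obtain ⟨g, hgO, hxg⟩ := (isAffineOpen_top (Spec (CommRingCat.of A))).exists_basicOpen_le ⟨_, hxO⟩ trivial
  exact ⟨g, hxg, fun y hy => (Set.ext_iff.1 hO' y).1 (hgO hy)⟩

include hR hA in
/-- A finitely presented module is the realisation of its inverse images to the levels. -/
theorem isIso_toRealMod_aff (𝔉 : FSch.ModF (𝔛A) h) [𝔉.IsFinitePresentation] : IsIso (toRealMod h 𝔉) := by
  have hB : Opens.IsBasis {V : ((𝔛A).X 0).Opens | (∃ g, V = trD(g)) ∧ ∃ (n m : ℕ) (s : Fin n → Sec 𝔉 V)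
      (r : Fin m → Fin n → Ring ((𝔛A).Osh h) V), IsPres 𝔉 s r} := by
    rw [Opens.isBasis_iff_nbhd]
    intro W x hx
    obtain ⟨U, hxU, n, m, s, r, hp⟩ := exists_isPres 𝔉 x
    obtain ⟨g, hxg, hg⟩ := exists_trD_le (show x ∈ W ⊓ U from ⟨hx, hxU⟩)
    exact ⟨_, ⟨⟨g, rfl⟩, n, m, _, _, hp.restrict (hg.trans inf_le_right)⟩, hxg, hg.trans inf_le_left⟩
  have : Epi (toRealMod h 𝔉) := by
    refine epi_of_isBasis _ hB fun V hV => ?_
    obtain ⟨⟨g, rfl⟩, n, m, s, r, hp⟩ := hV
    exact surjective_toRealMod_of_isPres h 𝔉 (isAffineOpen_trD g) hp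
  have : Mono (toRealMod h 𝔉) := by
    refine mono_of_injective _ fun W => (injective_iff_map_eq_zero _).2 fun y hy => ?_
    refine eq_zero_of_locally fun x hx => ?_
    obtain ⟨V₁, ⟨⟨g₁, rfl⟩, n, m, s₁, r₁, hp₁⟩, hxV₁, hV₁W⟩ := Opens.isBasis_iff_nbhd.1 hB hx
    obtain ⟨W₁, hW₁, a₁, hxW₁, ha₁⟩ := hp₁.gen _ le_rfl (res 𝔉 hV₁W y) x hxV₁
    obtain ⟨g, hxV, hVW₁⟩ := exists_trD_le hxW₁
    have hVV₁ : trD(g) ≤ trD(g₁) := hVW₁.trans hW₁
    have hV := isAffineOpen_trD (R := R) (I := I) g
    have hp := hp₁.restrict hVV₁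
    refine ⟨trD(g), hVV₁.trans hV₁W, hxV, ?_⟩
    let a : Fin n → Ring ((𝔛A).Osh h) trD(g) := fun i => rres _ hVW₁ (a₁ i)
    have hy' : res 𝔉 (hVV₁.trans hV₁W) y = comb (fun i => res 𝔉 hVV₁ (s₁ i)) le_rfl a := by
      have h1 := congrArg (res 𝔉 hVW₁) ha₁
      rw [res_comb, res_res, res_res] at h1
      refine h1.symm.trans ?_
      simp only [comb, res_res, a]
    have hzero : ∀ k, ∑ i, pr h trD(g) k (a i) • pullSec90 h k (res 𝔉 hVV₁ (s₁ i)) = 0 := fun k => by
      refine (rproj_toRealMod_comb h (fun i => res 𝔉 hVV₁ (s₁ i)) a k).symm.trans ?_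
      rw [← hy', ← res_appL, hy]
      exact (congrArg (rproj h trD(g) (pullSys h 𝔉).F (pullSys h 𝔉).toPush k)
        (map_zero (res ((pullSys h 𝔉).realMod h) (hVV₁.trans hV₁W)))).trans (map_zero _)
    let r : Fin m → Fin n → Ring ((𝔛A).Osh h) trD(g) := fun l i => rres _ hVV₁ (r₁ l i)
    have key : a ∈ Submodule.span (Ring ((𝔛A).Osh h) trD(g)) (Set.range r) := by
      refine mem_of_forall_mem_sup_basic hR hA h g _ _ fun k => ?_
      obtain ⟨d, hd⟩ := exists_pull_rel h hV hp k (fun i => pr h trD(g) k (a i)) (hzero k)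
      choose d' hd' using fun l => pr_surjective h hV k (d l)
      refine ⟨a - ∑ l, d' l • r l, fun i => ?_, ?_⟩
      · rw [Pi.sub_apply, map_sub, sub_eq_zero, Finset.sum_apply, map_sum]
        refine (hd i).trans (Finset.sum_congr rfl fun l _ => ?_)
        rw [Pi.smul_apply, smul_eq_mul, map_mul, hd']
      · rw [sub_sub_cancel]
        exact Submodule.sum_mem _ fun l _ => Submodule.smul_mem _ _ (Submodule.subset_span ⟨l, rfl⟩)
    obtain ⟨c, hc⟩ := (Submodule.mem_span_range_iff_exists_fun _).1 key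
    rw [hy']
    have h2 : a = fun i => ∑ l, c l * rres ((𝔛A).Osh h) le_rfl (r l i) := by
      rw [← hc]
      funext i
      rw [Finset.sum_apply]
      simp only [rres_refl, Pi.smul_apply, smul_eq_mul]
    rw [h2, comb_relation]
    exact Finset.sum_eq_zero fun l _ => by rw [hp.rel l, map_zero, smul_zero]
  exact isIso_of_mono_of_epi _

include hR hA in
/-- A finitely presented module is the completion of a finitely presented module. -/
theorem exists_iso_complMod_tilde (𝔉 : FSch.ModF (𝔛A) h) [𝔉.IsFinitePresentation] :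
    ∃ M : ModuleCat.{u} A, Module.FinitePresentation A M ∧
      Nonempty (𝔉 ≅ (FSch.complMod (FSch.idealSpec A (I.map (algebraMap R A)))
        (tilde (R := CommRingCat.of A) M)).realMod h) := by
  haveI : IsAdicComplete (I.map (algebraMap R A)) A := isAdicComplete_finite hR hA A
  haveI := isIso_toRealMod_aff hR hA h 𝔉
  obtain ⟨L, hL, hfp, ⟨e⟩⟩ := exists_iso_sys_fp (FComplLib.complData A (I.map (algebraMap R A)))
    ((Frg7.IsBase.fg hR).map _) (pullSys h 𝔉) (fun k => isCoh_pullM h 𝔉 k) fun k => isFP_pullM h 𝔉 k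
  rw [FComplLib.sys_complData] at e
  exact ⟨L, finitePresentation_of_trunc_module hR hA L hfp, ⟨asIso (toRealMod h 𝔉) ≪≫ realModIso h e⟩⟩

end aff

end Groth.Agent.FMod90
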