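import Groth.Prelude.Def_ModSite
import Groth.Agent.QCoh.ToSheaf
import Mathlib.Topology.Sheaves.SheafCondition.UniqueGluing
import Mathlib.Topology.Sheaves.LocallySurjective
import Mathlib.Algebra.Category.ModuleCat.Sheaf.Limits

/-!
# Sections of sheaves of modules on a ringed space
-/

set_option autoImplicit false

universe u

open CategoryTheory CategoryTheory.Limits Opposite TopologicalSpace

namespace Groth.Agent.FMod90

variable {T : TopCat.{u}} {O : Sheaf (Opens.grothendieckTopology T) CommRingCat.{u}}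

/-- The ring of sections over an open. -/
abbrev Ring (O : Sheaf (Opens.grothendieckTopology T) CommRingCat.{u}) (U : Opens T) : Type u :=
  O.obj.obj (op U)

/-- Sections of a module over an open. -/
abbrev Sec (M : ModSite.Mod O) (U : Opens T) : Type u := ModSite.sect M U

noncomputable instance moduleSec (M : ModSite.Mod O) (U : Opens T) : Module (Ring O U) (Sec M U) :=
  inferInstanceAs (Module ((ModSite.ringSh O).obj.obj (op U)) (M.val.obj (op U)))

variable (O) in
/-- Restriction of functions. -/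
noncomputable def rres {U V : Opens T} (h : V ≤ U) : Ring O U →+* Ring O V :=
  (O.obj.map (homOfLE h).op).hom

/-- Restriction of sections. -/
noncomputable def res (M : ModSite.Mod O) {U V : Opens T} (h : V ≤ U) : Sec M U →+ Sec M V :=
  ((ModSite.toAb M).obj.map (homOfLE h).op).hom

variable {M N P : ModSite.Mod O} {U V W : Opens T}

@[simp]
theorem rres_rres (h : V ≤ U) (h' : W ≤ V) (a : Ring O U) :
    rres O h' (rres O h a) = rres O (h'.trans h) a := by
  change (O.obj.map (homOfLE h).op ≫ O.obj.map (homOfLE h').op) a = _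
  rw [← Functor.map_comp]
  rfl

@[simp]
theorem rres_refl (h : U ≤ U) (a : Ring O U) : rres O h a = a := by
  change (O.obj.map (𝟙 (op U))) a = _
  rw [CategoryTheory.Functor.map_id]
  rfl

@[simp]
theorem res_res (h : V ≤ U) (h' : W ≤ V) (s : Sec M U) :
    res M h' (res M h s) = res M (h'.trans h) s := by
  change ((ModSite.toAb M).obj.map (homOfLE h).op ≫ (ModSite.toAb M).obj.map (homOfLE h').op) s = _
  rw [← Functor.map_comp]
  rfl

@[simp]
theorem res_refl (h : U ≤ U) (s : Sec M U) : res M h s = s := by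
  change ((ModSite.toAb M).obj.map (𝟙 (op U))) s = _
  rw [CategoryTheory.Functor.map_id]
  rfl

theorem res_smul (h : V ≤ U) (a : Ring O U) (s : Sec M U) :
    res M h (a • s) = rres O h a • res M h s :=
  PresheafOfModules.map_smul M.val (homOfLE h).op a s

/-- The action of a morphism on sections. -/
noncomputable def appL (φ : M ⟶ N) (U : Opens T) : Sec M U →ₗ[Ring O U] Sec N U where
  toFun s := (φ.val.app (op U)).hom s
  map_add' := map_add (φ.val.app (op U)).hom
  map_smul' := map_smul (φ.val.app (op U)).hom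

theorem res_appL (φ : M ⟶ N) (h : V ≤ U) (s : Sec M U) :
    res N h (appL φ U s) = appL φ V (res M h s) :=
  (PresheafOfModules.naturality_apply φ.val (homOfLE h).op s).symm

@[simp]
theorem appL_comp (φ : M ⟶ N) (ψ : N ⟶ P) (U : Opens T) (s : Sec M U) :
    appL (φ ≫ ψ) U s = appL ψ U (appL φ U s) := rfl

@[simp]
theorem appL_id (U : Opens T) (s : Sec M U) : appL (𝟙 M) U s = s := rfl

@[simp]
theorem appL_zero (U : Opens T) (s : Sec M U) : appL (0 : M ⟶ N) U s = 0 := rfl

@[simp]
theorem appL_add (φ ψ : M ⟶ N) (U : Opens T) (s : Sec M U) :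
    appL (φ + ψ) U s = appL φ U s + appL ψ U s := rfl

theorem hom_ext {φ ψ : M ⟶ N} (h : ∀ U s, appL φ U s = appL ψ U s) : φ = ψ := by
  apply SheafOfModules.hom_ext
  apply PresheafOfModules.hom_ext
  intro U
  ext s
  exact h U.unop s

/-- Constructor of morphisms from maps on sections. -/
noncomputable def mkHom (f : ∀ U, Sec M U →ₗ[Ring O U] Sec N U)
    (hf : ∀ U V (h : V ≤ U) s, res N h (f U s) = f V (res M h s)) : M ⟶ N :=
  ⟨{ app := fun U => ModuleCat.ofHom (R := (ModSite.ringSh O).obj.obj U)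
        { toFun := f U.unop
          map_add' := map_add (f U.unop)
          map_smul' := map_smul (f U.unop) }
     naturality := fun {U V} g => by
       ext s
       exact (hf U.unop V.unop (leOfHom g.unop) s).symm }⟩

@[simp]
theorem appL_mkHom (f : ∀ U, Sec M U →ₗ[Ring O U] Sec N U) (hf) (U : Opens T) (s : Sec M U) :
    appL (mkHom f hf) U s = f U s := rfl

/-- Sections agreeing locally are equal. -/
theorem eq_of_locally {s t : Sec M U}
    (h : ∀ x ∈ U, ∃ (W : Opens T) (hW : W ≤ U), x ∈ W ∧ res M hW s = res M hW t) : s = t := by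
  choose W hW hx hst using fun x : U => h x.1 x.2
  exact TopCat.Sheaf.eq_of_locally_eq' (X := T) (ModSite.toAb M) W U (fun x => homOfLE (hW x))
    (fun x hxU => Opens.mem_iSup.2 ⟨⟨x, hxU⟩, hx _⟩) s t hst

theorem eq_zero_of_locally {s : Sec M U}
    (h : ∀ x ∈ U, ∃ (W : Opens T) (hW : W ≤ U), x ∈ W ∧ res M hW s = 0) : s = 0 :=
  eq_of_locally fun x hx => by
    obtain ⟨W, hW, hxW, hs⟩ := h x hx
    exact ⟨W, hW, hxW, hs.trans (map_zero _).symm⟩

/-- Compatible local sections glue. -/
theorem exists_glue {ι : Type u} (W : ι → Opens T) (hW : ∀ i, W i ≤ U) (hcov : U ≤ iSup W)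
    (s : ∀ i, Sec M (W i))
    (hs : ∀ i j, res M (inf_le_left : W i ⊓ W j ≤ W i) (s i) = res M inf_le_right (s j)) :
    ∃ t : Sec M U, ∀ i, res M (hW i) t = s i := by
  obtain ⟨t, ht, -⟩ := TopCat.Sheaf.existsUnique_gluing' (X := T) (ModSite.toAb M) W U
    (fun i => homOfLE (hW i)) hcov s (fun i j => hs i j)
  exact ⟨t, ht⟩

/-- Sections which lift locally. -/
def LocLift (φ : M ⟶ N) {U : Opens T} (y : Sec N U) : Prop :=
  ∀ x ∈ U, ∃ (W : Opens T) (h : W ≤ U) (s : Sec M W), x ∈ W ∧ appL φ W s = res N h y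

theorem locLift_of_mem {φ : M ⟶ N} {y : Sec N U} (h : y ∈ LinearMap.range (appL φ U)) :
    LocLift φ y := by
  obtain ⟨s, rfl⟩ := h
  exact fun x hx => ⟨U, le_rfl, s, hx, (res_refl _ _).symm⟩

theorem isLocallySurjective_of_locLift (φ : M ⟶ N) (h : ∀ U (y : Sec N U), LocLift φ y) :
    Sheaf.IsLocallySurjective ((SheafOfModules.toSheaf (ModSite.ringSh O)).map φ) :=
  ⟨fun {U} y x hx => by
    obtain ⟨W, hW, s, hxW, hs⟩ := h U y x hx
    exact ⟨W, homOfLE hW, ⟨s, hs⟩, hxW⟩⟩

/-- A morphism with locally surjective maps on sections is an epimorphism. -/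
theorem epi_of_locLift (φ : M ⟶ N) (h : ∀ U (y : Sec N U), LocLift φ y) : Epi φ :=
  have : Epi ((SheafOfModules.toSheaf (ModSite.ringSh O)).map φ) :=
    (Sheaf.isLocallySurjective_iff_epi' _ _).1 (isLocallySurjective_of_locLift φ h)
  (SheafOfModules.toSheaf (ModSite.ringSh O)).epi_of_epi_map this

theorem locLift_of_epi (φ : M ⟶ N) [Epi φ] (y : Sec N U) : LocLift φ y := by
  have h : Sheaf.IsLocallySurjective ((SheafOfModules.toSheaf (ModSite.ringSh O)).map φ) :=
    (Sheaf.isLocallySurjective_iff_epi' _ _).2 inferInstance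
  intro x hx
  obtain ⟨W, g, ⟨s, hs⟩, hxW⟩ := h.imageSieve_mem y x hx
  exact ⟨W, leOfHom g, s, hxW, hs⟩

/-- Surjectivity on a basis gives an epimorphism. -/
theorem epi_of_isBasis (φ : M ⟶ N) {B : Set (Opens T)} (hB : Opens.IsBasis B)
    (h : ∀ V ∈ B, Function.Surjective (appL φ V)) : Epi φ :=
  epi_of_locLift φ fun U y x hx => by
    obtain ⟨V, hV, hxV, hVU⟩ := Opens.isBasis_iff_nbhd.1 hB hx
    obtain ⟨s, hs⟩ := h V hV (res N hVU y)
    exact ⟨V, hVU, s, hxV, hs⟩

theorem mono_of_injective (φ : M ⟶ N) (h : ∀ U, Function.Injective (appL φ U)) : Mono φ :=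
  (SheafOfModules.forget _).mono_of_mono_map (PresheafOfModules.mono_of_injective fun U => h U.unop)

theorem injective_of_mono (φ : M ⟶ N) [Mono φ] (U : Opens T) : Function.Injective (appL φ U) :=
  (ModuleCat.mono_iff_injective _).1
    (inferInstanceAs (Mono ((SheafOfModules.evaluation (ModSite.ringSh O) (op U)).map φ)))

/-- Injectivity on a basis gives a monomorphism. -/
theorem mono_of_isBasis (φ : M ⟶ N) {B : Set (Opens T)} (hB : Opens.IsBasis B)
    (h : ∀ V ∈ B, Function.Injective (appL φ V)) : Mono φ :=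
  mono_of_injective φ fun U s t hst => eq_of_locally fun x hx => by
    obtain ⟨V, hV, hxV, hVU⟩ := Opens.isBasis_iff_nbhd.1 hB hx
    refine ⟨V, hVU, hxV, h V hV ?_⟩
    rw [← res_appL, ← res_appL, hst]

theorem bijective_of_isIso (φ : M ⟶ N) [IsIso φ] (U : Opens T) : Function.Bijective (appL φ U) :=
  Function.bijective_iff_has_inverse.2 ⟨appL (inv φ) U,
    fun s => by rw [← appL_comp, IsIso.hom_inv_id, appL_id],
    fun s => by rw [← appL_comp, IsIso.inv_hom_id, appL_id]⟩

/-- Bijectivity on a basis gives an isomorphism. -/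
theorem isIso_of_isBasis (φ : M ⟶ N) {B : Set (Opens T)} (hB : Opens.IsBasis B)
    (h : ∀ V ∈ B, Function.Bijective (appL φ V)) : IsIso φ :=
  have := epi_of_isBasis φ hB fun V hV => (h V hV).2
  have := mono_of_isBasis φ hB fun V hV => (h V hV).1
  isIso_of_mono_of_epi φ

/-- Sections of a kernel. -/
theorem exists_kernel_lift (φ : M ⟶ N) (s : Sec M U) (h : appL φ U s = 0) :
    ∃ t : Sec (kernel φ) U, appL (kernel.ι φ) U t = s := by
  let F := SheafOfModules.forget (ModSite.ringSh O) ⋙
    PresheafOfModules.evaluation (ModSite.ringSh O).obj (op U)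
  let hl := KernelFork.mapIsLimit _ (kernelIsKernel φ) F
  have hl' := ModuleCat.kernelIsLimit (F.map φ)
  refine ⟨(IsLimit.conePointUniqueUpToIso hl' hl).hom.hom ⟨s, h⟩, ?_⟩
  exact congrArg (fun f => f.hom ⟨s, h⟩)
    (IsLimit.conePointUniqueUpToIso_hom_comp hl' hl WalkingParallelPair.zero)

theorem appL_kernel_condition (φ : M ⟶ N) (t : Sec (kernel φ) U) :
    appL φ U (appL (kernel.ι φ) U t) = 0 := by
  rw [← appL_comp, kernel.condition, appL_zero]

/-- Exactness checked on a basis. -/
theorem exact_of_isBasis (S : ShortComplex (ModSite.Mod O)) {B : Set (Opens T)} (hB : Opens.IsBasis B)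
    (h : ∀ V ∈ B, ∀ s, appL S.g V s = 0 → s ∈ LinearMap.range (appL S.f V)) : S.Exact := by
  refine S.exact_iff_epi_kernel_lift.2 (epi_of_isBasis _ hB fun V hV t => ?_)
  obtain ⟨a, ha⟩ := h V hV (appL (kernel.ι S.g) V t) (appL_kernel_condition S.g t)
  refine ⟨a, injective_of_mono (kernel.ι S.g) V ?_⟩
  rw [← appL_comp, kernel.lift_ι]
  exact ha

end Groth.Agent.FMod90
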