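import Groth.Agent.FMod90.FreeSect
import Mathlib.CategoryTheory.Sites.Spaces
import Mathlib.Algebra.Category.ModuleCat.Sheaf.Quasicoherent

/-!
# Local presentations of sheaves of modules by sections

For a sheaf of modules `M` on a ringed space and an open `U`, `IsPres s r` says that the sections `s`
over `U` generate `M|_U` and that the relations `r` generate all relations between them.
-/

set_option autoImplicit false
set_option backward.isDefEq.respectTransparency false
set_option backward.isDefEq.respectTransparency.types false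

universe u

open CategoryTheory CategoryTheory.Limits Opposite TopologicalSpace

namespace Groth.Agent.FMod90

variable {T : TopCat.{u}} {O : Sheaf (Opens.grothendieckTopology T) CommRingCat.{u}}
  {M N : ModSite.Mod O} {U V W : Opens T} {n m : ℕ}

/-- A linear combination of restricted sections. -/
noncomputable def comb (s : Fin n → Sec M U) (h : V ≤ U) (a : Fin n → Ring O V) : Sec M V :=
  ∑ i, a i • res M h (s i)

theorem res_comb (s : Fin n → Sec M U) (h : V ≤ U) (h' : W ≤ V) (a : Fin n → Ring O V) :
    res M h' (comb s h a) = comb s (h'.trans h) fun i => rres O h' (a i) := by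
  simp only [comb, map_sum, res_smul, res_res]

theorem appL_comb (φ : M ⟶ N) (s : Fin n → Sec M U) (h : V ≤ U) (a : Fin n → Ring O V) :
    appL φ V (comb s h a) = comb (fun i => appL φ U (s i)) h a := by
  simp only [comb, map_sum, map_smul, res_appL]

theorem comb_add (s : Fin n → Sec M U) (h : V ≤ U) (a b : Fin n → Ring O V) :
    comb s h (fun i => a i + b i) = comb s h a + comb s h b := by
  simp only [comb, add_smul, Finset.sum_add_distrib]

theorem comb_sub (s : Fin n → Sec M U) (h : V ≤ U) (a b : Fin n → Ring O V) :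
    comb s h (fun i => a i - b i) = comb s h a - comb s h b := by
  simp only [comb, sub_smul, Finset.sum_sub_distrib]

theorem comb_mul (s : Fin n → Sec M U) (h : V ≤ U) (c : Ring O V) (a : Fin n → Ring O V) :
    comb s h (fun i => c * a i) = c • comb s h a := by
  simp only [comb, mul_smul, Finset.smul_sum]

theorem comb_relation (t : Fin n → Sec M U) (r : Fin m → Fin n → Ring O U) (h : V ≤ U)
    (c : Fin m → Ring O V) :
    comb t h (fun i => ∑ l, c l * rres O h (r l i)) = ∑ l, c l • res M h (comb t le_rfl (r l)) := by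
  simp only [res_comb]
  simp only [comb, Finset.sum_smul, Finset.smul_sum, mul_smul]
  exact Finset.sum_comm

/-- The standard coefficient vectors. -/
noncomputable def delta (i : Fin n) : Fin n → Ring O V :=
  fun j => if j = i then 1 else 0

theorem comb_delta (s : Fin n → Sec M U) (h : V ≤ U) (i : Fin n) :
    comb s h (delta i) = res M h (s i) := by
  simp [comb, delta]

variable (M) in
/-- The sections `s` over `U` generate `M|_U`. -/
def IsGen (s : Fin n → Sec M U) : Prop :=
  ∀ (V : Opens T) (h : V ≤ U) (y : Sec M V), ∀ x ∈ V,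
    ∃ (W : Opens T) (hW : W ≤ V) (a : Fin n → Ring O W), x ∈ W ∧ comb s (hW.trans h) a = res M hW y

variable (M) in
/-- A presentation of `M|_U` by sections and relations. -/
structure IsPres (s : Fin n → Sec M U) (r : Fin m → Fin n → Ring O U) : Prop where
  gen : IsGen M s
  rel : ∀ l, comb s le_rfl (r l) = 0
  exact : ∀ (V : Opens T) (h : V ≤ U) (a : Fin n → Ring O V), comb s h a = 0 → ∀ x ∈ V,
    ∃ (W : Opens T) (hW : W ≤ V) (c : Fin m → Ring O W), x ∈ W ∧
      ∀ i, rres O hW (a i) = ∑ l, c l * rres O (hW.trans h) (r l i)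

theorem IsGen.restrict {s : Fin n → Sec M U} (hs : IsGen M s) (h : V ≤ U) :
    IsGen M fun i => res M h (s i) := by
  intro W hW y x hx
  obtain ⟨W', hW', a, hxW, ha⟩ := hs W (hW.trans h) y x hx
  refine ⟨W', hW', a, hxW, Eq.trans ?_ ha⟩
  simp only [comb, res_res]

theorem IsPres.restrict {s : Fin n → Sec M U} {r : Fin m → Fin n → Ring O U} (hp : IsPres M s r)
    (h : V ≤ U) : IsPres M (fun i => res M h (s i)) fun l i => rres O h (r l i) := by
  refine ⟨hp.gen.restrict h, fun l => ?_, fun W hW a ha x hx => ?_⟩
  · have h0 := congrArg (res M h) (hp.rel l)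
    rw [map_zero, res_comb] at h0
    refine Eq.trans ?_ h0
    simp only [comb, res_res]
  · have ha' : comb s (hW.trans h) a = 0 := by
      refine Eq.trans ?_ ha
      simp only [comb, res_res]
    obtain ⟨W', hW', c, hxW, hc⟩ := hp.exact W (hW.trans h) a ha' x hx
    exact ⟨W', hW', c, hxW, fun i => (hc i).trans (by simp only [rres_rres])⟩

/-- A module all of whose sections are determined on `U`. -/
def IsSuppOn (N : ModSite.Mod O) (U : Opens T) : Prop :=
  ∀ V : Opens T, Function.Bijective (res N (inf_le_left : V ⊓ U ≤ V))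

theorem isSuppOn_top (N : ModSite.Mod O) : IsSuppOn N ⊤ := by
  intro V
  refine Function.bijective_iff_has_inverse.2 ⟨res N (le_inf le_rfl le_top), fun s => ?_, fun s => ?_⟩
  · rw [res_res]; exact res_refl _ _
  · rw [res_res]; exact res_refl _ _

/-- Morphisms into a module supported on `U` are determined by the generators. -/
theorem hom_ext_of_isGen {s : Fin n → Sec M U} (hs : IsGen M s) (hN : IsSuppOn N U) {φ ψ : M ⟶ N}
    (h : ∀ i, appL φ U (s i) = appL ψ U (s i)) : φ = ψ := by
  refine hom_ext fun V y => (hN V).1 (eq_of_locally fun x hx => ?_)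
  obtain ⟨W, hW, a, hxW, ha⟩ := hs (V ⊓ U) inf_le_right (res M inf_le_left y) x hx
  refine ⟨W, hW, hxW, ?_⟩
  rw [res_appL, res_appL, res_appL, res_appL, ← ha, appL_comb, appL_comb]
  simp only [comb, h]

section hom

variable {s : Fin n → Sec M U} {r : Fin m → Fin n → Ring O U} (hp : IsPres M s r)
  (hN : IsSuppOn N U) {t : Fin n → Sec N U} (ht : ∀ l, comb t le_rfl (r l) = 0)

include hp ht in
/-- Combinations of the images depend only on the combination of the generators. -/
theorem comb_congr {h : V ≤ U} {a b : Fin n → Ring O V} (hab : comb s h a = comb s h b) :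
    comb t h a = comb t h b := by
  rw [← sub_eq_zero, ← comb_sub]
  refine eq_zero_of_locally fun x hx => ?_
  obtain ⟨W, hW, c, hxW, hc⟩ :=
    hp.exact V h (fun i => a i - b i) (by rw [comb_sub, hab, sub_self]) x hx
  refine ⟨W, hW, hxW, ?_⟩
  rw [res_comb]
  simp only [hc]
  rw [comb_relation]
  simp [ht]

variable (s) (t) in
/-- `z` is the image of `y` under the morphism with `s i ↦ t i`. -/
def Rel {V : Opens T} (y : Sec M V) (z : Sec N V) : Prop :=
  ∀ (W : Opens T) (h : W ≤ V) (h' : W ≤ U) (a : Fin n → Ring O W),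
    comb s h' a = res M h y → res N h z = comb t h' a

include hp hN in
theorem rel_unique {y : Sec M V} {z z' : Sec N V} (hz : Rel s t y z) (hz' : Rel s t y z') :
    z = z' := by
  refine (hN V).1 (eq_of_locally fun x hx => ?_)
  obtain ⟨W, hW, a, hxW, ha⟩ := hp.gen (V ⊓ U) inf_le_right (res M inf_le_left y) x hx
  rw [res_res] at ha
  refine ⟨W, hW, hxW, ?_⟩
  rw [res_res, res_res, hz W (hW.trans inf_le_left) (hW.trans inf_le_right) a ha,
    hz' W (hW.trans inf_le_left) (hW.trans inf_le_right) a ha]

include hp hN ht in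
theorem exists_rel (y : Sec M V) : ∃ z, Rel s t y z := by
  choose Wx hWx a hxW ha using fun x : (V ⊓ U : Opens T) =>
    hp.gen (V ⊓ U) inf_le_right (res M inf_le_left y) x.1 x.2
  simp only [res_res] at ha
  obtain ⟨z', hz'⟩ := exists_glue (M := N) (U := V ⊓ U) Wx hWx
    (fun x hx => Opens.mem_iSup.2 ⟨⟨x, hx⟩, hxW _⟩)
    (fun x => comb t ((hWx x).trans inf_le_right) (a x)) fun x x' => by
      rw [res_comb, res_comb]
      refine comb_congr hp ht ?_
      rw [← res_comb s ((hWx x).trans inf_le_right), ← res_comb s ((hWx x').trans inf_le_right),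
        ha, ha, res_res, res_res]
  obtain ⟨z, rfl⟩ := (hN V).2 z'
  refine ⟨z, fun W h h' b hb => eq_of_locally fun x hx => ?_⟩
  let x' : (V ⊓ U : Opens T) := ⟨x, h hx, h' hx⟩
  refine ⟨W ⊓ Wx x', inf_le_left, ⟨hx, hxW x'⟩, ?_⟩
  have h1 := congrArg (res N (inf_le_right : W ⊓ Wx x' ≤ Wx x')) (hz' x')
  rw [res_res, res_res, res_comb] at h1
  rw [res_res, res_comb]
  refine h1.trans (comb_congr hp ht ?_)
  rw [← res_comb s ((hWx x').trans inf_le_right), ← res_comb s h', ha, hb, res_res, res_res]

/-- The morphism with prescribed values on the generators of a presentation. -/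
noncomputable def homOfPres : M ⟶ N :=
  mkHom
    (fun V =>
      { toFun := fun y => (exists_rel hp hN ht y).choose
        map_add' := fun y y' => rel_unique hp hN (exists_rel hp hN ht (y + y')).choose_spec (by
          intro W h h' b hb
          refine eq_of_locally fun x hx => ?_
          obtain ⟨W', hW', a, hxW, ha⟩ := hp.gen W h' (res M h y) x hx
          rw [res_res] at ha
          have hb' := congrArg (res M hW') hb
          rw [res_res, map_add, ← ha, res_comb, ← sub_eq_iff_eq_add'] at hb'
          refine ⟨W', hW', hxW, ?_⟩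
          rw [res_res, map_add, (exists_rel hp hN ht y).choose_spec W' (hW'.trans h) (hW'.trans h') a ha,
            (exists_rel hp hN ht y').choose_spec W' (hW'.trans h) (hW'.trans h')
              (fun i => rres O hW' (b i) - a i) (by rw [comb_sub, hb']),
            res_comb, comb_sub, add_sub_cancel])
        map_smul' := fun c y => rel_unique hp hN (exists_rel hp hN ht (c • y)).choose_spec (by
          intro W h h' b hb
          refine eq_of_locally fun x hx => ?_
          obtain ⟨W', hW', a, hxW, ha⟩ := hp.gen W h' (res M h y) x hx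
          rw [res_res] at ha
          have hb' := congrArg (res M hW') hb
          rw [res_res, res_smul, ← ha, res_comb, ← comb_mul] at hb'
          refine ⟨W', hW', hxW, ?_⟩
          rw [res_res, res_smul,
            (exists_rel hp hN ht y).choose_spec W' (hW'.trans h) (hW'.trans h') a ha, ← comb_mul,
            res_comb]
          exact (comb_congr hp ht hb').symm) })
    (fun V V' h y => rel_unique hp hN
      (fun W hW hW' b hb => by
        rw [res_res]
        exact (exists_rel hp hN ht y).choose_spec W (hW.trans h) hW' b (by rw [hb, res_res]))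
      (exists_rel hp hN ht (res M h y)).choose_spec)

theorem appL_homOfPres (i : Fin n) : appL (homOfPres hp hN ht) U (s i) = t i := by
  rw [homOfPres, appL_mkHom]
  have h := (exists_rel hp hN ht (s i)).choose_spec U le_rfl le_rfl (delta i) (comb_delta _ _ _)
  rw [comb_delta, res_refl, res_refl] at h
  exact h

end hom

section data

/-- The sections over the site of `U` of a module, defined by a section over `U`. -/
noncomputable def overSection (a : Sec M U) : (M.over U).sections :=
  PresheafOfModules.sectionsMk (fun Y => res M (leOfHom Y.unop.hom) a)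
    fun _ _ f => res_res _ (leOfHom f.unop.left) a

theorem over_sections_val (a : (M.over U).sections) (Y : Over U) :
    (a.val (op Y) : Sec M Y.left) = res M (leOfHom Y.hom) (a.val (op (Over.mk (𝟙 U)))) :=
  (a.property (Over.homMk Y.hom : Y ⟶ Over.mk (𝟙 U)).op).symm

/-- A covering sieve of the localised site, pointwise. -/
theorem exists_mem_of_cover {Y : Over U} {S : Sieve Y}
    (hS : S ∈ (Opens.grothendieckTopology T).over U Y) {x : T} (hx : x ∈ Y.left) :
    ∃ (W : Opens T) (hW : W ≤ Y.left), x ∈ W ∧
      S (Over.homMk (homOfLE hW) : Over.mk (homOfLE hW ≫ Y.hom) ⟶ Y) := by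
  rw [GrothendieckTopology.mem_over_iff] at hS
  obtain ⟨W, f, hf, hxW⟩ := hS x hx
  exact ⟨W, leOfHom f, hxW, (Sieve.overEquiv_iff _ _).1 hf⟩

/-- A pointwise covering sieve of the localised site. -/
theorem cover_of_forall_mem {Y : Over U} {S : Sieve Y}
    (h : ∀ x ∈ Y.left, ∃ (W : Opens T) (hW : W ≤ Y.left), x ∈ W ∧
      S (Over.homMk (homOfLE hW) : Over.mk (homOfLE hW ≫ Y.hom) ⟶ Y)) :
    S ∈ (Opens.grothendieckTopology T).over U Y := by
  rw [GrothendieckTopology.mem_over_iff]
  intro x hx
  obtain ⟨W, hW, hxW, hS⟩ := h x hx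
  exact ⟨W, homOfLE hW, (Sieve.overEquiv_iff _ _).2 hS, hxW⟩

variable {I : Type u} [Fintype I]

/-- Morphisms out of a finite free module over `U`, on sections. -/
theorem app_free_sum (g : (SheafOfModules.free I : ModSite.Mod (O.over U)) ⟶ M.over U)
    (Y : Over U) (a : I → Ring O Y.left) :
    (Site.app g Y (∑ i, (a i : Site.Scal (O.over U) Y) • Site.basisSec (O := O.over U) i Y) : Sec M Y.left) =
      ∑ i, a i • res M (leOfHom Y.hom) ((M.over U).freeHomEquiv g i |>.val (op (Over.mk (𝟙 U)))) := by
  rw [map_sum]
  refine Finset.sum_congr rfl fun i _ => ?_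
  rw [map_smul, Site.app_basisSec, over_sections_val]

/-- Generating sections over `U`, read as sections over `U`. -/
theorem isGen_of_generators (σ : (M.over U).GeneratingSections) [σ.IsFiniteType] :
    ∃ (n : ℕ) (e : σ.I ≃ Fin n),
      IsGen M fun i => ((σ.s (e.symm i)).val (op (Over.mk (𝟙 U))) : Sec M U) := by
  haveI := Fintype.ofFinite σ.I
  refine ⟨_, Fintype.equivFin σ.I, fun V h y x hx => ?_⟩
  let Y : Over U := Over.mk (homOfLE h)
  obtain ⟨S, hS, hlift⟩ := Site.exists_cover_lift (O := O.over U) σ.π (W := Y) y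
  obtain ⟨W, hW, hxW, hSW⟩ := exists_mem_of_cover hS hx
  obtain ⟨z, hz⟩ := hlift _ hSW
  refine ⟨W, hW, fun i => Site.app (Site.proj (O := O.over U) ((Fintype.equivFin σ.I).symm i)) _ z, hxW, ?_⟩
  refine Eq.trans ?_ hz
  conv_rhs => rw [Site.eq_sum _ z]
  refine Eq.trans ?_ (app_free_sum σ.π (Over.mk (homOfLE hW ≫ Y.hom))
    fun j => Site.app (Site.proj (O := O.over U) j) _ z).symm
  rw [Equiv.apply_symm_apply]
  exact (Fintype.equivFin σ.I).symm.sum_comp fun j => (Site.app (Site.proj (O := O.over U) j) _ z : Ring O W) •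
    res M (hW.trans h) ((σ.s j).val (op (Over.mk (𝟙 U))))

/-- A finite presentation over `U` gives a presentation by sections. -/
theorem exists_isPres_of_presentation (P : (M.over U).Presentation) [P.IsFinite] :
    ∃ (n m : ℕ) (s : Fin n → Sec M U) (r : Fin m → Fin n → Ring O U), IsPres M s r := by
  haveI := Fintype.ofFinite P.generators.I
  haveI := Fintype.ofFinite P.relations.I
  obtain ⟨n, e, hgen⟩ := isGen_of_generators P.generators
  obtain ⟨m, e', -⟩ : ∃ (m : ℕ) (_ : P.relations.I ≃ Fin m), True :=
    ⟨_, Fintype.equivFin _, trivial⟩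
  let Y₀ : Over U := Over.mk (𝟙 U)
  let f : (SheafOfModules.free P.relations.I : ModSite.Mod (O.over U)) ⟶
      SheafOfModules.free P.generators.I := P.relations.π ≫ kernel.ι P.generators.π
  let ρ : P.relations.I → ModSite.sect (SheafOfModules.free P.generators.I : ModSite.Mod (O.over U)) Y₀ :=
    fun l => Site.app f Y₀ (Site.basisSec (O := O.over U) l Y₀)
  have hρ : ∀ l, Site.app P.generators.π Y₀ (ρ l) = 0 := fun l => by
    rw [← Site.app_comp]
    simp only [f, Category.assoc, kernel.condition, comp_zero]
    exact Site.app_zero _ _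
  refine ⟨n, m, _, fun l i => Site.app (Site.proj (O := O.over U) (e.symm i)) Y₀ (ρ (e'.symm l)), hgen,
    fun l => ?_, fun V h a ha x hx => ?_⟩
  · refine Eq.trans ?_ (hρ (e'.symm l))
    conv_rhs => rw [Site.eq_sum _ (ρ (e'.symm l))]
    refine Eq.trans ?_ (app_free_sum P.generators.π Y₀
      fun j => Site.app (Site.proj (O := O.over U) j) Y₀ (ρ (e'.symm l))).symm
    rw [Equiv.apply_symm_apply]
    exact e.symm.sum_comp fun j => (Site.app (Site.proj (O := O.over U) j) Y₀ (ρ (e'.symm l)) : Ring O U) •
      res M (le_refl U) ((P.generators.s j).val (op Y₀))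
  · let Y : Over U := Over.mk (homOfLE h)
    have hz : Site.app P.generators.π Y
        (∑ j, (a (e j) : Site.Scal (O.over U) Y) • Site.basisSec (O := O.over U) j Y) = 0 := by
      refine (app_free_sum P.generators.π Y fun j => a (e j)).trans (Eq.trans ?_ ha)
      rw [Equiv.apply_symm_apply, comb, ← e.sum_comp]
      simp only [Equiv.symm_apply_apply]
      rfl
    obtain ⟨k, hk⟩ := Site.exists_kernel_lift _ _ hz
    obtain ⟨S, hS, hlift⟩ := Site.exists_cover_lift P.relations.π (W := Y) k
    obtain ⟨W, hW, hxW, hSW⟩ := exists_mem_of_cover hS hx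
    obtain ⟨z, hz'⟩ := hlift _ hSW
    let Y' : Over U := Over.mk (homOfLE hW ≫ Y.hom)
    refine ⟨W, hW, fun l => Site.app (Site.proj (O := O.over U) (e'.symm l)) Y' z, hxW, fun i => ?_⟩
    have hfz : Site.app f Y' z = Site.mapS _ (Over.homMk (homOfLE hW) : Y' ⟶ Y)
        (∑ j, (a (e j) : Site.Scal (O.over U) Y) • Site.basisSec (O := O.over U) j Y) := by
      rw [← hk, Site.map_app, ← hz']
      rfl
    have h2 := Site.coeff_of_lift f (Over.homMk (homOfLE (hW.trans h)) : Y' ⟶ Y₀) _ _ z hfz (e.symm i)
    simp only [Site.coeff, Site.app_proj_sum] at h2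
    refine Eq.trans (congrArg (rres O hW) ?_) (h2.trans ?_)
    · exact congrArg a (e.apply_symm_apply i).symm
    · exact (e'.symm.sum_comp fun j => (show Ring O W from Site.coeff (O := O.over U) j Y' z) *
        rres O (hW.trans h) (show Ring O U from Site.coeff (O := O.over U) (e.symm i) Y₀ (ρ j))).symm

/-- A finitely presented module is locally presented by sections. -/
theorem exists_isPres (M : ModSite.Mod O) [M.IsFinitePresentation] (x : T) :
    ∃ (U : Opens T) (_ : x ∈ U) (n m : ℕ) (s : Fin n → Sec M U) (r : Fin m → Fin n → Ring O U),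
      IsPres M s r := by
  obtain ⟨σ, hσ⟩ := SheafOfModules.IsFinitePresentation.exists_quasicoherentData M
  obtain ⟨i, hi⟩ := IsOpenCover.exists_mem ((Opens.coversTop_iff T σ.X).1 σ.coversTop) x
  have := hσ.isFinite_presentation i
  exact ⟨σ.X i, hi, exists_isPres_of_presentation (σ.presentation i)⟩

/-- A module of finite type is locally generated by sections. -/
theorem exists_isGen (M : ModSite.Mod O) [M.IsFiniteType] (x : T) :
    ∃ (U : Opens T) (_ : x ∈ U) (n : ℕ) (s : Fin n → Sec M U), IsGen M s := by
  obtain ⟨σ, hσ⟩ := SheafOfModules.IsFiniteType.exists_localGeneratorsData M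
  obtain ⟨i, hi⟩ := IsOpenCover.exists_mem ((Opens.coversTop_iff T σ.X).1 σ.coversTop) x
  have := hσ.isFiniteType i
  obtain ⟨n, e, h⟩ := isGen_of_generators (σ.generators i)
  exact ⟨σ.X i, hi, n, _, h⟩

variable (M) in
/-- The morphism from a free module over `U` given by sections. -/
noncomputable def freeToOver (s : Fin n → Sec M U) :
    (SheafOfModules.free (ULift.{u} (Fin n)) : ModSite.Mod (O.over U)) ⟶ M.over U :=
  (M.over U).freeHomEquiv.symm fun i => overSection (s i.down)

theorem app_freeToOver (s : Fin n → Sec M U) (Y : Over U) (a : Fin n → Ring O Y.left) :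
    (Site.app (freeToOver M s) Y
      (∑ i : ULift.{u} (Fin n), (a i.down : Site.Scal (O.over U) Y) • Site.basisSec (O := O.over U) i Y) :
        Sec M Y.left) = comb s (leOfHom Y.hom) a := by
  refine (app_free_sum _ _ _).trans ?_
  rw [freeToOver, Equiv.apply_symm_apply]
  refine (Equiv.ulift.sum_comp fun i => a i • res M (leOfHom Y.hom) (res M le_rfl (s i))).trans ?_
  simp only [res_refl]
  rfl

theorem IsGen.epi_freeToOver {s : Fin n → Sec M U} (hs : IsGen M s) : Epi (freeToOver M s) := by
  refine Site.epi_of_liftSieve _ fun Y y => cover_of_forall_mem fun x hx => ?_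
  obtain ⟨W, hW, a, hxW, ha⟩ := hs Y.left (leOfHom Y.hom) y x hx
  exact ⟨W, hW, hxW, _, (app_freeToOver s (Over.mk (homOfLE hW ≫ Y.hom)) a).trans ha⟩

variable (O) in
/-- The morphism of free modules given by a family of coefficient vectors. -/
noncomputable def relMap (r : Fin m → Fin n → Ring O U) :
    (SheafOfModules.free (ULift.{u} (Fin m)) : ModSite.Mod (O.over U)) ⟶
      SheafOfModules.free (ULift.{u} (Fin n)) :=
  SheafOfModules.freeHomEquiv _ |>.symm fun l =>
    PresheafOfModules.sectionsMk
      (fun Y => ∑ i, (rres O (leOfHom Y.unop.hom) (r l.down i.down) : Site.Scal (O.over U) Y.unop) •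
        Site.basisSec (O := O.over U) i Y.unop)
      fun Y Y' f => by
        refine (map_sum (Site.mapS _ f.unop) _ _).trans (Finset.sum_congr rfl fun i _ => ?_)
        rw [Site.map_smul_sect, Site.map_basisSec]
        congr 1
        exact rres_rres _ _ _

theorem app_relMap (r : Fin m → Fin n → Ring O U) (Y : Over U) (c : ULift.{u} (Fin m) → Ring O Y.left)
    (i : ULift.{u} (Fin n)) :
    (Site.app (Site.proj (O := O.over U) i) Y (Site.app (relMap O r) Y
      (∑ l, (c l : Site.Scal (O.over U) Y) • Site.basisSec (O := O.over U) l Y)) : Ring O Y.left) =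
        ∑ l, c l * rres O (leOfHom Y.hom) (r l.down i.down) := by
  rw [map_sum, map_sum]
  refine Finset.sum_congr rfl fun l _ => ?_
  rw [map_smul, map_smul, Site.app_basisSec, relMap, Equiv.apply_symm_apply]
  exact congrArg (c l * ·) (Site.app_proj_sum (O := O.over U) Y
    (fun i : ULift.{u} (Fin n) => (rres O (leOfHom Y.hom) (r l.down i.down) : Site.Scal (O.over U) Y)) i)

/-- A presentation by sections gives a presentation over `U`. -/
theorem IsPres.exists_presentation {s : Fin n → Sec M U} {r : Fin m → Fin n → Ring O U}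
    (hp : IsPres M s r) : ∃ P : (M.over U).Presentation, P.IsFinite := by
  have := hp.gen.epi_freeToOver
  let G : (M.over U).GeneratingSections :=
    ⟨ULift.{u} (Fin n), fun i => overSection (s i.down), hp.gen.epi_freeToOver⟩
  have hf : relMap O r ≫ G.π = 0 := by
    apply (SheafOfModules.freeHomEquiv _).injective
    funext l
    apply PresheafOfModules.sections_ext
    intro Y
    refine Eq.trans ?_ (Site.app_zero (M := SheafOfModules.free (ULift.{u} (Fin m))) _
      (Site.basisSec (O := O.over U) l Y.unop)).symm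
    change Site.app G.π Y.unop (Site.app (relMap O r) Y.unop (Site.basisSec (O := O.over U) l Y.unop)) = 0
    rw [Site.app_basisSec (relMap O r), relMap, Equiv.apply_symm_apply]
    refine (app_freeToOver s _ fun i => rres O (leOfHom Y.unop.hom) (r l.down i)).trans ?_
    rw [← res_comb s le_rfl, hp.rel, map_zero]
  have : Epi (kernel.lift G.π (relMap O r) hf) := by
    refine Site.epi_of_liftSieve _ fun Y w => cover_of_forall_mem fun x hx => ?_
    let z := Site.app (kernel.ι G.π) Y w
    have ha : comb s (leOfHom Y.hom) (fun i => Site.app (Site.proj (O := O.over U) ⟨i⟩) Y z) = 0 := by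
      refine (app_freeToOver s Y _).symm.trans ?_
      rw [← Site.eq_sum, ← Site.app_comp]
      exact (congrArg (fun f => Site.app f Y w) (kernel.condition G.π)).trans (Site.app_zero _ _)
    obtain ⟨W, hW, c, hxW, hc⟩ := hp.exact Y.left (leOfHom Y.hom) _ ha x hx
    let Y' : Over U := Over.mk (homOfLE hW ≫ Y.hom)
    refine ⟨W, hW, hxW, ∑ l : ULift.{u} (Fin m), (c l.down : Site.Scal (O.over U) Y') •
      Site.basisSec (O := O.over U) l Y', Site.app_injective_of_mono (kernel.ι G.π) Y' ?_⟩
    refine (Site.app_comp _ _ _ _).symm.trans ?_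
    rw [kernel.lift_ι]
    refine Eq.trans ?_ (Site.map_app (kernel.ι G.π) (Over.homMk (homOfLE hW) : Y' ⟶ Y) w)
    apply Site.ext_proj
    intro i
    rw [app_relMap, ← Site.map_app]
    refine Eq.trans ?_ (hc i.down).symm
    exact Equiv.ulift.sum_comp fun l => c l * rres O (hW.trans (leOfHom Y.hom)) (r l i.down)
  let R : (kernel G.π).GeneratingSections :=
    ⟨ULift.{u} (Fin m), SheafOfModules.freeHomEquiv _ (kernel.lift G.π (relMap O r) hf),
      by rw [Equiv.symm_apply_apply]; infer_instance⟩
  exact ⟨⟨G, R⟩,
    { isFiniteType_generators := ⟨inferInstanceAs (Finite (ULift.{u} (Fin n)))⟩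
      isFiniteType_relations := ⟨inferInstanceAs (Finite (ULift.{u} (Fin m)))⟩ }⟩

/-- Local presentations by sections give finite presentation. -/
theorem isFinitePresentation_of_isPres {ι : Type u} (X : ι → Opens T) (hX : ∀ x, ∃ i, x ∈ X i)
    (h : ∀ i, ∃ (n m : ℕ) (s : Fin n → Sec M (X i)) (r : Fin m → Fin n → Ring O (X i)),
      IsPres M s r) : M.IsFinitePresentation := by
  choose n m s r hp using h
  choose P hP using fun i => (hp i).exists_presentation
  let q : SheafOfModules.QuasicoherentData.{u, u, u, u} M :=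
    SheafOfModules.QuasicoherentData.mk.{u, u, u, u} (M := M) ι X
      ((Opens.coversTop_iff T X).2 (IsOpenCover.mk (by ext x; simpa using hX x))) P
  have hq := SheafOfModules.QuasicoherentData.IsFinitePresentation.mk.{u, u, u, u} (q := q) fun i => hP i
  exact SheafOfModules.IsFinitePresentation.mk.{u, u, u}
    ⟨q.shrink, SheafOfModules.QuasicoherentData.IsFinitePresentation.mk.{u, u, u, u} (q := q.shrink)
      fun i => hq.isFinite_presentation i.2.choose⟩

/-- Local generation by sections gives finite type. -/
theorem isFiniteType_of_isGen {ι : Type u} (X : ι → Opens T) (hX : ∀ x, ∃ i, x ∈ X i)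
    (h : ∀ i, ∃ (n : ℕ) (s : Fin n → Sec M (X i)), IsGen M s) : M.IsFiniteType := by
  choose n s hp using h
  let q : SheafOfModules.LocalGeneratorsData.{u, u, u, u} M :=
    SheafOfModules.LocalGeneratorsData.mk.{u, u, u, u} (M := M) ι X
      ((Opens.coversTop_iff T X).2 (IsOpenCover.mk (by ext x; simpa using hX x))) fun i =>
      ⟨ULift.{u} (Fin (n i)), fun j => overSection (s i j.down), (hp i).epi_freeToOver⟩
  have hq := SheafOfModules.LocalGeneratorsData.IsFiniteType.mk.{u, u, u, u} (p := q) fun i =>
    SheafOfModules.GeneratingSections.IsFiniteType.mk.{u, u, u} (σ := q.generators i)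
      (show Finite (ULift.{u} (Fin (n i))) from inferInstance)
  exact SheafOfModules.IsFiniteType.mk.{u, u, u}
    ⟨q.shrink, SheafOfModules.LocalGeneratorsData.IsFiniteType.mk.{u, u, u, u} (p := q.shrink)
      fun i => hq.isFiniteType i.2.choose⟩

end data

end Groth.Agent.FMod90
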