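import Groth.Agent.FMod90.Levels
import Groth.Agent.FMod90.Pres
import Groth.Agent.QCoh.FT

/-!
# Coherence of the realisation of a coherent system on a locally Noetherian formal scheme
-/

set_option autoImplicit false

universe u

open CategoryTheory CategoryTheory.Limits AlgebraicGeometry TopologicalSpace Opposite

namespace Groth.Agent.FMod90

section basic

variable {X : Scheme.{u}} {W : X.Opens} (hW : IsAffineOpen W) (g : Γ(X, W)) {M : X.Modules}
  {W' : X.Opens} {n m : ℕ} (s : Fin n → Γ(M, W))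

include hW

/-- Generators stay generators on a basic open. -/
theorem exists_comb_basicOpen (hM : Coh.IsQCoh M) (e : W' = X.basicOpen g) (hle : W' ≤ W)
    (hs : ∀ y, ∃ a : Fin n → Γ(X, W), ∑ i, a i • s i = y) (y : Γ(M, W')) :
    ∃ a : Fin n → Γ(X, W'), ∑ i, a i • M.presheaf.map (homOfLE hle).op (s i) = y := by
  subst e
  obtain ⟨N, t, ht⟩ := QCoh.exists_pow_smul_eq_map hM hW g y
  obtain ⟨b, rfl⟩ := hs t
  have hu : IsUnit (X.presheaf.map (homOfLE hle).op g) := RingedSpace.isUnit_res_basicOpen _ g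
  refine ⟨fun i => (hu.pow N).unit⁻¹.val * X.presheaf.map (homOfLE hle).op (b i), ?_⟩
  refine (hu.pow N).smul_left_cancel.mp ?_
  refine Eq.trans ?_ ht
  rw [map_sum, Finset.smul_sum]
  refine Finset.sum_congr rfl fun i _ => ?_
  rw [Scheme.Modules.map_smul, ← mul_smul, ← mul_assoc, IsUnit.mul_val_inv, one_mul]

/-- Relations stay generators of all relations on a basic open. -/
theorem exists_rel_basicOpen (hM : Coh.IsQCoh M) (e : W' = X.basicOpen g) (hle : W' ≤ W)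
    (r : Fin m → Fin n → Γ(X, W))
    (hr : ∀ b : Fin n → Γ(X, W), ∑ i, b i • s i = 0 →
      ∃ c : Fin m → Γ(X, W), ∀ i, b i = ∑ l, c l * r l i)
    (a : Fin n → Γ(X, W')) (ha : ∑ i, a i • M.presheaf.map (homOfLE hle).op (s i) = 0) :
    ∃ c : Fin m → Γ(X, W'), ∀ i, a i = ∑ l, c l * X.presheaf.map (homOfLE hle).op (r l i) := by
  subst e
  classical
  haveI := hW.isLocalization_basicOpen g
  obtain ⟨⟨_, N, rfl⟩, hN⟩ := IsLocalization.exist_integer_multiples_of_finite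
    (Submonoid.powers g) (S := Γ(X, X.basicOpen g)) a
  choose b hb using hN
  have hu : IsUnit (X.presheaf.map (homOfLE hle).op g) := RingedSpace.isUnit_res_basicOpen _ g
  have hb' : ∀ i, X.presheaf.map (homOfLE hle).op (b i) =
      X.presheaf.map (homOfLE hle).op g ^ N * a i := fun i => by
    refine (hb i).trans ?_
    rw [Algebra.smul_def, map_pow]
    rfl
  have h0 : M.presheaf.map (homOfLE hle).op (∑ i, b i • s i) = 0 := by
    rw [map_sum]
    simp only [Scheme.Modules.map_smul, hb', mul_smul]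
    rw [← Finset.smul_sum, ha, smul_zero]
  obtain ⟨K, hK⟩ := QCoh.exists_pow_smul_eq_zero hM hW g _ h0
  obtain ⟨c, hc⟩ := hr (fun i => g ^ K * b i) (by simp only [mul_smul]; rw [← Finset.smul_sum, hK])
  refine ⟨fun l => (hu.pow (K + N)).unit⁻¹.val * X.presheaf.map (homOfLE hle).op (c l), fun i => ?_⟩
  have hv := (hu.pow (K + N)).mul_val_inv
  refine (hu.pow (K + N)).mul_left_cancel ?_
  generalize (hu.pow (K + N)).unit⁻¹.val = v at hv ⊢
  have h1 := congrArg (X.presheaf.map (homOfLE hle).op) (hc i)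
  rw [map_mul, map_pow, hb', map_sum] at h1
  rw [pow_add, mul_assoc]
  refine h1.trans ?_
  rw [Finset.mul_sum]
  refine Finset.sum_congr rfl fun l _ => ?_
  rw [map_mul, ← pow_add, ← mul_assoc, ← mul_assoc, hv, one_mul]

end basic

section algebra

variable {R : Type u} [CommRing R] {n : ℕ}

theorem apply_mem_of_mem_smul_top {I : Ideal R} {v : Fin n → R}
    (hv : v ∈ I • (⊤ : Submodule R (Fin n → R))) (i : Fin n) : v i ∈ I := by
  refine Submodule.smul_induction_on (p := fun v => v i ∈ I) hv (fun a ha w _ => ?_)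
    fun a b ha hb => I.add_mem ha hb
  exact I.mul_mem_right _ ha

theorem mem_smul_top_of_apply_mem {I : Ideal R} {v : Fin n → R} (hv : ∀ i, v i ∈ I) :
    v ∈ I • (⊤ : Submodule R (Fin n → R)) := by
  classical
  rw [← Finset.univ_sum_single v]
  refine Submodule.sum_mem _ fun i _ => ?_
  have : Pi.single i (v i) = v i • (Pi.single i 1 : Fin n → R) := by simp [← Pi.single_smul]
  rw [this]
  exact Submodule.smul_mem_smul (hv i) trivial

/-- A submodule of a finite free module over a Noetherian ring complete for `J` is closed. -/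
theorem mem_of_forall_mem_sup [IsNoetherianRing R] (J : Ideal R) [IsAdicComplete J R]
    (P : Submodule R (Fin n → R)) (v : Fin n → R)
    (hv : ∀ k : ℕ, v ∈ P ⊔ J ^ (k + 1) • (⊤ : Submodule R (Fin n → R))) : v ∈ P := by
  rw [← P.ker_mkQ, LinearMap.mem_ker]
  have hbot := Ideal.iInf_pow_smul_eq_bot_of_le_jacobson (M := (Fin n → R) ⧸ P) J
    (IsAdicComplete.le_jacobson_bot J)
  rw [← Submodule.mem_bot R, ← hbot, Submodule.mem_iInf]
  intro k
  obtain ⟨p, hp, q, hq, rfl⟩ := Submodule.mem_sup.1 (hv k)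
  rw [map_add, show P.mkQ p = 0 from (Submodule.Quotient.mk_eq_zero P).2 hp, zero_add]
  have hmap : P.mkQ q ∈ J ^ (k + 1) • (⊤ : Submodule R ((Fin n → R) ⧸ P)) := by
    rw [← Submodule.range_mkQ P, ← Submodule.map_top, ← Submodule.map_smul'']
    exact Submodule.mem_map_of_mem hq
  exact Submodule.smul_mono_left (Ideal.pow_le_pow_right (Nat.le_succ k)) hmap

end algebra

variable {𝔛 : FSch.Sys.{u}} (h : 𝔛.IsFormal) {U : (𝔛.X 0).Opens}

theorem lvU_zero (U : (𝔛.X 0).Opens) : 𝔛.lvU h 0 U = U := by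
  conv_rhs => rw [show U = (Opens.map ((𝔛.toX 0).base ≫ 𝔛.gInv h 0)).obj U by
    rw [FSch.Sys.toX_base_gInv]; rfl]
  rfl

theorem toX_preimage_lvU (n : ℕ) (U : (𝔛.X 0).Opens) : 𝔛.toX n ⁻¹ᵁ 𝔛.lvU h n U = U := by
  change (Opens.map ((𝔛.toX n).base ≫ 𝔛.gInv h n)).obj U = U
  rw [FSch.Sys.toX_base_gInv]
  rfl

/-- The basic open of the common space of a section of the structure sheaf. -/
noncomputable def Dop (f : Ring (𝔛.Osh h) U) : (𝔛.X 0).Opens :=
  (𝔛.X 0).basicOpen (pr h U 0 f)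

theorem Dop_le (f : Ring (𝔛.Osh h) U) : Dop h f ≤ U :=
  ((𝔛.X 0).basicOpen_le _).trans (lvU_zero h U).le

theorem toX_preimage_basicOpen (f : Ring (𝔛.Osh h) U) (n : ℕ) :
    𝔛.toX n ⁻¹ᵁ (𝔛.X n).basicOpen (pr h U n f) = Dop h f := by
  induction n with
  | zero => rfl
  | succ n ih =>
    rw [← ih]
    change 𝔛.toX n ⁻¹ᵁ (𝔛.ι n ⁻¹ᵁ (𝔛.X (n + 1)).basicOpen (pr h U (n + 1) f)) = _
    congr 1
    rw [← ρ_pr h U n f, Scheme.preimage_basicOpen]
    refine Eq.trans ?_ (Scheme.basicOpen_res _ _ (homOfLE (𝔛.lvU_le h n U)).op).symm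
    exact (inf_eq_right.2 (((𝔛.X n).basicOpen_le _).trans (𝔛.lvU_succ h n U).le)).symm

theorem lvU_Dop (f : Ring (𝔛.Osh h) U) (n : ℕ) :
    𝔛.lvU h n (Dop h f) = (𝔛.X n).basicOpen (pr h U n f) := by
  ext x
  obtain ⟨y, rfl⟩ := FSch.Sys.toX_surjective 𝔛 h n x
  constructor
  · intro hy
    have hy' : y ∈ 𝔛.toX n ⁻¹ᵁ 𝔛.lvU h n (Dop h f) := hy
    rw [toX_preimage_lvU, ← toX_preimage_basicOpen h f n] at hy'
    exact hy'
  · intro hy
    have hy' : y ∈ 𝔛.toX n ⁻¹ᵁ (𝔛.X n).basicOpen (pr h U n f) := hy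
    rw [toX_preimage_basicOpen, ← toX_preimage_lvU h n (Dop h f)] at hy'
    exact hy'

theorem isAffineOpen_Dop (hU : IsAffineOpen U) (f : Ring (𝔛.Osh h) U) : IsAffineOpen (Dop h f) :=
  (isAffineOpen_lvU h hU 0).basicOpen _

theorem exists_Dop_le (hU : IsAffineOpen U) {W : (𝔛.X 0).Opens} {x : 𝔛.X 0} (hxU : x ∈ U)
    (hxW : x ∈ W) : ∃ f : Ring (𝔛.Osh h) U, Dop h f ≤ W ∧ x ∈ Dop h f := by
  obtain ⟨f₀, hle, hx⟩ := (isAffineOpen_lvU h hU 0).exists_basicOpen_le ⟨x, hxW⟩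
    (show x ∈ 𝔛.lvU h 0 U by rw [lvU_zero]; exact hxU)
  obtain ⟨f, rfl⟩ := pr_surjective h hU 0 f₀
  exact ⟨f, hle, hx⟩

variable (𝔐 : FSch.ModSys 𝔛)

theorem rproj_comb {W : (𝔛.X 0).Opens} (hle : W ≤ U) {n : ℕ} (s : Fin n → Sec (𝔐.realMod h) U)
    (a : Fin n → Ring (𝔛.Osh h) W) (k : ℕ) :
    rproj h W 𝔐.F 𝔐.toPush k (comb s hle a) = ∑ i, pr h W k (a i) •
      (𝔐.F k).presheaf.map ((Opens.map (𝔛.gInv h k)).map (homOfLE hle)).op
        (rproj h U 𝔐.F 𝔐.toPush k (s i)) := by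
  refine (map_sum (rproj h W 𝔐.F 𝔐.toPush k) _ _).trans (Finset.sum_congr rfl fun i _ => ?_)
  exact (rproj_smul h W _ _ k _ _).trans (congrArg (pr h W k (a i) • ·) (rproj_res h U _ _ hle k (s i)))

section level

variable {n m : ℕ} (hU : IsAffineOpen U) (s : Fin n → Sec (𝔐.realMod h) U)

/-- Generators of the sections generate on every level. -/
theorem exists_comb_level {J : Ideal (Ring (𝔛.Osh h) U)} (hM : IsAdicMod h 𝔐 J)
    (hs : ∀ y, ∃ a : Fin n → Ring (𝔛.Osh h) U, comb s le_rfl a = y) (k : ℕ) (y : Ln h U 𝔐.F k) :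
    ∃ a : Fin n → Rn h U k, ∑ i, a i • rproj h U 𝔐.F 𝔐.toPush k (s i) = y := by
  obtain ⟨z, rfl⟩ := hM.surjective k y
  obtain ⟨a, rfl⟩ := hs z
  refine ⟨fun i => pr h U k (a i), ?_⟩
  refine (Finset.sum_congr rfl fun i _ => ?_).trans
    (map_sum (rproj h U 𝔐.F 𝔐.toPush k) _ _).symm
  rw [res_refl]
  exact (rproj_smul h U _ _ k _ _).symm

/-- Relations generate all relations on every level. -/
theorem exists_rel_level {J : Ideal (Ring (𝔛.Osh h) U)} (hR : IsAdicRing h hU J)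
    (hM : IsAdicMod h 𝔐 J) (r : Fin m → Fin n → Ring (𝔛.Osh h) U)
    (hs : ∀ y, ∃ a : Fin n → Ring (𝔛.Osh h) U, comb s le_rfl a = y)
    (hr : ∀ a, comb s le_rfl a = 0 → ∃ c : Fin m → Ring (𝔛.Osh h) U, ∀ i, a i = ∑ l, c l * r l i)
    (k : ℕ) (b : Fin n → Rn h U k) (hb : ∑ i, b i • rproj h U 𝔐.F 𝔐.toPush k (s i) = 0) :
    ∃ c : Fin m → Rn h U k, ∀ i, b i = ∑ l, c l * pr h U k (r l i) := by
  choose b' hb' using fun i => pr_surjective h hU k (b i)
  let φ : (Fin n → Ring (𝔛.Osh h) U) →ₗ[Ring (𝔛.Osh h) U] Sec (𝔐.realMod h) U :=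
    { toFun := comb s le_rfl
      map_add' := comb_add s le_rfl
      map_smul' := fun c a => comb_mul s le_rfl c a }
  have h0 : φ b' ∈ J ^ (k + 1) • (⊤ : Submodule (Ring (𝔛.Osh h) U) (Sec (𝔐.realMod h) U)) := by
    refine (hM.eq_zero_iff k _).1 ?_
    change rproj h U 𝔐.F 𝔐.toPush k (∑ i, b' i • res _ le_rfl (s i)) = 0
    refine (map_sum (rproj h U 𝔐.F 𝔐.toPush k) _ _).trans (Eq.trans ?_ hb)
    refine Finset.sum_congr rfl fun i _ => ?_
    rw [res_refl, ← hb' i]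
    exact rproj_smul h U _ _ k _ _
  rw [← (LinearMap.range_eq_top (f := φ)).2 (fun y => hs y), ← Submodule.map_top,
    ← Submodule.map_smul''] at h0
  obtain ⟨e, he, heq⟩ := h0
  obtain ⟨c, hc⟩ := hr (fun i => b' i - e i) (by rw [comb_sub]; exact sub_eq_zero.2 heq.symm)
  refine ⟨fun l => pr h U k (c l), fun i => ?_⟩
  have hei : pr h U k (e i) = 0 := by
    rw [← RingHom.mem_ker, hR.ker_pr]
    exact apply_mem_of_mem_smul_top he i
  rw [← hb' i, ← sub_zero (pr h U k (b' i)), ← hei, ← map_sub, hc i, map_sum]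
  simp only [map_mul]

end level

/-- A presentation of the sections over an affine open presents the module on it. -/
theorem isPres_realMod (h𝔛 : 𝔛.IsLocNoethFormal) (h𝔐 : 𝔐.IsCoh) {U : (𝔛.X 0).Opens}
    (hU : IsAffineOpen U) {n m : ℕ} (s : Fin n → Sec (𝔐.realMod h𝔛.1) U)
    (r : Fin m → Fin n → Ring (𝔛.Osh h𝔛.1) U)
    (hs : ∀ y, ∃ a : Fin n → Ring (𝔛.Osh h𝔛.1) U, comb s le_rfl a = y)
    (hrel : ∀ l, comb s le_rfl (r l) = 0)
    (hr : ∀ a, comb s le_rfl a = 0 →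
      ∃ c : Fin m → Ring (𝔛.Osh h𝔛.1) U, ∀ i, a i = ∑ l, c l * r l i) :
    IsPres (𝔐.realMod h𝔛.1) s r := by
  classical
  obtain ⟨J, hR⟩ := exists_isAdicRing h𝔛 hU
  have hM := isAdicMod h𝔛.1 hU 𝔐 h𝔛.2.1 hR h𝔐
  refine ⟨fun W hW y x hx => ?_, hrel, fun W hW a ha x hx => ?_⟩
  · obtain ⟨f, hfW, hxf⟩ := exists_Dop_le h𝔛.1 hU (hW hx) hx
    refine ⟨_, hfW, ?_⟩
    obtain ⟨J', hR'⟩ := exists_isAdicRing h𝔛 (isAffineOpen_Dop h𝔛.1 hU f)
    have hM' := isAdicMod h𝔛.1 (isAffineOpen_Dop h𝔛.1 hU f) 𝔐 h𝔛.2.1 hR' h𝔐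
    let V := Dop h𝔛.1 f
    let R' := Ring (𝔛.Osh h𝔛.1) V
    let φ : (Fin n → R') →ₗ[R'] Sec (𝔐.realMod h𝔛.1) V :=
      { toFun := comb s (Dop_le h𝔛.1 f)
        map_add' := comb_add s _
        map_smul' := fun c a => comb_mul s _ c a }
    have htop : LinearMap.range φ = ⊤ := by
      refine top_le_iff.1 ?_
      haveI := hR'.complete
      haveI := hM'.finite
      refine Submodule.le_of_le_smul_of_le_jacobson_bot Module.Finite.fg_top
        (IsAdicComplete.le_jacobson_bot J') fun z _ => ?_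
      obtain ⟨a, ha⟩ := exists_comb_basicOpen (isAffineOpen_lvU h𝔛.1 hU 0) (pr h𝔛.1 U 0 f)
        (fun i => rproj h𝔛.1 U 𝔐.F 𝔐.toPush 0 (s i)) (h𝔐 0).1 (lvU_Dop h𝔛.1 f 0)
        ((Opens.map (𝔛.gInv h𝔛.1 0)).map (homOfLE (Dop_le h𝔛.1 f))).le
        (exists_comb_level h𝔛.1 𝔐 s hM hs 0) (rproj h𝔛.1 V 𝔐.F 𝔐.toPush 0 z)
      choose a' ha' using fun i => pr_surjective h𝔛.1 (isAffineOpen_Dop h𝔛.1 hU f) 0 (a i)
      rw [← sub_add_cancel z (φ a'), add_comm]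
      refine Submodule.add_mem_sup (LinearMap.mem_range_self φ a') ?_
      rw [← pow_one J']
      refine (hM'.eq_zero_iff 0 _).1 ?_
      refine (map_sub (rproj h𝔛.1 V 𝔐.F 𝔐.toPush 0) z (φ a')).trans (sub_eq_zero.2 ?_)
      refine ha.symm.trans (Eq.trans ?_ (rproj_comb h𝔛.1 𝔐 (Dop_le h𝔛.1 f) s a' 0).symm)
      simp only [ha']
      rfl
    obtain ⟨a, ha⟩ : res _ hfW y ∈ LinearMap.range φ := by rw [htop]; trivial
    exact ⟨a, hxf, ha⟩
  · obtain ⟨f, hfW, hxf⟩ := exists_Dop_le h𝔛.1 hU (hW hx) hx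
    refine ⟨_, hfW, ?_⟩
    let V := Dop h𝔛.1 f
    let R' := Ring (𝔛.Osh h𝔛.1) V
    obtain ⟨J', hR'⟩ := exists_isAdicRing h𝔛 (isAffineOpen_Dop h𝔛.1 hU f)
    haveI := hR'.complete
    haveI := hR'.noetherian
    let a' : Fin n → R' := fun i => rres _ hfW (a i)
    have ha' : comb s (Dop_le h𝔛.1 f) a' = 0 := by
      have h1 := congrArg (res _ hfW) ha
      rw [map_zero, res_comb] at h1
      exact h1
    let r' : Fin m → Fin n → R' := fun l i => rres _ (Dop_le h𝔛.1 f) (r l i)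
    have key : a' ∈ Submodule.span R' (Set.range r') := by
      refine mem_of_forall_mem_sup J' _ _ fun k => ?_
      obtain ⟨c, hc⟩ := exists_rel_basicOpen (isAffineOpen_lvU h𝔛.1 hU k) (pr h𝔛.1 U k f)
        (fun i => rproj h𝔛.1 U 𝔐.F 𝔐.toPush k (s i)) (h𝔐 k).1 (lvU_Dop h𝔛.1 f k)
        ((Opens.map (𝔛.gInv h𝔛.1 k)).map (homOfLE (Dop_le h𝔛.1 f))).le
        (fun l i => pr h𝔛.1 U k (r l i)) (exists_rel_level h𝔛.1 𝔐 hU s hR hM r hs hr k)
        (fun i => pr h𝔛.1 V k (a' i)) (by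
          refine (rproj_comb h𝔛.1 𝔐 (Dop_le h𝔛.1 f) s a' k).symm.trans ?_
          exact (congrArg (rproj h𝔛.1 V 𝔐.F 𝔐.toPush k) ha').trans (map_zero _))
      choose c' hc' using fun l => pr_surjective h𝔛.1 (isAffineOpen_Dop h𝔛.1 hU f) k (c l)
      rw [← add_sub_cancel (∑ l, c' l • r' l) a']
      refine Submodule.add_mem_sup (Submodule.sum_mem _ fun l _ =>
        Submodule.smul_mem _ _ (Submodule.subset_span ⟨l, rfl⟩)) (mem_smul_top_of_apply_mem fun i => ?_)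
      rw [← hR'.ker_pr, RingHom.mem_ker, Pi.sub_apply, map_sub, sub_eq_zero, Finset.sum_apply]
      refine (hc i).trans ?_
      simp only [Pi.smul_apply, smul_eq_mul, map_sum, map_mul, hc', r', pr_rres]
      rfl
    obtain ⟨c, hc⟩ := (Submodule.mem_span_range_iff_exists_fun R').1 key
    refine ⟨c, hxf, fun i => ?_⟩
    have h1 := congrFun hc i
    rw [Finset.sum_apply] at h1
    exact h1.symm

/-- Over an affine open the realisation of a coherent system has a presentation by sections. -/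
theorem exists_isPres_realMod (h𝔛 : 𝔛.IsLocNoethFormal) (h𝔐 : 𝔐.IsCoh) {U : (𝔛.X 0).Opens}
    (hU : IsAffineOpen U) :
    ∃ (n m : ℕ) (s : Fin n → Sec (𝔐.realMod h𝔛.1) U) (r : Fin m → Fin n → Ring (𝔛.Osh h𝔛.1) U),
      IsPres (𝔐.realMod h𝔛.1) s r := by
  obtain ⟨J, hR⟩ := exists_isAdicRing h𝔛 hU
  have hM := isAdicMod h𝔛.1 hU 𝔐 h𝔛.2.1 hR h𝔐
  haveI := hR.noetherian
  haveI := hM.finite
  obtain ⟨n, φ, hφ⟩ := Module.Finite.exists_fin' (Ring (𝔛.Osh h𝔛.1) U) (Sec (𝔐.realMod h𝔛.1) U)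
  have hcomb : ∀ a, comb (fun i => φ (Pi.single i 1)) le_rfl a = φ a := fun a => by
    conv_rhs => rw [← Finset.univ_sum_single a, map_sum]
    refine Finset.sum_congr rfl fun i _ => ?_
    rw [res_refl, ← map_smul, ← Pi.single_smul, smul_eq_mul, mul_one]
  obtain ⟨m, r, hr⟩ := Submodule.fg_iff_exists_fin_generating_family.mp
    (IsNoetherian.noetherian (LinearMap.ker φ))
  refine ⟨n, m, fun i => φ (Pi.single i 1), r, isPres_realMod 𝔐 h𝔛 h𝔐 hU (fun i => φ (Pi.single i 1)) r (fun y => ?_) (fun l => ?_) fun a ha => ?_⟩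
  · obtain ⟨a, rfl⟩ := hφ y
    exact ⟨a, hcomb a⟩
  · rw [hcomb, ← LinearMap.mem_ker, ← hr]
    exact Submodule.subset_span ⟨l, rfl⟩
  · rw [hcomb, ← LinearMap.mem_ker, ← hr, Submodule.mem_span_range_iff_exists_fun] at ha
    obtain ⟨c, rfl⟩ := ha
    exact ⟨c, fun i => by rw [Finset.sum_apply]; rfl⟩

/-- The realisation of a coherent system is coherent. -/
theorem isCohF_realMod (h𝔛 : 𝔛.IsLocNoethFormal) (h𝔐 : 𝔐.IsCoh) :
    FSch.IsCohF 𝔛 h𝔛.1 (𝔐.realMod h𝔛.1) := by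
  refine isFinitePresentation_of_isPres (fun U : (𝔛.X 0).affineOpens => U.1) (fun x => ?_)
    fun U => exists_isPres_realMod 𝔐 h𝔛 h𝔐 U.2
  obtain ⟨_, ⟨U, hU, rfl⟩, hxU, -⟩ :=
    (𝔛.X 0).isBasis_affineOpens.exists_subset_of_mem_open (Set.mem_univ x) isOpen_univ
  exact ⟨⟨U, hU⟩, hxU⟩

end Groth.Agent.FMod90
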