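import Groth.Agent.FTors52.KappaGen
import Groth.Agent.CAlgOdd.FlatCompletion
import Groth.Agent.SiteBase.FlatMor
import Mathlib.RingTheory.AdicCompletion.Algebra
import Mathlib.RingTheory.Flat.EquationalCriterion

/-!
# The completion morphism of a locally Noetherian scheme is flat
-/

set_option autoImplicit false

universe u

open CategoryTheory CategoryTheory.Limits AlgebraicGeometry TopologicalSpace Opposite

namespace Groth.Agent.FMod90

open FTors52

/-- A complete algebra with the truncations of a Noetherian ring is flat over it. -/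
theorem flat_of_truncations {R S : Type u} [CommRing R] [IsNoetherianRing R] [CommRing S] [Algebra R S]
    (I : Ideal R) [hc : IsAdicComplete (I.map (algebraMap R S)) S]
    (hs : ∀ (N : ℕ) (b : S), ∃ a : R, b - algebraMap R S a ∈ (I.map (algebraMap R S)) ^ N)
    (hk : ∀ (N : ℕ) (a : R), algebraMap R S a ∈ (I.map (algebraMap R S)) ^ N → a ∈ I ^ N) :
    Module.Flat R S := by
  haveI : IsAdicComplete I S := (IsAdicComplete.map_algebraMap_iff _ _).mp hc
  have hJ : ∀ (N : ℕ) (b : S), b ∈ I ^ N • (⊤ : Submodule R S) ↔ b ∈ (I.map (algebraMap R S)) ^ N := by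
    intro N b
    rw [← Ideal.map_pow, Ideal.smul_top_eq_map]
    rfl
  refine CAlgOdd.FlatCompletion.flat I fun N q r s v hv => ?_
  choose a ha using fun i => hs N (v i)
  have hrel : ∀ j, ∑ i, s j i * a i ∈ I ^ N := fun j => hk N _ <| by
    have h1 := (hJ N _).1 (hv j)
    have h2 : ∑ i, s j i • v i - algebraMap R S (∑ i, s j i * a i) ∈ (I.map (algebraMap R S)) ^ N := by
      rw [map_sum, ← Finset.sum_sub_distrib]
      refine Ideal.sum_mem _ fun i _ => ?_
      rw [Algebra.smul_def, map_mul, ← mul_sub]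
      exact Ideal.mul_mem_left _ _ (ha i)
    simpa using Ideal.sub_mem _ h1 h2
  refine Submodule.mem_sup.2 ⟨fun i => a i • (1 : S), Submodule.subset_span ⟨a, hrel, 1, rfl⟩,
    v - fun i => a i • (1 : S), ?_, add_sub_cancel _ _⟩
  refine ARPair.mem_smul_top_pi.2 fun i => (hJ N _).2 ?_
  rw [Pi.sub_apply, ← Algebra.algebraMap_eq_smul_one]
  exact ha i

variable {X : Scheme.{u}} [IsLocallyNoetherian X] {𝓘 : X.IdealSheafData}
  (hX : (FSch.completionAlong X 𝓘).IsFormal)

/-- Over an affine open the functions on the completion are flat over the functions on the scheme. -/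
theorem flat_sh (W : X.affineOpens) : (sh X 𝓘 hX W.1).Flat := by
  haveI : IsNoetherianRing (Ring X.sheaf W.1) := IsLocallyNoetherian.component_noetherian W
  algebraize [sh X 𝓘 hX W.1]
  have hR := isAdicRing_tr hX W
  let I : Ideal (Ring X.sheaf W.1) := 𝓘.ideal W
  haveI : IsAdicComplete (I.map (algebraMap (Ring X.sheaf W.1)
      (Ring ((FSch.completionAlong X 𝓘).Osh hX) (tr X 𝓘 W)))) _ := hR.complete
  refine flat_of_truncations I (fun N b => ?_) (fun N a ha => ?_)
  · rcases N with _ | n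
    · exact ⟨0, by simp⟩
    obtain ⟨a, ha⟩ := (appLE_eq_app (FSch.completionToX X 𝓘 n) W.1 _
      (FSch.lvU_p _ hX (FSch.completionToX X 𝓘) (FSch.completionToX_comm X 𝓘) n W.1)).2
        ((𝓘 ^ (n + 1)).subschemeι_app_surjective W) (pr hX (tr X 𝓘 W) n b)
    refine ⟨a, ?_⟩
    rw [← pr_sh hX] at ha
    change b - sh X 𝓘 hX W.1 a ∈ ((𝓘.ideal W).map (sh X 𝓘 hX W)) ^ (n + 1)
    rw [← hR.ker_pr, RingHom.mem_ker, map_sub, ha, sub_self]
  · rcases N with _ | n
    · simp
    change sh X 𝓘 hX W.1 a ∈ ((𝓘.ideal W).map (sh X 𝓘 hX W)) ^ (n + 1) at ha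
    rw [← hR.ker_pr, RingHom.mem_ker] at ha
    exact (pr_sh_eq_zero_iff hX n W a).1 ha

open SiteBase ModPull ModTensor in
/-- Relations between functions on the completion lift to the scheme. -/
theorem relLift_κ : RelLift (κ X 𝓘 hX) (ModSite.unit ((FSch.completionAlong X 𝓘).Osh hX)) := by
  classical
  intro W V h σ Y _ _ c a hrel
  let O := (FSch.completionAlong X 𝓘).Osh hX
  let a₀ : σ → Ring O W := a
  let Good : ∀ ⦃W' : ((FSch.completionAlong X 𝓘).X 0).Opens⦄, (W' ⟶ W) → Prop := fun W' g =>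
    ∃ (W₀ : X.Opens) (hd : W₀ ≤ V) (hw : W' ≤ tr X 𝓘 W₀) (n : ℕ)
      (N : σ → Fin n → Ring X.sheaf W₀) (b : Fin n → Ring O W'),
      (∀ l, rres O (leOfHom g) (a₀ l) =
        ∑ j, rres O hw (sh X 𝓘 hX W₀ (N l j)) * b j) ∧
      ∀ j y, ∑ l, N l j * rres X.sheaf hd (c l y) = 0
  let T : Sieve W :=
    { arrows := fun W' g => Good g
      downward_closed := by
        rintro W' W'' g ⟨W₀, hd, hw, n, N, b, hb, hN⟩ k
        refine ⟨W₀, hd, (leOfHom k).trans hw, n, N, fun j => rres O (leOfHom k) (b j), fun l => ?_, hN⟩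
        rw [← rres_rres (O := O) (leOfHom g) (leOfHom k), hb, map_sum]
        refine Finset.sum_congr rfl fun j _ => ?_
        rw [map_mul, rres_rres] }
  refine ⟨T, fun x hx => ?_, fun W' g hg => ?_⟩
  · have hxV : x ∈ tr X 𝓘 V := leOfHom h hx
    obtain ⟨W₀, hW₀, hxW₀, hle⟩ := Opens.isBasis_iff_nbhd.1 X.isBasis_affineOpens
      (show (FSch.completionToX X 𝓘 0).base x ∈ ext W ⊓ V from
        ⟨show x ∈ tr X 𝓘 (ext W) from (tr_ext W).symm ▸ hx, hxV⟩)
    have hWW : tr X 𝓘 W₀ ≤ W := (tr_mono (hle.trans inf_le_left)).trans (tr_ext W).le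
    have hWV : W₀ ≤ V := hle.trans inf_le_right
    have hflat : (sh X 𝓘 hX W₀).Flat := flat_sh hX ⟨W₀, hW₀⟩
    algebraize [sh X 𝓘 hX W₀]
    haveI : Module.Flat (Ring X.sheaf W₀) (Ring O (tr X 𝓘 W₀)) := hflat
    let C : (Y → Ring X.sheaf W₀) →ₗ[Ring X.sheaf W₀] (σ → Ring X.sheaf W₀) :=
      LinearMap.pi fun l => ∑ y, rres X.sheaf hWV (c l y) • LinearMap.proj y
    let ξ : (σ → Ring X.sheaf W₀) →ₗ[Ring X.sheaf W₀] Ring O (tr X 𝓘 W₀) :=
      ∑ l, (LinearMap.proj l).smulRight (rres O hWW (a₀ l))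
    have hC : ∀ y l, C (Pi.single y 1) l = rres X.sheaf hWV (c l y) := fun y l => by
      simp [C, LinearMap.sum_apply, Pi.single_apply]
    have h0 : ξ ∘ₗ C = 0 := by
      refine LinearMap.pi_ext' fun y => LinearMap.ext_ring ?_
      simp only [LinearMap.comp_apply, LinearMap.single_apply, LinearMap.zero_apply, ξ,
        LinearMap.sum_apply, LinearMap.smulRight_apply, LinearMap.proj_apply, hC]
      have h2 : ∑ l, rres O (leOfHom h) (sh X 𝓘 hX V (c l y)) * (a₀ l) = (0 : Ring O W) :=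
        hrel y
      have h1 := congrArg (rres O hWW) h2
      rw [map_zero, map_sum] at h1
      refine Eq.trans (Finset.sum_congr rfl fun l _ => ?_) h1
      rw [Algebra.smul_def]
      change sh X 𝓘 hX W₀ (rres X.sheaf hWV (c l y)) * rres O hWW (a₀ l) =
        rres O hWW (rres O (leOfHom h) (sh X 𝓘 hX V (c l y)) * (a₀ l))
      rw [map_mul, rres_rres, ← sh_rres hX hWV (c l y)]
      rfl
    obtain ⟨n, α, β, hαβ, hαC⟩ := Module.Flat.exists_factorization_of_comp_eq_zero_of_free h0
    refine ⟨tr X 𝓘 W₀, homOfLE hWW, ⟨W₀, hWV, le_rfl, n, fun l j => α (Pi.single l 1) j,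
      fun j => β (Finsupp.single j 1), fun l => ?_, fun j y => ?_⟩, hxW₀⟩
    · have := LinearMap.congr_fun hαβ (Pi.single l 1)
      simp only [ξ, LinearMap.sum_apply, LinearMap.smulRight_apply, LinearMap.proj_apply, Pi.single_apply,
        ite_smul, one_smul, zero_smul, Finset.sum_ite_eq', Finset.mem_univ, if_true, LinearMap.comp_apply] at this
      refine this.trans ?_
      conv_lhs => rw [← Finsupp.univ_sum_single (α (Pi.single l 1))]
      rw [map_sum]
      refine Finset.sum_congr rfl fun j _ => ?_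
      rw [← Finsupp.smul_single_one, map_smul, Algebra.smul_def, rres_refl]
      rfl
    · have := congrArg (fun t : Fin n →₀ _ => t j) (LinearMap.congr_fun hαC (Pi.single y 1))
      simp only [LinearMap.comp_apply, LinearMap.zero_apply, Finsupp.coe_zero, Pi.zero_apply] at this
      refine Eq.trans ?_ this
      conv_rhs => rw [← Finset.univ_sum_single (C (Pi.single y 1)), map_sum, Finsupp.finsetSum_apply]
      refine Finset.sum_congr rfl fun l _ => ?_
      rw [show (Pi.single l (C (Pi.single y 1) l) : σ → Ring X.sheaf W₀) =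
        C (Pi.single y 1) l • Pi.single l 1 from by rw [← Pi.single_smul', smul_eq_mul, mul_one],
        map_smul, Finsupp.smul_apply, smul_eq_mul, hC, mul_comm]
  · obtain ⟨W₀, hd, hw, n, N, b, hb, hN⟩ := hg
    exact ⟨W₀, homOfLE hd, homOfLE hw, n, N, b, Subsingleton.elim _ _, hb, hN⟩

/-- The completion morphism is flat. -/
theorem isFlat_κ : ModSite.RMor.IsFlat (κ X 𝓘 hX) :=
  SiteBase.isFlat_of_relLift _ (relLift_κ hX)

end Groth.Agent.FMod90
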