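import Groth.Agent.FMod90.ComplUniv

/-!
# Completion of modules of finite type on arbitrary schemes

The Noetherian hypothesis is replaced by Artin-Rees properties.
-/

set_option autoImplicit false
set_option maxHeartbeats 1000000

universe u

open CategoryTheory CategoryTheory.Limits AlgebraicGeometry TopologicalSpace Opposite

namespace Groth.Agent.FMod90

section Algebra

variable {R : Type u} [CommRing R] (I : Ideal R) {M : Type u} [AddCommGroup M] [Module R M]
  {N : Type u} [AddCommGroup N] [Module R N] {P : Type u} [AddCommGroup P] [Module R P]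

/-- The Artin-Rees property of a submodule. -/
def HasAR (Q : Submodule R N) : Prop :=
  ∃ c : ℕ, ∀ k : ℕ, I ^ (k + c) • (⊤ : Submodule R N) ⊓ Q ≤ I ^ k • Q

variable {I}

theorem mem_of_map_mem {f : M →ₗ[R] N} (hf : Function.Injective f) {c k : ℕ}
    (hc : I ^ (k + c) • (⊤ : Submodule R N) ⊓ LinearMap.range f ≤ I ^ k • LinearMap.range f) {x : M}
    (hx : f x ∈ I ^ (k + c) • (⊤ : Submodule R N)) : x ∈ I ^ k • (⊤ : Submodule R M) := by
  have h := hc ⟨hx, LinearMap.mem_range_self f x⟩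
  rw [← Submodule.map_top, ← Submodule.map_smul''] at h
  obtain ⟨y, hy, hyx⟩ := h
  exact hf hyx ▸ hy

theorem map_injective_of_hasAR {f : M →ₗ[R] N} (hf : Function.Injective f)
    (har : HasAR I (LinearMap.range f)) : Function.Injective (AdicCompletion.map I f) := by
  obtain ⟨c, hc⟩ := har
  rw [injective_iff_map_eq_zero]
  intro x hx
  obtain ⟨a, rfl⟩ := AdicCompletion.mk_surjective I M x
  refine AdicCompletion.ext fun n => ?_
  change Submodule.Quotient.mk (a n) = 0
  rw [Submodule.Quotient.mk_eq_zero]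
  have h1 : f (a (n + c)) ∈ I ^ (n + c) • (⊤ : Submodule R N) :=
    (Submodule.Quotient.mk_eq_zero _).1 (congrArg (fun z => z.val (n + c)) hx)
  have h2 := mem_of_map_mem hf (hc n) h1
  have h3 : a n - a (n + c) ∈ I ^ n • (⊤ : Submodule R M) := SModEq.sub_mem.1 (a.property (Nat.le_add_right n c))
  simpa using Submodule.add_mem _ h3 h2

theorem map_exact_of_hasAR {f : M →ₗ[R] N} {g : N →ₗ[R] P} (hf : Function.Injective f)
    (hfg : Function.Exact f g) (hg : Function.Surjective g) (har : HasAR I (LinearMap.range f))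
    (y : AdicCompletion I N) (hy : AdicCompletion.map I g y = 0) :
    ∃ x, AdicCompletion.map I f x = y := by
  obtain ⟨c, hc⟩ := har
  obtain ⟨b, rfl⟩ := AdicCompletion.mk_surjective I N y
  have hb : ∀ n, ∃ a : M, b n - f a ∈ I ^ n • (⊤ : Submodule R N) := fun n => by
    have h1 : g (b n) ∈ I ^ n • (⊤ : Submodule R P) :=
      (Submodule.Quotient.mk_eq_zero _).1 (congrArg (fun z => z.val n) hy)
    rw [← LinearMap.range_eq_top.2 hg, ← Submodule.map_top, ← Submodule.map_smul''] at h1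
    obtain ⟨e, he, hge⟩ := h1
    obtain ⟨a, ha⟩ := (hfg (b n - e)).1 (by rw [map_sub, hge, sub_self])
    exact ⟨a, by rw [ha, sub_sub_cancel]; exact he⟩
  choose a ha using hb
  have hmem : ∀ m n, m ≤ n → f (a m - a n) ∈ I ^ m • (⊤ : Submodule R N) := fun m n hmn => by
    have h1 : b m - b n ∈ I ^ m • (⊤ : Submodule R N) := SModEq.sub_mem.1 (b.property hmn)
    have h2 := Submodule.smul_mono_left (N := (⊤ : Submodule R N)) (Ideal.pow_le_pow_right hmn) (ha n)
    have h3 := Submodule.add_mem _ (Submodule.sub_mem _ h1 (ha m)) h2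
    convert h3 using 1
    rw [map_sub]
    abel
  refine ⟨AdicCompletion.mk I M (AdicCompletion.AdicCauchySequence.mk I M (fun n => a (n + c)) fun n =>
    SModEq.sub_mem.2 (mem_of_map_mem hf (hc n) (hmem (n + c) (n + 1 + c) (by omega)))), ?_⟩
  refine AdicCompletion.ext fun n => ?_
  change Submodule.Quotient.mk (f (a (n + c))) = Submodule.Quotient.mk (b n)
  rw [Submodule.Quotient.eq]
  have h1 : b n - b (n + c) ∈ I ^ n • (⊤ : Submodule R N) :=
    SModEq.sub_mem.1 (b.property (Nat.le_add_right n c))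
  have h2 := Submodule.smul_mono_left (N := (⊤ : Submodule R N))
    (Ideal.pow_le_pow_right (Nat.le_add_right n c)) (ha (n + c))
  have h3 := Submodule.neg_mem _ (Submodule.add_mem _ h1 h2)
  convert h3 using 1
  abel

end Algebra

open FTors52

set_option allowUnsafeReducibility true in
attribute [local reducible] FSch.ModSys.realMod

variable {X : Scheme.{u}} {𝓘 : X.IdealSheafData} (hX : (FSch.completionAlong X 𝓘).IsFormal)

local notation "𝔐" => FSch.complMod 𝓘

set_option quotPrecheck false in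
local notation "trO(" U ")" => (Opens.map (FSch.completionToX _ 𝓘 0).base).obj U

set_option quotPrecheck false in
local notation "shO(" U ")" => shg hX (FSch.completionToX _ 𝓘) (FSch.completionToX_comm _ 𝓘) U

set_option quotPrecheck false in
local notation "yO(" F "," U "," n ")" =>
  yg hX (FSch.completionToX _ 𝓘) (FSch.completionToX_comm _ 𝓘) F U n

theorem cs_map {F G : X.Modules} (φ : F ⟶ G) (U : X.Opens) (x : Γ(F, U)) :
    appL (FSch.ModSys.realModMap hX (FSch.complModMap 𝓘 φ)) trO(U) (cs hX F U x) =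
      cs hX G U (φ.app U x) :=
  lim_ext hX _ _ _ fun n => ((rproj_realModMap hX φ _ n _).trans
    ((congrArg _ (rproj_cs hX F U x n)).trans (ys_naturality hX φ U n x))).trans
      (rproj_cs hX G U _ n).symm

theorem pr_shO_eq_of_sub_mem (D : X.affineOpens) (n : ℕ) (a a' : Ring X.sheaf D.1)
    (h : a - a' ∈ 𝓘.ideal D ^ (n + 1)) :
    pr hX trO((D : X.affineOpens).1) n (shO((D : X.affineOpens).1) a) =
      pr hX trO((D : X.affineOpens).1) n (shO((D : X.affineOpens).1) a') := by
  rw [← sub_eq_zero, ← map_sub, ← map_sub]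
  exact (pr_sh_eq_zero_iff hX n D _).2 h

/-- Sections generating a quasi-coherent module over an affine open generate the completion there. -/
theorem exists_comb_cs {F : X.Modules} (hF : Coh.IsQCoh F) (D : X.affineOpens) {n : ℕ}
    (t : Fin n → Γ(F, D.1)) (ht : ∀ y, ∃ a : Fin n → Γ(X, D.1), ∑ i, a i • t i = y)
    (y : Sec ((𝔐 F).realMod hX) trO((D : X.affineOpens).1)) :
    ∃ b : Fin n → Ring ((FSch.completionAlong X 𝓘).Osh hX) trO((D : X.affineOpens).1),
      ∑ i, b i • cs hX F D.1 (t i) = y := by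
  let L : (Fin n → Γ(X, D.1)) →ₗ[Γ(X, D.1)] Γ(F, D.1) := Fintype.linearCombination Γ(X, D.1) t
  have hL : Function.Surjective L := fun z => by
    obtain ⟨a, rfl⟩ := ht z
    exact ⟨a, Fintype.linearCombination_apply _ _ _⟩
  obtain ⟨c, hc⟩ := exists_rel_right hF D y
  obtain ⟨d, hd⟩ := AdicCompletion.map_surjective (I := 𝓘.ideal D) hL c
  obtain ⟨a, rfl⟩ := AdicCompletion.mk_surjective _ _ d
  have hcoord : ∀ (i : Fin n) (k : ℕ) (v : Fin n → Γ(X, D.1)),
      v ∈ 𝓘.ideal D ^ k • (⊤ : Submodule Γ(X, D.1) (Fin n → Γ(X, D.1))) → v i ∈ 𝓘.ideal D ^ k := fun i k v hv => by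
    have h1 := ARPair.mem_smul_top_pi.1 hv i
    rwa [Ideal.smul_eq_mul, Ideal.mul_top] at h1
  have hcompat : ∀ i k, ρ hX trO((D : X.affineOpens).1) k
      (pr hX _ (k + 1) (shO((D : X.affineOpens).1) (a (k + 1 + 1) i))) =
        pr hX _ k (shO((D : X.affineOpens).1) (a (k + 1) i)) := fun i k => by
    rw [ρ_pr]
    refine (pr_shO_eq_of_sub_mem hX D k _ _ ?_).symm
    exact hcoord i (k + 1) _ (SModEq.sub_mem.1 (a.property (Nat.le_succ (k + 1))))
  choose b hb using fun i => exists_ring hX trO((D : X.affineOpens).1)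
    (fun k => pr hX _ k (shO((D : X.affineOpens).1) (a (k + 1) i))) (hcompat i)
  refine ⟨b, lim_ext hX _ _ _ fun k => ?_⟩
  have h1 : rproj hX _ (𝔐 F).F (𝔐 F).toPush k y = yO(F, D.1, k) (L (a (k + 1))) :=
    hc k _ (congrArg (fun z => z.val (k + 1)) hd)
  refine Eq.trans ?_ h1.symm
  refine (map_sum (rproj hX _ (𝔐 F).F (𝔐 F).toPush k) _ _).trans ?_
  refine Eq.trans (Finset.sum_congr rfl fun i _ => ?_)
    ((map_sum (yO(F, D.1, k)) (fun i => (a (k + 1) i : Γ(X, D.1)) • t i) Finset.univ).symm.trans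
      (congrArg (yO(F, D.1, k)) (Fintype.linearCombination_apply _ _ _).symm))
  refine (rproj_smul hX _ (𝔐 F).F (𝔐 F).toPush k (b i) _).trans ?_
  exact (congrArg₂ (· • ·) (hb i k) (rproj_cs hX F D.1 (t i) k)).trans
    (yg_smul hX (FSch.completionToX X 𝓘) (FSch.completionToX_comm X 𝓘) F D.1 k (a (k + 1) i) (t i)).symm

/-- Generators over an affine open give generators of the completion over its trace. -/
theorem isGen_complMod {F : X.Modules} (hF : Coh.IsQCoh F) (W : X.affineOpens) {n : ℕ}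
    (s : Fin n → Γ(F, W.1)) (hs : ∀ y, ∃ a : Fin n → Γ(X, W.1), ∑ i, a i • s i = y) :
    IsGen ((𝔐 F).realMod hX) (U := trO((W : X.affineOpens).1)) fun i => cs hX F W.1 (s i) := by
  intro V hV y x hx
  obtain ⟨g, hgV, hxg⟩ := exists_basic_trO W hV hx
  let D : X.affineOpens := ⟨X.basicOpen g, W.2.basicOpen g⟩
  have hle : D.1 ≤ W.1 := X.basicOpen_le g
  obtain ⟨b, hb⟩ := exists_comb_cs hX hF D (fun i => F.presheaf.map (homOfLE hle).op (s i))
    (exists_comb_basicOpen W.2 g s hF rfl hle hs) (res _ hgV y)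
  refine ⟨_, hgV, b, hxg, Eq.trans ?_ hb⟩
  exact Finset.sum_congr rfl fun i _ => congrArg (b i • ·) (res_cs hX F hle (hgV.trans hV) (s i))

/-- Completion is exact on quasi-coherent modules with Artin-Rees properties on a basis of affine opens. -/
theorem shortExact_complMod_of_hasAR (S : ShortComplex X.Modules) (hS : S.ShortExact)
    (h1 : Coh.IsQCoh S.X₁) (h2 : Coh.IsQCoh S.X₂) (h3 : Coh.IsQCoh S.X₃)
    (B : Set X.affineOpens)
    (hB : Opens.IsBasis {V : ((FSch.completionAlong X 𝓘).X 0).Opens | ∃ W ∈ B, trO((W : X.affineOpens).1) = V})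
    (har : ∀ W ∈ B, ∀ l : Γ(S.X₁, W.1) →ₗ[Γ(X, W.1)] Γ(S.X₂, W.1), (∀ x, l x = S.f.app W.1 x) →
      HasAR (𝓘.ideal W) (LinearMap.range l))
    (w : FSch.ModSys.realModMap hX (FSch.complModMap 𝓘 S.f) ≫
      FSch.ModSys.realModMap hX (FSch.complModMap 𝓘 S.g) = 0) :
    (ShortComplex.mk _ _ w).ShortExact := by
  haveI := hS.mono_f
  haveI := hS.epi_g
  let lin {F G : X.Modules} (φ : F ⟶ G) (W : X.Opens) : Γ(F, W) →ₗ[Γ(X, W)] Γ(G, W) :=
    { toFun := φ.app W, map_add' := map_add (φ.app W).hom, map_smul' := fun r x => φ.app_smul r x }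
  have hinj : ∀ W : X.affineOpens, Function.Injective (lin S.f W.1) := fun W => by
    haveI : @Mono (ModSite.Mod X.sheaf) _ S.X₁ S.X₂ S.f := hS.mono_f
    exact injective_of_mono (O := X.sheaf) (M := S.X₁) (N := S.X₂) S.f W.1
  have hsur : ∀ W : X.affineOpens, Function.Surjective (lin S.g W.1) := fun W =>
    QCoh.app_surjective_of_epi h2 h3 S.g W.2
  have hex : ∀ W : X.affineOpens, Function.Exact (lin S.f W.1) (lin S.g W.1) := fun W => by
    intro x
    refine ⟨fun hx => ?_, ?_⟩
    · obtain ⟨t, ht⟩ := exists_kernel_lift (O := X.sheaf) (M := S.X₂) (N := S.X₃) S.g x hx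
      let φ : kernel S.g ⟶ S.X₁ := (IsLimit.conePointUniqueUpToIso hS.fIsKernel (kernelIsKernel S.g)).inv
      have hφ : φ ≫ S.f = kernel.ι S.g :=
        IsLimit.conePointUniqueUpToIso_inv_comp hS.fIsKernel (kernelIsKernel S.g) WalkingParallelPair.zero
      exact ⟨appL (O := X.sheaf) φ W.1 t,
        (congrArg (fun ψ => appL (O := X.sheaf) ψ W.1 t) hφ).trans ht⟩
    · rintro ⟨y, rfl⟩
      exact congrArg (fun φ => Scheme.Modules.Hom.app φ W.1 y) S.zero
  refine { exact := ?_, mono_f := ?_, epi_g := ?_ }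
  · refine exact_of_isBasis _ hB ?_
    rintro _ ⟨W, hW, rfl⟩ s hs
    obtain ⟨c, hc⟩ := exists_rel_right h2 W s
    have hc' := hc.map S.g (l := lin S.g W.1) (fun _ => rfl) h3
    rw [show appL (FSch.ModSys.realModMap hX (FSch.complModMap 𝓘 S.g)) _ s = 0 from hs] at hc'
    obtain ⟨d, hd⟩ := map_exact_of_hasAR (hinj W) (hex W) (hsur W) (har W hW _ fun _ => rfl) c
      (hc'.eq_zero h3)
    obtain ⟨t, ht⟩ := exists_rel_left (hX := hX) h1 W d
    have ht' := ht.map S.f (l := lin S.f W.1) (fun _ => rfl) h2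
    rw [hd] at ht'
    exact ⟨t, ht'.eq hc⟩
  · refine mono_of_isBasis _ hB ?_
    rintro _ ⟨W, hW, rfl⟩
    refine (injective_iff_map_eq_zero _).2 fun s hs => ?_
    obtain ⟨c, hc⟩ := exists_rel_right h1 W s
    have hc' := hc.map S.f (l := lin S.f W.1) (fun _ => rfl) h2
    rw [show appL (FSch.ModSys.realModMap hX (FSch.complModMap 𝓘 S.f)) _ s = 0 from hs] at hc'
    have : c = 0 := map_injective_of_hasAR (hinj W) (har W hW _ fun _ => rfl)
      ((hc'.eq_zero h2).trans (map_zero _).symm)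
    rw [this] at hc
    exact hc.eq (rel_zero h1 W)
  · refine epi_of_isBasis _ hB ?_
    rintro _ ⟨W, -, rfl⟩ t
    obtain ⟨c, hc⟩ := exists_rel_right h3 W t
    obtain ⟨d, hd⟩ := AdicCompletion.map_surjective (I := 𝓘.ideal W) (hsur W) c
    obtain ⟨s, hs⟩ := exists_rel_left (hX := hX) h2 W d
    have hs' := hs.map S.g (l := lin S.g W.1) (fun _ => rfl) h3
    rw [hd] at hs'
    exact ⟨s, hs'.eq hc⟩

end Groth.Agent.FMod90
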