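import Groth.Agent.FMod90.Proj
import Groth.Agent.Adic7.Basic

/-!
# Passing to basic opens: generators, kernels and ideals of definition
-/

set_option autoImplicit false

universe u

open CategoryTheory CategoryTheory.Limits AlgebraicGeometry TopologicalSpace Opposite

namespace Groth.Agent.FMod90

theorem mem_of_forall_mem_sup' {R : Type u} [CommRing R] [IsNoetherianRing R] {L : Type u}
    [AddCommGroup L] [Module R L] [Module.Finite R L] (J : Ideal R) [IsAdicComplete J R]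
    (P : Submodule R L) (v : L) (hv : ∀ k : ℕ, v ∈ P ⊔ J ^ (k + 1) • (⊤ : Submodule R L)) : v ∈ P := by
  rw [← P.ker_mkQ, LinearMap.mem_ker]
  have hbot := Ideal.iInf_pow_smul_eq_bot_of_le_jacobson (M := L ⧸ P) J
    (IsAdicComplete.le_jacobson_bot J)
  rw [← Submodule.mem_bot R, ← hbot, Submodule.mem_iInf]
  intro k
  obtain ⟨p, hp, q, hq, rfl⟩ := Submodule.mem_sup.1 (hv k)
  rw [map_add, show P.mkQ p = 0 from (Submodule.Quotient.mk_eq_zero P).2 hp, zero_add]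
  have hmap : P.mkQ q ∈ J ^ (k + 1) • (⊤ : Submodule R (L ⧸ P)) := by
    rw [← Submodule.range_mkQ P, ← Submodule.map_top, ← Submodule.map_smul'']
    exact Submodule.mem_map_of_mem hq
  exact Submodule.smul_mono_left (Ideal.pow_le_pow_right (Nat.le_succ k)) hmap

theorem map_mem_smul_top {R : Type u} [CommRing R] {L L' : Type u} [AddCommGroup L] [Module R L]
    [AddCommGroup L'] [Module R L'] (φ : L →ₗ[R] L') {I : Ideal R} {x : L}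
    (hx : x ∈ I • (⊤ : Submodule R L)) : φ x ∈ I • (⊤ : Submodule R L') := by
  have h1 := Submodule.mem_map_of_mem (f := φ) hx
  rw [Submodule.map_smul''] at h1
  exact Submodule.smul_mono le_rfl le_top h1

/-- Sections on a basic open, up to a power of the function. -/
theorem exists_smul_of_eq_basicOpen {X : Scheme.{u}} {W W' : X.Opens} (hW : IsAffineOpen W)
    {M : X.Modules} (hM : Coh.IsQCoh M) (g : Γ(X, W)) (e : W' = X.basicOpen g) (le : W' ≤ W)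
    (y : Γ(M, W')) : ∃ (N : ℕ) (t : Γ(M, W)),
      M.presheaf.map (homOfLE le).op t = X.presheaf.map (homOfLE le).op g ^ N • y := by
  subst e
  exact QCoh.exists_pow_smul_eq_map hM hW g y

/-- Sections vanishing on a basic open are killed by a power of the function. -/
theorem exists_pow_smul_of_eq_basicOpen {X : Scheme.{u}} {W W' : X.Opens} (hW : IsAffineOpen W)
    {M : X.Modules} (hM : Coh.IsQCoh M) (g : Γ(X, W)) (e : W' = X.basicOpen g) (le : W' ≤ W)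
    (t : Γ(M, W)) (ht : M.presheaf.map (homOfLE le).op t = 0) : ∃ N : ℕ, g ^ N • t = 0 := by
  subst e
  exact QCoh.exists_pow_smul_eq_zero hM hW g t ht

variable {𝔛 : FSch.Sys.{u}} (h : 𝔛.IsFormal) {U : (𝔛.X 0).Opens}

theorem isUnit_map_of_eq_basicOpen {X : Scheme.{u}} {W W' : X.Opens} (g : Γ(X, W))
    (e : W' = X.basicOpen g) (le : W' ≤ W) : IsUnit (X.presheaf.map (homOfLE le).op g) := by
  subst e
  exact RingedSpace.isUnit_res_basicOpen _ g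

theorem isUnit_rres_Dop {f : Ring (𝔛.Osh h) U} (hV : IsAffineOpen (Dop h f))
    {J' : Ideal (Ring (𝔛.Osh h) (Dop h f))} (hR' : IsAdicRing h hV J') :
    IsUnit (rres (𝔛.Osh h) (Dop_le h f) f) := by
  have := hR'.complete
  set F := rres (𝔛.Osh h) (Dop_le h f) f
  have h0 : IsUnit (pr h (Dop h f) 0 F) := by
    rw [pr_rres]
    exact isUnit_map_of_eq_basicOpen (pr h U 0 f) (lvU_Dop h f 0) _
  obtain ⟨b, hb⟩ := pr_surjective h hV 0 h0.unit⁻¹.val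
  have hmem : F * b - 1 ∈ J' ^ (0 + 1) := by
    rw [← hR'.ker_pr 0, RingHom.mem_ker, map_sub, map_mul, map_one, hb, IsUnit.mul_val_inv, sub_self]
  rw [zero_add, pow_one] at hmem
  have h1 := Ideal.mem_jacobson_bot.1 (IsAdicComplete.le_jacobson_bot J' hmem) 1
  rw [mul_one, sub_add_cancel] at h1
  exact isUnit_of_mul_isUnit_left h1

section span

variable {T : TopCat.{u}} {O : Sheaf (Opens.grothendieckTopology T) CommRingCat.{u}}
  {M : ModSite.Mod O} {A B : Opens T} {p : ℕ}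

/-- Restriction of spans. -/
theorem res_mem_span (hle : B ≤ A) {k : Fin p → Sec M A} {x : Sec M A}
    (hx : x ∈ Submodule.span (Ring O A) (Set.range k)) :
    res M hle x ∈ Submodule.span (Ring O B) (Set.range fun i => res M hle (k i)) := by
  induction hx using Submodule.span_induction with
  | mem y hy => obtain ⟨i, rfl⟩ := hy; exact Submodule.subset_span ⟨i, rfl⟩
  | zero => rw [map_zero]; exact Submodule.zero_mem _
  | add y z _ _ hy hz => rw [map_add]; exact Submodule.add_mem _ hy hz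
  | smul c y _ hy => rw [res_smul]; exact Submodule.smul_mem _ _ hy

theorem exists_comb_of_mem_span (hle : B ≤ A) {k : Fin p → Sec M A} {y : Sec M B}
    (hy : y ∈ Submodule.span (Ring O B) (Set.range fun i => res M hle (k i))) :
    ∃ a : Fin p → Ring O B, comb k hle a = y :=
  (Submodule.mem_span_range_iff_exists_fun _).1 hy

end span

variable (h𝔛 : 𝔛.IsLocNoethFormal)

/-- The ideal of a basic open is generated by the ideal of the affine open. -/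
theorem ideal_Dop (hU : IsAffineOpen U) {J : Ideal (Ring (𝔛.Osh h𝔛.1) U)}
    (hR : IsAdicRing h𝔛.1 hU J) (f : Ring (𝔛.Osh h𝔛.1) U)
    {J' : Ideal (Ring (𝔛.Osh h𝔛.1) (Dop h𝔛.1 f))}
    (hR' : IsAdicRing h𝔛.1 (isAffineOpen_Dop h𝔛.1 hU f) J') :
    J.map (rres (𝔛.Osh h𝔛.1) (Dop_le h𝔛.1 f)) = J' := by
  have := hR'.complete
  have := hR'.noetherian
  have hJ' : J' = RingHom.ker (pr h𝔛.1 (Dop h𝔛.1 f) 0) := by rw [hR'.ker_pr, zero_add, pow_one]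
  refine le_antisymm (Ideal.map_le_iff_le_comap.2 fun j hj => ?_) fun a ha => ?_
  · have h0 : pr h𝔛.1 U 0 j = 0 := by
      rw [← RingHom.mem_ker, hR.ker_pr, zero_add, pow_one]
      exact hj
    rw [Ideal.mem_comap, hJ', RingHom.mem_ker, pr_rres, h0, map_zero]
  · refine mem_of_forall_mem_sup' J' (J.map (rres (𝔛.Osh h𝔛.1) (Dop_le h𝔛.1 f))) a fun N => ?_
    have h1 : Nid h𝔛.1 (isAffineOpen_Dop h𝔛.1 hU f) N =
        (J.map (rres (𝔛.Osh h𝔛.1) (Dop_le h𝔛.1 f))).map (pr h𝔛.1 (Dop h𝔛.1 f) N) := by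
      rw [Ideal.map_map]
      have h2 : (pr h𝔛.1 (Dop h𝔛.1 f) N).comp (rres (𝔛.Osh h𝔛.1) (Dop_le h𝔛.1 f)) =
          ((𝔛.X N).presheaf.map ((Opens.map (𝔛.gInv h𝔛.1 N)).map (homOfLE (Dop_le h𝔛.1 f))).op).hom.comp
            (pr h𝔛.1 U N) := RingHom.ext fun s => pr_rres h𝔛.1 U _ N s
      rw [h2, ← Ideal.map_map, hR.map_pr]
      exact (Scheme.IdealSheafData.map_ideal' (𝔛.toX N).ker
        (U := ⟨_, isAffineOpen_lvU h𝔛.1 (isAffineOpen_Dop h𝔛.1 hU f) N⟩)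
        (V := ⟨_, isAffineOpen_lvU h𝔛.1 hU N⟩)
        ((Opens.map (𝔛.gInv h𝔛.1 N)).map (homOfLE (Dop_le h𝔛.1 f))).op).symm
    have h3 : pr h𝔛.1 (Dop h𝔛.1 f) N a ∈
        (J.map (rres (𝔛.Osh h𝔛.1) (Dop_le h𝔛.1 f))).map (pr h𝔛.1 (Dop h𝔛.1 f) N) := by
      rw [← h1, ← hR'.map_pr]
      exact Ideal.mem_map_of_mem _ ha
    obtain ⟨b, hb, hab⟩ := (Ideal.mem_map_iff_of_surjective _
      (pr_surjective h𝔛.1 (isAffineOpen_Dop h𝔛.1 hU f) N)).1 h3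
    rw [← add_sub_cancel b a, smul_eq_mul, Ideal.mul_top]
    refine Submodule.add_mem_sup hb ?_
    rw [← hR'.ker_pr, RingHom.mem_ker, map_sub, hab, sub_self]

/-- Generators over an affine open generate over its basic opens. -/
theorem exists_comb_Dop (hU : IsAffineOpen U) {𝔐 : FSch.ModSys 𝔛} (h𝔐 : 𝔐.IsCoh) {n : ℕ}
    (s : Fin n → Sec (𝔐.realMod h𝔛.1) U)
    (hs : ∀ y, ∃ a : Fin n → Ring (𝔛.Osh h𝔛.1) U, comb s le_rfl a = y)
    (f : Ring (𝔛.Osh h𝔛.1) U) (y : Sec (𝔐.realMod h𝔛.1) (Dop h𝔛.1 f)) :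
    ∃ a, comb s (Dop_le h𝔛.1 f) a = y := by
  obtain ⟨J, hR⟩ := exists_isAdicRing h𝔛 hU
  have hM := isAdicMod h𝔛.1 hU 𝔐 h𝔛.2.1 hR h𝔐
  have hVa := isAffineOpen_Dop h𝔛.1 hU f
  obtain ⟨J', hR'⟩ := exists_isAdicRing h𝔛 hVa
  have hM' := isAdicMod h𝔛.1 hVa 𝔐 h𝔛.2.1 hR' h𝔐
  have := hR'.complete
  have := hM'.finite
  let R' := Ring (𝔛.Osh h𝔛.1) (Dop h𝔛.1 f)
  let P := Submodule.span R' (Set.range fun i => res (𝔐.realMod h𝔛.1) (Dop_le h𝔛.1 f) (s i))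
  suffices hP : P = ⊤ by
    exact exists_comb_of_mem_span (Dop_le h𝔛.1 f) (show y ∈ P by rw [hP]; trivial)
  refine top_le_iff.1 (Submodule.le_of_le_smul_of_le_jacobson_bot Module.Finite.fg_top
    (IsAdicComplete.le_jacobson_bot J') fun z _ => ?_)
  obtain ⟨a, ha⟩ := exists_comb_basicOpen (isAffineOpen_lvU h𝔛.1 hU 0) (pr h𝔛.1 U 0 f)
    (fun i => rproj h𝔛.1 U 𝔐.F 𝔐.toPush 0 (s i)) (h𝔐 0).1 (lvU_Dop h𝔛.1 f 0)
    ((Opens.map (𝔛.gInv h𝔛.1 0)).map (homOfLE (Dop_le h𝔛.1 f))).le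
    (exists_comb_level h𝔛.1 𝔐 s hM hs 0) (rproj h𝔛.1 (Dop h𝔛.1 f) 𝔐.F 𝔐.toPush 0 z)
  choose a' ha' using fun i => pr_surjective h𝔛.1 hVa 0 (a i)
  rw [← add_sub_cancel (comb s (Dop_le h𝔛.1 f) a') z]
  refine Submodule.add_mem_sup (Submodule.sum_mem _ fun i _ =>
    Submodule.smul_mem _ _ (Submodule.subset_span ⟨i, rfl⟩)) ?_
  rw [← pow_one J']
  refine (hM'.eq_zero_iff 0 _).1 ((map_sub (rproj h𝔛.1 (Dop h𝔛.1 f) 𝔐.F 𝔐.toPush 0) z _).trans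
    (sub_eq_zero.2 ?_))
  refine ha.symm.trans (Eq.trans ?_ (rproj_comb h𝔛.1 𝔐 (Dop_le h𝔛.1 f) s a' 0).symm)
  simp only [ha']
  rfl

/-- Generators of the kernel over an affine open generate the kernel over its basic opens. -/
theorem ker_le_span_Dop (hU : IsAffineOpen U) {𝔐 𝔑 : FSch.ModSys 𝔛} (h𝔐 : 𝔐.IsCoh) (h𝔑 : 𝔑.IsCoh)
    (φ : 𝔐.realMod h𝔛.1 ⟶ 𝔑.realMod h𝔛.1) {p : ℕ} (k : Fin p → Sec (𝔐.realMod h𝔛.1) U)
    (hk : LinearMap.ker (appL φ U) ≤ Submodule.span (Ring (𝔛.Osh h𝔛.1) U) (Set.range k))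
    (f : Ring (𝔛.Osh h𝔛.1) U) {y : Sec (𝔐.realMod h𝔛.1) (Dop h𝔛.1 f)}
    (hy : appL φ (Dop h𝔛.1 f) y = 0) :
    y ∈ Submodule.span (Ring (𝔛.Osh h𝔛.1) (Dop h𝔛.1 f))
      (Set.range fun i => res (𝔐.realMod h𝔛.1) (Dop_le h𝔛.1 f) (k i)) := by
  obtain ⟨J, hR⟩ := exists_isAdicRing h𝔛 hU
  have hM := isAdicMod h𝔛.1 hU 𝔐 h𝔛.2.1 hR h𝔐
  have hN := isAdicMod h𝔛.1 hU 𝔑 h𝔛.2.1 hR h𝔑
  have hVa := isAffineOpen_Dop h𝔛.1 hU f
  obtain ⟨J', hR'⟩ := exists_isAdicRing h𝔛 hVa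
  have hM' := isAdicMod h𝔛.1 hVa 𝔐 h𝔛.2.1 hR' h𝔐
  have hN' := isAdicMod h𝔛.1 hVa 𝔑 h𝔛.2.1 hR' h𝔑
  have := hR.noetherian
  have := hN.finite
  have := hR'.noetherian
  have := hR'.complete
  have := hM'.finite
  obtain ⟨c, hc⟩ := Ideal.exists_pow_inf_eq_pow_smul J (LinearMap.range (appL φ U))
  refine mem_of_forall_mem_sup' J' _ y fun n => ?_
  set N := n + c with hNdef
  set g := pr h𝔛.1 U N f
  obtain ⟨e, t, ht⟩ : ∃ (e : ℕ) (t : Ln h𝔛.1 U 𝔐.F N),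
      (𝔐.F N).presheaf.map ((Opens.map (𝔛.gInv h𝔛.1 N)).map (homOfLE (Dop_le h𝔛.1 f))).op t =
        pr h𝔛.1 (Dop h𝔛.1 f) N (rres (𝔛.Osh h𝔛.1) (Dop_le h𝔛.1 f) f) ^ e •
          rproj h𝔛.1 (Dop h𝔛.1 f) 𝔐.F 𝔐.toPush N y := by
    rw [pr_rres]
    exact exists_smul_of_eq_basicOpen (isAffineOpen_lvU h𝔛.1 hU N) (h𝔐 N).1 g (lvU_Dop h𝔛.1 f N) _ _
  obtain ⟨(x : Sec (𝔐.realMod h𝔛.1) U), rfl⟩ := hM.surjective N t
  set F := rres (𝔛.Osh h𝔛.1) (Dop_le h𝔛.1 f) f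
  have hd : res (𝔐.realMod h𝔛.1) (Dop_le h𝔛.1 f) x - F ^ e • y ∈
      J' ^ (N + 1) • (⊤ : Submodule (Ring (𝔛.Osh h𝔛.1) (Dop h𝔛.1 f)) _) := by
    refine (hM'.eq_zero_iff N _).1 ((map_sub (rproj h𝔛.1 (Dop h𝔛.1 f) 𝔐.F 𝔐.toPush N) _ _).trans
      (sub_eq_zero.2 ?_))
    refine (rproj_res h𝔛.1 U _ _ (Dop_le h𝔛.1 f) N x).trans (ht.trans ?_)
    rw [← map_pow]
    exact (rproj_smul h𝔛.1 _ _ _ N (F ^ e) y).symm
  have hφ0 : rproj h𝔛.1 (Dop h𝔛.1 f) 𝔑.F 𝔑.toPush N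
      (res (𝔑.realMod h𝔛.1) (Dop_le h𝔛.1 f) (appL φ U x)) = 0 := by
    refine (hN'.eq_zero_iff N _).2 ?_
    have h1 := map_mem_smul_top (appL φ (Dop h𝔛.1 f)) hd
    rw [map_sub, map_smul, hy, smul_zero, sub_zero, ← res_appL] at h1
    exact h1
  obtain ⟨K, hK⟩ := exists_pow_smul_of_eq_basicOpen (isAffineOpen_lvU h𝔛.1 hU N) (h𝔑 N).1 g
    (lvU_Dop h𝔛.1 f N) ((Opens.map (𝔛.gInv h𝔛.1 N)).map (homOfLE (Dop_le h𝔛.1 f))).le
    (rproj h𝔛.1 U 𝔑.F 𝔑.toPush N (appL φ U x))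
    ((rproj_res h𝔛.1 U 𝔑.F 𝔑.toPush (Dop_le h𝔛.1 f) N (appL φ U x)).symm.trans hφ0)
  have hmem : appL φ U (f ^ K • x) ∈
      J ^ (N + 1) • (⊤ : Submodule (Ring (𝔛.Osh h𝔛.1) U) _) ⊓ LinearMap.range (appL φ U) := by
    refine ⟨(hN.eq_zero_iff N _).1 ?_, _, rfl⟩
    rw [map_smul]
    refine (rproj_smul h𝔛.1 U _ _ N _ _).trans ?_
    rw [map_pow]
    exact hK
  rw [hc (N + 1) (by omega), show N + 1 - c = n + 1 by omega] at hmem
  have hmem' : appL φ U (f ^ K • x) ∈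
      (J ^ (n + 1) • (⊤ : Submodule (Ring (𝔛.Osh h𝔛.1) U) _)).map (appL φ U) := by
    rw [Submodule.map_smul'', Submodule.map_top]
    exact Submodule.smul_mono le_rfl inf_le_right hmem
  obtain ⟨z, hz, hzx⟩ := hmem'
  have hker : f ^ K • x - z ∈ Submodule.span (Ring (𝔛.Osh h𝔛.1) U) (Set.range k) := by
    refine hk ?_
    rw [LinearMap.mem_ker, map_sub, hzx, sub_self]
  have hzV : res (𝔐.realMod h𝔛.1) (Dop_le h𝔛.1 f) z ∈
      J' ^ (n + 1) • (⊤ : Submodule (Ring (𝔛.Osh h𝔛.1) (Dop h𝔛.1 f)) _) := by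
    refine (hM'.eq_zero_iff n _).1 ((rproj_res h𝔛.1 U _ _ (Dop_le h𝔛.1 f) n z).trans ?_)
    rw [(hM.eq_zero_iff n z).2 hz, map_zero]
  have hu : IsUnit (F ^ (K + e)) := (isUnit_rres_Dop h𝔛.1 hVa hR').pow _
  rw [← Submodule.smul_mem_iff_of_isUnit _ hu]
  have heq : F ^ (K + e) • y = res (𝔐.realMod h𝔛.1) (Dop_le h𝔛.1 f) (f ^ K • x - z) +
      (res (𝔐.realMod h𝔛.1) (Dop_le h𝔛.1 f) z -
        F ^ K • (res (𝔐.realMod h𝔛.1) (Dop_le h𝔛.1 f) x - F ^ e • y)) := by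
    rw [map_sub, res_smul, map_pow, smul_sub, pow_add, mul_smul]
    abel
  rw [heq]
  exact Submodule.add_mem_sup (res_mem_span _ hker) (Submodule.sub_mem _ hzV
    (Submodule.smul_mem _ _ (Submodule.smul_mono_left (Ideal.pow_le_pow_right (by omega)) hd)))

end Groth.Agent.FMod90
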