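import Groth.Agent.FMod90.ComplSec
import Groth.Agent.FMod90.Coh
import Groth.Agent.FMod90.Descend
import Groth.Agent.QCoh.FT

/-!
# Presentations of completions of coherent modules

Generators and relations of a coherent module over an affine open give generators and relations of its completion
over the trace of the open.
-/

set_option autoImplicit false
set_option maxHeartbeats 1000000

universe u

open CategoryTheory CategoryTheory.Limits AlgebraicGeometry TopologicalSpace Opposite

namespace Groth.Agent.FMod90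

set_option allowUnsafeReducibility true in
attribute [local reducible] FSch.ModSys.realMod

section Gen

variable {𝔛 : FSch.Sys.{u}} (h : 𝔛.IsFormal) {Y : Scheme.{u}} (p : ∀ n, 𝔛.X n ⟶ Y)
  (hp : ∀ n, 𝔛.ι n ≫ p (n + 1) = p n)

/-- The map of rings of sections of a morphism from a formal scheme to a scheme. -/
noncomputable def shg (U : Y.Opens) :
    Ring Y.sheaf U →+* Ring (𝔛.Osh h) ((Opens.map (p 0).base).obj U) :=
  ((FSch.toSchemeMor 𝔛 h p hp).sharp.hom.app (op U)).hom

theorem pr_shg (U : Y.Opens) (n : ℕ) (a : Ring Y.sheaf U) :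
    pr h ((Opens.map (p 0).base).obj U) n (shg h p hp U a) =
      ((p n).appLE U (𝔛.lvU h n ((Opens.map (p 0).base).obj U)) (FSch.lvU_p 𝔛 h p hp n U).ge) a :=
  congrArg (fun φ => φ.hom.app (op U) a) (FSch.schSharp_proj 𝔛 h p hp n)

theorem shg_rres {U V : Y.Opens} (hle : V ≤ U) (hle' : (Opens.map (p 0).base).obj V ≤ (Opens.map (p 0).base).obj U)
    (a : Ring Y.sheaf U) :
    rres _ hle' (shg h p hp U a) = shg h p hp V (rres Y.sheaf hle a) :=
  (congrArg (fun φ => φ.hom a) ((FSch.toSchemeMor 𝔛 h p hp).sharp.hom.naturality (homOfLE hle).op)).symm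

variable (G : Y.Modules)

theorem yg_smul (U : Y.Opens) (n : ℕ) (a : Ring Y.sheaf U) (x : Γ(G, U)) :
    yg h p hp G U n ((show Γ(Y, U) from a) • x) =
      pr h ((Opens.map (p 0).base).obj U) n (shg h p hp U a) • yg h p hp G U n x := by
  rw [pr_shg]
  change ((Scheme.Modules.pullback (p n)).obj G).presheaf.map _ (pu (p n) G U _) = _
  rw [pu_smul]
  exact Scheme.Modules.map_smul ((Scheme.Modules.pullback (p n)).obj G) _ _ _

theorem yg_res {U V : Y.Opens} (hle : V ≤ U) (hle' : (Opens.map (p 0).base).obj V ≤ (Opens.map (p 0).base).obj U)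
    (n : ℕ) (x : Γ(G, U)) :
    ((Scheme.Modules.pullback (p n)).obj G).presheaf.map ((Opens.map (𝔛.gInv h n)).map (homOfLE hle')).op
        (yg h p hp G U n x) = yg h p hp G V n (G.presheaf.map (homOfLE hle).op x) := by
  have h1 := ConcreteCategory.congr_hom
    (((Scheme.Modules.pullbackPushforwardAdjunction (p n)).unit.app G).mapPresheaf.naturality
      (homOfLE hle).op) x
  change _ = ((Scheme.Modules.pullback (p n)).obj G).presheaf.map
    (homOfLE (FSch.lvU_p 𝔛 h p hp n V).ge).op (pu (p n) G V (G.presheaf.map (homOfLE hle).op x))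
  refine Eq.trans ?_ (congrArg _ h1).symm
  refine (map_map _ _ _ ?_ (pu (p n) G U x)).trans
    (map_map _ ((Opens.map (p n).base).map (homOfLE hle)).op (homOfLE (FSch.lvU_p 𝔛 h p hp n V).ge).op
      _ _).symm
  exact (homOfLE (((Opens.map (p n).base).map (homOfLE hle)).le.trans'
    (FSch.lvU_p 𝔛 h p hp n V).ge)).op

end Gen

open FTors52

variable {X : Scheme.{u}} {𝓘 : X.IdealSheafData} (hX : (FSch.completionAlong X 𝓘).IsFormal)

local notation "𝔐" => FSch.complMod 𝓘

set_option quotPrecheck false in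
local notation "trO(" U ")" => (Opens.map (FSch.completionToX _ 𝓘 0).base).obj U

set_option quotPrecheck false in
local notation "shO(" U ")" => shg hX (FSch.completionToX _ 𝓘) (FSch.completionToX_comm _ 𝓘) U

set_option quotPrecheck false in
local notation "yO(" F "," U "," n ")" =>
  yg hX (FSch.completionToX _ 𝓘) (FSch.completionToX_comm _ 𝓘) F U n

theorem exists_cs (F : X.Modules) (U : X.Opens) (x : Γ(F, U)) :
    ∃ s : Sec ((𝔐 F).realMod hX) trO(U),
      ∀ n, rproj hX trO(U) (𝔐 F).F (𝔐 F).toPush n s = yO(F, U, n) x :=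
  exists_yg_lim hX (FSch.completionToX X 𝓘) (FSch.completionToX_comm X 𝓘) F
    (fun k => (𝔐 F).toPush k) (toPush_complMod' F) U (fun _ => x) fun _ => rfl

/-- A section of a module as a section of its completion. -/
noncomputable def cs (F : X.Modules) (U : X.Opens) (x : Γ(F, U)) : Sec ((𝔐 F).realMod hX) trO(U) :=
  (exists_cs hX F U x).choose

theorem rproj_cs (F : X.Modules) (U : X.Opens) (x : Γ(F, U)) (n : ℕ) :
    rproj hX trO(U) (𝔐 F).F (𝔐 F).toPush n (cs hX F U x) = yO(F, U, n) x :=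
  (exists_cs hX F U x).choose_spec n

theorem res_cs (F : X.Modules) {U V : X.Opens} (hle : V ≤ U) (hle' : trO(V) ≤ trO(U)) (x : Γ(F, U)) :
    res _ hle' (cs hX F U x) = cs hX F V (F.presheaf.map (homOfLE hle).op x) :=
  lim_ext hX _ _ _ fun n => ((rproj_res hX _ _ _ hle' n _).trans ((congrArg _ (rproj_cs hX F U x n)).trans
    (yg_res hX (FSch.completionToX X 𝓘) (FSch.completionToX_comm X 𝓘) F hle hle' n x))).trans
      (rproj_cs hX F V _ n).symm

theorem cs_add (F : X.Modules) (U : X.Opens) (x y : Γ(F, U)) :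
    cs hX F U (x + y) = cs hX F U x + cs hX F U y :=
  lim_ext hX _ _ _ fun n => ((rproj_cs hX F U _ n).trans (map_add (yO(F, U, n)) x y)).trans
    ((map_add (rproj hX trO(U) (𝔐 F).F (𝔐 F).toPush n) _ _).trans
      (congrArg₂ (· + ·) (rproj_cs hX F U x n) (rproj_cs hX F U y n))).symm

theorem cs_smul (F : X.Modules) (U : X.Opens) (a : Ring X.sheaf U) (x : Γ(F, U)) :
    cs hX F U ((show Γ(X, U) from a) • x) = shO(U) a • cs hX F U x :=
  lim_ext hX _ _ _ fun n => ((rproj_cs hX F U _ n).trans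
      (yg_smul hX (FSch.completionToX X 𝓘) (FSch.completionToX_comm X 𝓘) F U n a x)).trans
    ((rproj_smul hX trO(U) (𝔐 F).F (𝔐 F).toPush n _ _).trans
      (congrArg (pr hX trO(U) n (shO(U) a) • ·) (rproj_cs hX F U x n))).symm

theorem cs_zero (F : X.Modules) (U : X.Opens) : cs hX F U 0 = 0 := by
  have h := cs_add hX F U 0 0
  rwa [add_zero, eq_comm, add_eq_left] at h

/-- The additive map to the completion. -/
noncomputable def csHom (F : X.Modules) (U : X.Opens) : Γ(F, U) →+ Sec ((𝔐 F).realMod hX) trO(U) where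
  toFun := cs hX F U
  map_zero' := cs_zero hX F U
  map_add' := cs_add hX F U

theorem isAffineOpen_trO (D : X.affineOpens) : IsAffineOpen trO((D : X.affineOpens).1) :=
  isAffineOpen_tr D

theorem isAdicRing_trO [IsLocallyNoetherian X] (D : X.affineOpens) :
    IsAdicRing hX (isAffineOpen_trO (𝓘 := 𝓘) D) ((𝓘.ideal D).map shO((D : X.affineOpens).1)) :=
  isAdicRing_tr hX D

theorem isCoh_complMod {F : X.Modules} (hF : Coh.IsCoh F) : (𝔐 F).IsCoh :=
  fun _ => ZClosLib.isCoh_pullback _ hF

theorem isAdicMod_complMod [IsLocallyNoetherian X] {F : X.Modules} (hF : Coh.IsCoh F) (D : X.affineOpens) :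
    IsAdicMod hX (U := trO((D : X.affineOpens).1)) (𝔐 F) ((𝓘.ideal D).map shO((D : X.affineOpens).1)) :=
  isAdicMod hX (isAffineOpen_trO D) (𝔐 F) (isAdic_completion hX) (isAdicRing_trO hX D) (isCoh_complMod hF)

theorem exists_approx_trO (D : X.affineOpens) (n : ℕ)
    (b : Ring ((FSch.completionAlong X 𝓘).Osh hX) trO((D : X.affineOpens).1)) :
    ∃ a : Ring X.sheaf D.1, pr hX _ n (shO((D : X.affineOpens).1) a) = pr hX _ n b := by
  obtain ⟨a, ha⟩ := (appLE_eq_app (FSch.completionToX X 𝓘 n) D.1 _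
    (FSch.lvU_p _ hX (FSch.completionToX X 𝓘) (FSch.completionToX_comm X 𝓘) n D.1)).2
      ((𝓘 ^ (n + 1)).subschemeι_app_surjective D) (pr hX _ n b)
  exact ⟨a, (pr_shg hX _ _ D.1 n a).trans ha⟩

/-- Sections generating the module over an affine open generate the completion over its trace. -/
theorem span_cs_eq_top [IsLocallyNoetherian X] {F : X.Modules} (hF : Coh.IsCoh F) (D : X.affineOpens)
    {n : ℕ} (t : Fin n → Γ(F, D.1)) (ht : ∀ y, ∃ a : Fin n → Γ(X, D.1), ∑ i, a i • t i = y) :
    Submodule.span (Ring ((FSch.completionAlong X 𝓘).Osh hX) trO((D : X.affineOpens).1))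
      (Set.range fun i => cs hX F D.1 (t i)) = ⊤ := by
  have hR := isAdicRing_trO hX D
  have hM := isAdicMod_complMod hX hF D
  have := hR.complete
  have := hM.finite
  refine top_le_iff.1 (Submodule.le_of_le_smul_of_le_jacobson_bot Module.Finite.fg_top
    (IsAdicComplete.le_jacobson_bot ((𝓘.ideal D).map shO((D : X.affineOpens).1))) fun z _ => ?_)
  obtain ⟨x, hx⟩ := ys_surjective hX hF.1 D 0 (rproj hX _ (𝔐 F).F (𝔐 F).toPush 0 z)
  obtain ⟨a, rfl⟩ := ht x
  refine Submodule.mem_sup.2 ⟨csHom hX F D.1 (∑ i, a i • t i), ?_, z - csHom hX F D.1 (∑ i, a i • t i),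
    ?_, add_sub_cancel _ _⟩
  · rw [map_sum]
    refine Submodule.sum_mem _ fun i _ => ?_
    change cs hX F D.1 (a i • t i) ∈ _
    rw [cs_smul hX F D.1 (a i) (t i)]
    exact Submodule.smul_mem _ _ (Submodule.subset_span ⟨i, rfl⟩)
  · have h0 : rproj hX _ (𝔐 F).F (𝔐 F).toPush 0 (z - csHom hX F D.1 (∑ i, a i • t i)) = 0 :=
      (map_sub _ _ _).trans (sub_eq_zero.2 (hx.symm.trans (rproj_cs hX F D.1 _ 0).symm))
    have h1 := (hM.eq_zero_iff 0 _).1 h0
    rwa [zero_add, pow_one] at h1

/-- Relations generating all relations over an affine open generate all relations over its trace. -/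
theorem exists_rel_cs [IsLocallyNoetherian X] {F : X.Modules} (hF : Coh.IsCoh F) (D : X.affineOpens)
    {n m : ℕ} (t : Fin n → Γ(F, D.1)) (r : Fin m → Fin n → Γ(X, D.1))
    (ht : ∀ y, ∃ a : Fin n → Γ(X, D.1), ∑ i, a i • t i = y)
    (hr : ∀ a : Fin n → Γ(X, D.1), ∑ i, a i • t i = 0 → ∃ c : Fin m → Γ(X, D.1), ∀ i, a i = ∑ l, c l * r l i)
    (b : Fin n → Ring ((FSch.completionAlong X 𝓘).Osh hX) trO((D : X.affineOpens).1))
    (hb : ∑ i, b i • cs hX F D.1 (t i) = 0) :
    ∃ c : Fin m → Ring ((FSch.completionAlong X 𝓘).Osh hX) trO((D : X.affineOpens).1),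
      ∀ i, b i = ∑ l, c l * shO((D : X.affineOpens).1) (r l i) := by
  classical
  have hR := isAdicRing_trO hX D
  have := hR.complete
  have := hR.noetherian
  let R := Ring ((FSch.completionAlong X 𝓘).Osh hX) trO((D : X.affineOpens).1)
  let P : Submodule R (Fin n → R) :=
    Submodule.span R (Set.range fun l i => shO((D : X.affineOpens).1) (r l i))
  suffices b ∈ P by
    obtain ⟨c, hc⟩ := (Submodule.mem_span_range_iff_exists_fun R).1 this
    refine ⟨c, fun i => ?_⟩
    rw [← hc, Finset.sum_apply]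
    rfl
  refine mem_of_forall_mem_sup' ((𝓘.ideal D).map shO((D : X.affineOpens).1)) P b fun k => ?_
  choose a ha using fun i => exists_approx_trO hX D k (b i)
  have hy : ∑ i, (show Γ(X, D.1) from a i) • t i ∈
      𝓘.ideal D ^ (k + 1) • (⊤ : Submodule Γ(X, D.1) Γ(F, D.1)) := by
    rw [← ys_eq_zero_iff hX hF.1 D k, map_sum]
    have h0 := congrArg (rproj hX _ (𝔐 F).F (𝔐 F).toPush k) hb
    rw [map_sum, map_zero] at h0
    refine Eq.trans (Finset.sum_congr rfl fun i _ => ?_) h0
    refine (yg_smul hX (FSch.completionToX X 𝓘) (FSch.completionToX_comm X 𝓘) F D.1 k (a i) (t i)).trans ?_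
    refine ((rproj_smul hX _ (𝔐 F).F (𝔐 F).toPush k (b i) _).trans ?_).symm
    exact congrArg₂ (· • ·) (ha i).symm (rproj_cs hX F D.1 (t i) k)
  have htop : (⊤ : Submodule Γ(X, D.1) Γ(F, D.1)) ≤ Submodule.span _ (Set.range t) := fun y _ => by
    obtain ⟨c, rfl⟩ := ht y
    exact Submodule.sum_mem _ fun i _ => Submodule.smul_mem _ _ (Submodule.subset_span ⟨i, rfl⟩)
  obtain ⟨e, he, hesum⟩ := (Submodule.mem_ideal_smul_span_iff_exists_sum _ t _).1
    (Submodule.smul_mono le_rfl htop hy)
  rw [Finsupp.sum_fintype _ _ (fun i => zero_smul Γ(X, D.1) (t i))] at hesum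
  obtain ⟨c, hc⟩ := hr (fun i => (show Γ(X, D.1) from a i) - e i) (by
    simp only [sub_smul, Finset.sum_sub_distrib, hesum, sub_self])
  let p : Fin n → R := fun i => ∑ l, shO((D : X.affineOpens).1) (c l) * shO((D : X.affineOpens).1) (r l i)
  refine Submodule.mem_sup.2 ⟨p, (Submodule.mem_span_range_iff_exists_fun R).2
    ⟨fun l => shO((D : X.affineOpens).1) (c l), funext fun i => by rw [Finset.sum_apply]; rfl⟩,
    b - p, ?_, add_sub_cancel _ _⟩
  rw [← Finset.univ_sum_single (b - p)]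
  refine Submodule.sum_mem _ fun i _ => ?_
  have hmem : (b - p) i ∈ ((𝓘.ideal D).map shO((D : X.affineOpens).1)) ^ (k + 1) := by
    have h1 : b i - shO((D : X.affineOpens).1) (a i) ∈
        ((𝓘.ideal D).map shO((D : X.affineOpens).1)) ^ (k + 1) := by
      rw [← hR.ker_pr, RingHom.mem_ker, map_sub, ha, sub_self]
    have h2 : shO((D : X.affineOpens).1) (e i) ∈
        ((𝓘.ideal D).map shO((D : X.affineOpens).1)) ^ (k + 1) := by
      rw [← Ideal.map_pow]
      exact Ideal.mem_map_of_mem _ (he i)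
    have h3 : shO((D : X.affineOpens).1) (a i) - shO((D : X.affineOpens).1) (e i) = p i := by
      rw [← map_sub]
      refine (congrArg shO((D : X.affineOpens).1) (hc i)).trans ((map_sum _ _ _).trans ?_)
      exact Finset.sum_congr rfl fun l _ => map_mul _ _ _
    have h4 : (b - p) i = (b i - shO((D : X.affineOpens).1) (a i)) + shO((D : X.affineOpens).1) (e i) := by
      rw [Pi.sub_apply, ← h3]; ring
    rw [h4]
    exact Ideal.add_mem _ h1 h2
  rw [show (Pi.single i ((b - p) i) : Fin n → R) = (b - p) i • Pi.single i 1 from by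
    rw [← Pi.single_smul', smul_eq_mul, mul_one]]
  exact Submodule.smul_mem_smul hmem Submodule.mem_top

/-- A coherent module has a presentation by sections over every affine open. -/
theorem exists_isPres_affine [IsLocallyNoetherian X] {F : X.Modules} (hF : Coh.IsCoh F) (W : X.affineOpens) :
    ∃ (n m : ℕ) (s : Fin n → Γ(F, W.1)) (r : Fin m → Fin n → Γ(X, W.1)),
      (∀ y, ∃ a : Fin n → Γ(X, W.1), ∑ i, a i • s i = y) ∧
      (∀ l, ∑ i, r l i • s i = 0) ∧
      ∀ a : Fin n → Γ(X, W.1), ∑ i, a i • s i = 0 → ∃ c : Fin m → Γ(X, W.1), ∀ i, a i = ∑ l, c l * r l i := by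
  have := IsLocallyNoetherian.component_noetherian W
  have := QCoh.finite_sections hF W.2
  obtain ⟨n, s, hs⟩ := Module.Finite.exists_fin (R := Γ(X, W.1)) (M := Γ(F, W.1))
  obtain ⟨m, r, hr⟩ := Submodule.fg_iff_exists_fin_generating_family.1
    (IsNoetherian.noetherian (LinearMap.ker (Fintype.linearCombination Γ(X, W.1) s)))
  refine ⟨n, m, s, r, fun y => ?_, fun l => ?_, fun a ha => ?_⟩
  · have : y ∈ Submodule.span Γ(X, W.1) (Set.range s) := hs ▸ Submodule.mem_top
    exact (Submodule.mem_span_range_iff_exists_fun _).1 this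
  · have h : r l ∈ LinearMap.ker (Fintype.linearCombination Γ(X, W.1) s) :=
      hr ▸ Submodule.subset_span ⟨l, rfl⟩
    rwa [LinearMap.mem_ker, Fintype.linearCombination_apply] at h
  · have h : a ∈ Submodule.span Γ(X, W.1) (Set.range r) := by
      rw [hr, LinearMap.mem_ker, Fintype.linearCombination_apply]
      exact ha
    obtain ⟨c, hc⟩ := (Submodule.mem_span_range_iff_exists_fun _).1 h
    exact ⟨c, fun i => by rw [← hc, Finset.sum_apply]; rfl⟩

/-- Around a point of an open below a trace there is a basic open whose trace lies in the open. -/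
theorem exists_basic_trO (W : X.affineOpens) {V : ((FSch.completionAlong X 𝓘).X 0).Opens}
    (hV : V ≤ trO((W : X.affineOpens).1)) {x : (FSch.completionAlong X 𝓘).X 0} (hx : x ∈ V) :
    ∃ g : Γ(X, W.1), trO(X.basicOpen g) ≤ V ∧ x ∈ trO(X.basicOpen g) := by
  obtain ⟨g, hg, hxg⟩ := W.2.exists_basicOpen_le
    (⟨(FSch.completionToX X 𝓘 0).base x, show x ∈ tr X 𝓘 (ext V) from (tr_ext V).symm ▸ hx⟩ : ext V)
    (hV hx)
  exact ⟨g, (tr_mono hg).trans (tr_ext V).le, hxg⟩

/-- A presentation over an affine open gives one of the completion over its trace. -/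
theorem isPres_complMod [IsLocallyNoetherian X] {F : X.Modules} (hF : Coh.IsCoh F) (W : X.affineOpens)
    {n m : ℕ} (s : Fin n → Γ(F, W.1)) (r : Fin m → Fin n → Γ(X, W.1))
    (hs : ∀ y, ∃ a : Fin n → Γ(X, W.1), ∑ i, a i • s i = y)
    (hrel : ∀ l, ∑ i, r l i • s i = 0)
    (hr : ∀ a : Fin n → Γ(X, W.1), ∑ i, a i • s i = 0 → ∃ c : Fin m → Γ(X, W.1), ∀ i, a i = ∑ l, c l * r l i) :
    IsPres ((𝔐 F).realMod hX) (U := trO((W : X.affineOpens).1)) (fun i => cs hX F W.1 (s i))
      fun l i => shO((W : X.affineOpens).1) (r l i) := by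
  refine ⟨fun V hV y x hx => ?_, fun l => ?_, fun V hV b hb x hx => ?_⟩
  · obtain ⟨g, hgV, hxg⟩ := exists_basic_trO W hV hx
    let D : X.affineOpens := ⟨X.basicOpen g, W.2.basicOpen g⟩
    have hle : D.1 ≤ W.1 := X.basicOpen_le g
    have hspan := span_cs_eq_top hX hF D (fun i => F.presheaf.map (homOfLE hle).op (s i))
      (exists_comb_basicOpen W.2 g s hF.1 rfl hle hs)
    obtain ⟨a, ha⟩ := (Submodule.mem_span_range_iff_exists_fun _).1
      (show res _ hgV y ∈ _ from hspan ▸ Submodule.mem_top)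
    refine ⟨_, hgV, a, hxg, Eq.trans ?_ ha⟩
    exact Finset.sum_congr rfl fun i _ => congrArg (a i • ·) (res_cs hX F hle (hgV.trans hV) (s i))
  · refine Eq.trans ?_ ((congrArg (csHom hX F W.1) (hrel l)).trans (map_zero _))
    rw [map_sum]
    exact Finset.sum_congr rfl fun i _ => (congrArg (_ • ·) (res_refl _ _)).trans
      (cs_smul hX F W.1 (r l i) (s i)).symm
  · obtain ⟨g, hgV, hxg⟩ := exists_basic_trO W hV hx
    let D : X.affineOpens := ⟨X.basicOpen g, W.2.basicOpen g⟩
    have hle : D.1 ≤ W.1 := X.basicOpen_le g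
    have hb' : ∑ i, rres _ hgV (b i) • cs hX F D.1 (F.presheaf.map (homOfLE hle).op (s i)) = 0 := by
      have h1 := congrArg (res _ hgV) hb
      rw [map_zero, res_comb] at h1
      refine Eq.trans (Finset.sum_congr rfl fun i _ => ?_) h1
      exact congrArg (rres _ hgV (b i) • ·) (res_cs hX F hle (hgV.trans hV) (s i)).symm
    obtain ⟨c, hc⟩ := exists_rel_cs hX hF D _ (fun l i => X.presheaf.map (homOfLE hle).op (r l i))
      (exists_comb_basicOpen W.2 g s hF.1 rfl hle hs) (exists_rel_basicOpen W.2 g s hF.1 rfl hle r hr)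
      (fun i => rres _ hgV (b i)) hb'
    refine ⟨_, hgV, c, hxg, fun i => (hc i).trans (Finset.sum_congr rfl fun l _ => ?_)⟩
    exact congrArg (c l * ·) (shg_rres hX _ _ hle (hgV.trans hV) (r l i)).symm

end Groth.Agent.FMod90
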