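import Groth.Agent.FMod90.Recon
import Groth.Agent.FTors52.KappaGen
import Groth.Agent.ZClosLib.CohDescent
import Groth.Agent.QCoh.ClosedPush
import Groth.Agent.QCoh.Support

/-!
# Sections of the completion of a coherent module

For an affine open `W` of a locally Noetherian scheme the sections over its trace of the completion of a coherent
module are the adic completion of its sections over `W`.
-/

set_option autoImplicit false
set_option maxHeartbeats 800000

universe u

open CategoryTheory CategoryTheory.Limits AlgebraicGeometry TopologicalSpace Opposite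

namespace Groth.Agent.FMod90

open FTors52

set_option allowUnsafeReducibility true in
attribute [local reducible] FSch.ModSys.realMod

theorem map_self {X : Scheme.{u}} (M : X.Modules) {A : X.Opens} (j : op A ⟶ op A) (x : Γ(M, A)) :
    M.presheaf.map j x = x := by
  rw [Subsingleton.elim j (𝟙 _), CategoryTheory.Functor.map_id]
  rfl

section Pu

variable {X Y Z : Scheme.{u}}

/-- A section pulled back along a morphism. -/
noncomputable def pu (f : X ⟶ Y) (G : Y.Modules) (U : Y.Opens) :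
    Γ(G, U) →+ Γ((Scheme.Modules.pullback f).obj G, f ⁻¹ᵁ U) :=
  (((Scheme.Modules.pullbackPushforwardAdjunction f).unit.app G).app U).hom

theorem pu_smul (f : X ⟶ Y) (G : Y.Modules) (U : Y.Opens) (r : Γ(Y, U)) (x : Γ(G, U)) :
    pu f G U (r • x) = (f.app U r : Γ(X, f ⁻¹ᵁ U)) • pu f G U x :=
  Scheme.Modules.Hom.app_smul ((Scheme.Modules.pullbackPushforwardAdjunction f).unit.app G) r x

theorem pu_naturality (f : X ⟶ Y) {G G' : Y.Modules} (φ : G ⟶ G') (U : Y.Opens) (x : Γ(G, U)) :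
    ((Scheme.Modules.pullback f).map φ).app (f ⁻¹ᵁ U) (pu f G U x) = pu f G' U (φ.app U x) :=
  (congrArg (fun ψ => Scheme.Modules.Hom.app ψ U x)
    ((Scheme.Modules.pullbackPushforwardAdjunction f).unit.naturality φ)).symm

theorem pu_comp (f : X ⟶ Y) (g : Y ⟶ Z) (G : Z.Modules) (U : Z.Opens) (x : Γ(G, U)) :
    ((Scheme.Modules.pullbackComp f g).hom.app G).app (f ⁻¹ᵁ (g ⁻¹ᵁ U))
        (pu f ((Scheme.Modules.pullback g).obj G) (g ⁻¹ᵁ U) (pu g G U x)) =
      pu (f ≫ g) G U x := by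
  have h := unit_conjugateEquiv
    ((Scheme.Modules.pullbackPushforwardAdjunction g).comp
      (Scheme.Modules.pullbackPushforwardAdjunction f))
    (Scheme.Modules.pullbackPushforwardAdjunction (f ≫ g))
    (Scheme.Modules.pullbackComp f g).inv G
  rw [Scheme.Modules.conjugateEquiv_pullbackComp_inv] at h
  have h' := congrArg (fun φ => Scheme.Modules.Hom.app φ U x) h
  replace h' : (pu f ((Scheme.Modules.pullback g).obj G) (g ⁻¹ᵁ U) (pu g G U x) :) =
      ((Scheme.Modules.pullbackComp f g).inv.app G).app ((f ≫ g) ⁻¹ᵁ U) (pu (f ≫ g) G U x) := h'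
  rw [h']
  exact congrArg (fun φ => Scheme.Modules.Hom.app φ ((f ≫ g) ⁻¹ᵁ U) (pu (f ≫ g) G U x))
    ((Scheme.Modules.pullbackComp f g).inv_hom_id_app G)

theorem pu_congr {f g : X ⟶ Y} (h : f = g) (G : Y.Modules) (U : Y.Opens) (x : Γ(G, U))
    (hle : f ⁻¹ᵁ U ≤ g ⁻¹ᵁ U) :
    ((Scheme.Modules.pullbackCongr h).hom.app G).app (f ⁻¹ᵁ U) (pu f G U x) =
      ((Scheme.Modules.pullback g).obj G).presheaf.map (homOfLE hle).op (pu g G U x) := by
  subst h
  rw [show (homOfLE hle).op = 𝟙 _ from rfl, CategoryTheory.Functor.map_id]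
  rfl

theorem pu_trans (i : X ⟶ Y) (p : Y ⟶ Z) (q : X ⟶ Z) (hc : i ≫ p = q) (G : Z.Modules) (U : Z.Opens)
    (V : Y.Opens) (V' : X.Opens) (hV : V = p ⁻¹ᵁ U) (hV' : V' = q ⁻¹ᵁ U) (hle : V' ≤ i ⁻¹ᵁ V)
    (x : Γ(G, U)) :
    ((Scheme.Modules.pullback q).obj G).presheaf.map (homOfLE hle).op
        ((((Scheme.Modules.pullbackPushforwardAdjunction i).homEquiv _ _)
          ((Scheme.Modules.pullbackComp i p ≪≫ Scheme.Modules.pullbackCongr hc).app G).hom).app V
          (((Scheme.Modules.pullback p).obj G).presheaf.map (homOfLE hV.le).op (pu p G U x))) =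
      ((Scheme.Modules.pullback q).obj G).presheaf.map (homOfLE hV'.le).op (pu q G U x) := by
  subst hV; subst hV'; subst hc
  have h1 : ((Scheme.Modules.pullback p).obj G).presheaf.map (homOfLE (le_refl (p ⁻¹ᵁ U))).op
      (pu p G U x) = pu p G U x := map_self _ _ _
  refine (congrArg _ (congrArg _ h1)).trans ?_
  refine (map_self _ (A := (i ≫ p) ⁻¹ᵁ U) _ _).trans ?_
  refine Eq.trans ?_ (map_self _ _ _).symm
  refine Eq.trans ?_ (pu_comp i p G U x)
  rw [Adjunction.homEquiv_unit, Iso.app_hom, Iso.trans_hom, NatTrans.comp_app]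
  rfl

end Pu

section Gen

variable {𝔛 : FSch.Sys.{u}} (h : 𝔛.IsFormal) {Y : Scheme.{u}} (p : ∀ n, 𝔛.X n ⟶ Y)
  (hp : ∀ n, 𝔛.ι n ≫ p (n + 1) = p n)

/-- A section pulled back to a level, over the trace of an open. -/
noncomputable def yg (G : Y.Modules) (U : Y.Opens) (n : ℕ) :
    Γ(G, U) →+ Ln h ((Opens.map (p 0).base).obj U) (fun k => (Scheme.Modules.pullback (p k)).obj G) n :=
  ((Scheme.Modules.pullback (p n)).obj G).presheaf.map
    (homOfLE (FSch.lvU_p 𝔛 h p hp n U).ge).op |>.hom.comp (pu (p n) G U)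

theorem τ_yg (G : Y.Modules)
    (t : ∀ k, (Scheme.Modules.pullback (p (k + 1))).obj G ⟶
      (Scheme.Modules.pushforward (𝔛.ι k)).obj ((Scheme.Modules.pullback (p k)).obj G))
    (n : ℕ) (ht : t n = (Scheme.Modules.pullbackPushforwardAdjunction (𝔛.ι n)).homEquiv _ _
      ((Scheme.Modules.pullbackComp (𝔛.ι n) (p (n + 1)) ≪≫ Scheme.Modules.pullbackCongr (hp n)).app G).hom)
    (U : Y.Opens) (x : Γ(G, U)) :
    τ h ((Opens.map (p 0).base).obj U) (fun k => (Scheme.Modules.pullback (p k)).obj G) t n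
      (yg h p hp G U (n + 1) x) = yg h p hp G U n x := by
  unfold τ
  rw [ht]
  exact pu_trans (𝔛.ι n) (p (n + 1)) (p n) (hp n) G U _ _
    (FSch.lvU_p 𝔛 h p hp (n + 1) U).symm (FSch.lvU_p 𝔛 h p hp n U).symm
    (𝔛.lvU_le h n _) x

theorem exists_yg_lim (G : Y.Modules)
    (t : ∀ k, (Scheme.Modules.pullback (p (k + 1))).obj G ⟶
      (Scheme.Modules.pushforward (𝔛.ι k)).obj ((Scheme.Modules.pullback (p k)).obj G))
    (ht : ∀ n, t n = (Scheme.Modules.pullbackPushforwardAdjunction (𝔛.ι n)).homEquiv _ _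
      ((Scheme.Modules.pullbackComp (𝔛.ι n) (p (n + 1)) ≪≫ Scheme.Modules.pullbackCongr (hp n)).app G).hom)
    (U : Y.Opens) (x : ℕ → Γ(G, U))
    (hx : ∀ n, yg h p hp G U n (x (n + 1)) = yg h p hp G U n (x n)) :
    ∃ s : Sec (FSch.realLim 𝔛 h (fun k => (Scheme.Modules.pullback (p k)).obj G) t) ((Opens.map (p 0).base).obj U),
      ∀ n, rproj h ((Opens.map (p 0).base).obj U) (fun k => (Scheme.Modules.pullback (p k)).obj G) t n s =
        yg h p hp G U n (x n) :=
  exists_lim h _ _ _ (fun n => yg h p hp G U n (x n)) fun n =>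
    (τ_yg h p hp G t n (ht n) U _).trans (hx n)

end Gen

variable {X : Scheme.{u}} {𝓘 : X.IdealSheafData} (hX : (FSch.completionAlong X 𝓘).IsFormal)

/-- The completion of a module, as a system of modules. -/
local notation "𝔐" => FSch.complMod 𝓘

set_option quotPrecheck false in
local notation "trO(" U ")" => (Opens.map (FSch.completionToX _ 𝓘 0).base).obj U

theorem complTransIso_eq (n : ℕ) :
    FSch.complTransIso 𝓘 n = Scheme.Modules.pullbackComp ((FSch.completionAlong X 𝓘).ι n) (FSch.completionToX X 𝓘 (n + 1)) ≪≫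
      Scheme.Modules.pullbackCongr (FSch.completionToX_comm X 𝓘 n) := by
  unfold FSch.complTransIso
  rfl

theorem toPush_complMod (F : X.Modules) (n : ℕ) :
    (𝔐 F).toPush n = (Scheme.Modules.pullbackPushforwardAdjunction ((FSch.completionAlong X 𝓘).ι n)).homEquiv _ _
      ((FSch.complTransIso 𝓘 n).app F).hom := rfl

theorem toPush_complMod' (F : X.Modules) (n : ℕ) :
    (𝔐 F).toPush n = (Scheme.Modules.pullbackPushforwardAdjunction ((FSch.completionAlong X 𝓘).ι n)).homEquiv _ _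
      ((Scheme.Modules.pullbackComp ((FSch.completionAlong X 𝓘).ι n) (FSch.completionToX X 𝓘 (n + 1)) ≪≫
        Scheme.Modules.pullbackCongr (FSch.completionToX_comm X 𝓘 n)).app F).hom :=
  by rw [toPush_complMod, complTransIso_eq]

theorem τ_ys0 (F : X.Modules) (U : X.Opens) (n : ℕ) (x : Γ(F, U)) :
    τ hX trO(U) (fun k => (Scheme.Modules.pullback (FSch.completionToX X 𝓘 k)).obj F) (fun k => (𝔐 F).toPush k) n
      (yg hX (FSch.completionToX X 𝓘) (FSch.completionToX_comm X 𝓘) F U (n + 1) x) = yg hX (FSch.completionToX X 𝓘) (FSch.completionToX_comm X 𝓘) F U n x :=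
  τ_yg hX (FSch.completionToX X 𝓘) (FSch.completionToX_comm X 𝓘) F (fun k => (𝔐 F).toPush k) n
    (toPush_complMod' F n) U x

theorem τ_ys (F : X.Modules) (U : X.Opens) (n : ℕ) (x : Γ(F, U)) :
    τ hX trO(U) (𝔐 F).F (𝔐 F).toPush n (yg hX (FSch.completionToX X 𝓘) (FSch.completionToX_comm X 𝓘) F U (n + 1) x) = yg hX (FSch.completionToX X 𝓘) (FSch.completionToX_comm X 𝓘) F U n x :=
  τ_ys0 hX F U n x

theorem rproj_realModMap {F G : X.Modules} (φ : F ⟶ G) (V : ((FSch.completionAlong X 𝓘).X 0).Opens)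
    (n : ℕ) (s : Sec ((𝔐 F).realMod hX) V) :
    rproj hX V (𝔐 G).F (𝔐 G).toPush n
        (appL (FSch.ModSys.realModMap hX (FSch.complModMap 𝓘 φ)) V s) =
      ((Scheme.Modules.pullback (FSch.completionToX X 𝓘 n)).map φ).app _
        (rproj hX V (𝔐 F).F (𝔐 F).toPush n s) :=
  congrArg (fun f => appL f V s)
    (FSch.realLimMap_realProj (FSch.completionAlong X 𝓘) hX (FSch.complModMap 𝓘 φ : FSch.ModSys.Hom _ _).app
      (FSch.ModSys.Hom.toPush_comm (FSch.complModMap 𝓘 φ)) n)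

theorem ys_naturality {F G : X.Modules} (φ : F ⟶ G) (U : X.Opens) (n : ℕ) (x : Γ(F, U)) :
    ((Scheme.Modules.pullback (FSch.completionToX X 𝓘 n)).map φ).app _ (yg hX (FSch.completionToX X 𝓘) (FSch.completionToX_comm X 𝓘) F U n x) =
      yg hX (FSch.completionToX X 𝓘) (FSch.completionToX_comm X 𝓘) G U n (φ.app U x) := by
  change _ = ((𝔐 G).F n).presheaf.map _ (pu _ G U (φ.app U x))
  rw [← pu_naturality]
  exact ConcreteCategory.congr_hom
    (((Scheme.Modules.pullback (FSch.completionToX X 𝓘 n)).map φ).mapPresheaf.naturality _) _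

theorem ys_surjective {F : X.Modules} (hF : Coh.IsQCoh F) (W : X.affineOpens) (n : ℕ) :
    Function.Surjective (yg hX (FSch.completionToX X 𝓘) (FSch.completionToX_comm X 𝓘) F W.1 n) := by
  haveI : IsClosedImmersion (FSch.completionToX X 𝓘 n) := inferInstance
  exact (bijective_map_of_eq ((𝔐 F).F n)
    (FSch.lvU_p _ hX (FSch.completionToX X 𝓘) (FSch.completionToX_comm X 𝓘) n W.1).symm _).2.comp
      (QCoh.unit_app_closed (FSch.completionToX X 𝓘 n) hF W.2).1

theorem ys_eq_zero_iff {F : X.Modules} (hF : Coh.IsQCoh F) (W : X.affineOpens) (n : ℕ) (x : Γ(F, W.1)) :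
    yg hX (FSch.completionToX X 𝓘) (FSch.completionToX_comm X 𝓘) F W.1 n x = 0 ↔ x ∈ 𝓘.ideal W ^ (n + 1) • (⊤ : Submodule Γ(X, W.1) Γ(F, W.1)) := by
  haveI : IsClosedImmersion (FSch.completionToX X 𝓘 n) := inferInstance
  refine Iff.trans (map_eq_zero_iff _ (bijective_map_of_eq ((𝔐 F).F n)
    (FSch.lvU_p _ hX (FSch.completionToX X 𝓘) (FSch.completionToX_comm X 𝓘) n W.1).symm _).1) ?_
  refine Iff.trans ((QCoh.unit_app_closed (FSch.completionToX X 𝓘 n) hF W.2).2 x) ?_
  rw [show (FSch.completionToX X 𝓘 n).ker = 𝓘 ^ (n + 1) from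
    Scheme.IdealSheafData.ker_subschemeι _, Scheme.IdealSheafData.ideal_pow]
  rfl

theorem ys_eq_iff {F : X.Modules} (hF : Coh.IsQCoh F) (W : X.affineOpens) (n : ℕ) (a b : Γ(F, W.1)) :
    yg hX (FSch.completionToX X 𝓘) (FSch.completionToX_comm X 𝓘) F W.1 n a = yg hX (FSch.completionToX X 𝓘) (FSch.completionToX_comm X 𝓘) F W.1 n b ↔
      a - b ∈ 𝓘.ideal W ^ (n + 1) • (⊤ : Submodule Γ(X, W.1) Γ(F, W.1)) := by
  rw [← ys_eq_zero_iff hX hF W n, map_sub, sub_eq_zero]

/-- A section of the completion over the trace of an affine open and an element of the completed module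
correspond. -/
def CRel (F : X.Modules) (W : X.affineOpens) (s : Sec ((𝔐 F).realMod hX) trO((W : X.affineOpens).1))
    (c : AdicCompletion (𝓘.ideal W) Γ(F, W.1)) : Prop :=
  ∀ n x, Submodule.Quotient.mk x = c.val (n + 1) →
    rproj hX trO((W : X.affineOpens).1) (𝔐 F).F (𝔐 F).toPush n s = yg hX (FSch.completionToX X 𝓘) (FSch.completionToX_comm X 𝓘) F W.1 n x

variable {hX}

theorem CRel.map {F G : X.Modules} (φ : F ⟶ G) {W : X.affineOpens}
    {l : Γ(F, W.1) →ₗ[Γ(X, W.1)] Γ(G, W.1)} (hl : ∀ x, l x = φ.app W.1 x)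
    (hG : Coh.IsQCoh G) {s c} (h : CRel hX F W s c) :
    CRel hX G W (appL (FSch.ModSys.realModMap hX (FSch.complModMap 𝓘 φ)) _ s)
      (AdicCompletion.map (𝓘.ideal W) l c) := by
  intro n y hy
  obtain ⟨x, hx⟩ := Submodule.Quotient.mk_surjective _ (c.val (n + 1))
  refine (rproj_realModMap hX φ _ n s).trans ((congrArg _ (h n x hx)).trans
    ((ys_naturality hX φ W.1 n x).trans ((ys_eq_iff hX hG W n _ _).2 ?_)))
  have h2 : (AdicCompletion.map (𝓘.ideal W) l c).val (n + 1) = Submodule.Quotient.mk (l x) := by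
    rw [AdicCompletion.map_val_apply, ← hx]
    rfl
  rw [h2, eq_comm, Submodule.Quotient.eq, hl] at hy
  exact hy

theorem exists_rel_left {F : X.Modules} (hF : Coh.IsQCoh F) (W : X.affineOpens)
    (c : AdicCompletion (𝓘.ideal W) Γ(F, W.1)) : ∃ s, CRel hX F W s c := by
  choose x hx using fun n => Submodule.Quotient.mk_surjective _ (c.val (n + 1))
  have hcomp : ∀ n, yg hX (FSch.completionToX X 𝓘) (FSch.completionToX_comm X 𝓘) F W.1 n (x (n + 1)) =
      yg hX (FSch.completionToX X 𝓘) (FSch.completionToX_comm X 𝓘) F W.1 n (x n) := fun n => by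
    refine (ys_eq_iff hX hF W n _ _).2 ?_
    rw [← Submodule.Quotient.eq, hx n, ← c.2 (show n + 1 ≤ n + 1 + 1 by omega), ← hx (n + 1)]
    rfl
  obtain ⟨s, hs⟩ := exists_yg_lim hX (FSch.completionToX X 𝓘) (FSch.completionToX_comm X 𝓘) F
    (fun k => (𝔐 F).toPush k) (toPush_complMod' F) W.1 x hcomp
  refine ⟨s, fun n y hy => (hs n).trans ((ys_eq_iff hX hF W n _ _).2 ?_)⟩
  rw [← hx n, eq_comm, Submodule.Quotient.eq] at hy
  exact hy

theorem exists_rel_right {F : X.Modules} (hF : Coh.IsQCoh F) (W : X.affineOpens)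
    (s : Sec ((𝔐 F).realMod hX) trO((W : X.affineOpens).1)) : ∃ c, CRel hX F W s c := by
  choose x hx using fun n => ys_surjective hX hF W n (rproj hX trO((W : X.affineOpens).1) (𝔐 F).F (𝔐 F).toPush n s)
  have he : ∀ n, yg hX (FSch.completionToX X 𝓘) (FSch.completionToX_comm X 𝓘) F W.1 n (x n) = yg hX (FSch.completionToX X 𝓘) (FSch.completionToX_comm X 𝓘) F W.1 n (x (n + 1)) := fun n =>
    (hx n).trans ((τ_rproj hX trO((W : X.affineOpens).1) (𝔐 F).F (𝔐 F).toPush n s).symm.trans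
      ((congrArg (τ hX trO((W : X.affineOpens).1) (𝔐 F).F (𝔐 F).toPush n) (hx (n + 1)).symm).trans
        (τ_ys hX F W.1 n (x (n + 1)))))
  let a : ℕ → Γ(F, W.1) := fun k => x (k - 1)
  have ha : ∀ k, a k ≡ a (k + 1) [SMOD (𝓘.ideal W ^ k • ⊤ : Submodule Γ(X, W.1) Γ(F, W.1))]
    | 0 => by simp [SModEq.sub_mem]
    | k + 1 => by
      rw [SModEq.sub_mem]
      exact (ys_eq_iff hX hF W k _ _).1 (he k)
  refine ⟨AdicCompletion.mk _ _ (AdicCompletion.AdicCauchySequence.mk _ _ a fun k => ha k),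
    fun n y hy => ?_⟩
  have hy' : Submodule.Quotient.mk y = (Submodule.Quotient.mk (x n) :
      Γ(F, W.1) ⧸ (𝓘.ideal W ^ (n + 1) • ⊤ : Submodule Γ(X, W.1) Γ(F, W.1))) := hy
  rw [eq_comm, Submodule.Quotient.eq] at hy'
  exact (hx n).symm.trans ((ys_eq_iff hX hF W n _ _).2 hy')

theorem CRel.eq {F : X.Modules} {W : X.affineOpens} {s s' c} (h : CRel hX F W s c)
    (h' : CRel hX F W s' c) : s = s' :=
  lim_ext hX _ _ _ fun n =>
    have ⟨x, hx⟩ := Submodule.Quotient.mk_surjective _ (c.val (n + 1))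
    (h n x hx).trans (h' n x hx).symm

theorem rel_zero {F : X.Modules} (hF : Coh.IsQCoh F) (W : X.affineOpens) : CRel hX F W 0 0 :=
  fun n x hx => (map_zero _).trans
    ((ys_eq_zero_iff hX hF W n x).2 ((Submodule.Quotient.mk_eq_zero _).1 hx)).symm

theorem CRel.eq_zero {F : X.Modules} (hF : Coh.IsQCoh F) {W : X.affineOpens} {c}
    (h : CRel hX F W 0 c) : c = 0 := by
  refine AdicCompletion.ext fun k => ?_
  rcases k with _ | k
  · obtain ⟨x, hx⟩ := Submodule.Quotient.mk_surjective _ (c.val 0)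
    rw [← hx]
    exact (Submodule.Quotient.mk_eq_zero _).2 (by simp)
  · obtain ⟨x, hx⟩ := Submodule.Quotient.mk_surjective _ (c.val (k + 1))
    rw [← hx]
    exact (Submodule.Quotient.mk_eq_zero _).2
      ((ys_eq_zero_iff hX hF W k x).1 ((h k x hx).symm.trans (map_zero _)))

variable (hX)

/-- The opens cut out by affine opens of the scheme form a basis. -/
theorem isBasis_tr :
    Opens.IsBasis {V : ((FSch.completionAlong X 𝓘).X 0).Opens | ∃ W : X.affineOpens, trO(W.1) = V} := by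
  rw [Opens.isBasis_iff_nbhd]
  intro V x hx
  obtain ⟨W, hW, hxW, hWV⟩ := Opens.isBasis_iff_nbhd.1 X.isBasis_affineOpens
    (show (FSch.completionToX X 𝓘 0).base x ∈ ext V from
      (show x ∈ tr X 𝓘 (ext V) from (tr_ext V).symm ▸ hx))
  exact ⟨_, ⟨⟨W, hW⟩, rfl⟩, hxW, (tr_mono hWV).trans (tr_ext V).le⟩

theorem realModMap_comp_eq_zero {F G H : X.Modules} (f : F ⟶ G) (g : G ⟶ H) (w : f ≫ g = 0) :
    FSch.ModSys.realModMap hX (FSch.complModMap 𝓘 f) ≫
      FSch.ModSys.realModMap hX (FSch.complModMap 𝓘 g) = 0 := by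
  refine hom_ext fun V s => lim_ext hX _ _ _ fun n => ?_
  rw [appL_comp, rproj_realModMap, rproj_realModMap, appL_zero, map_zero]
  have h : (Scheme.Modules.pullback (FSch.completionToX X 𝓘 n)).map f ≫
      (Scheme.Modules.pullback (FSch.completionToX X 𝓘 n)).map g = 0 := by
    rw [← Functor.map_comp, w, Functor.map_zero]
  exact congrArg (fun φ => Scheme.Modules.Hom.app φ _ (rproj hX V (𝔐 F).F (𝔐 F).toPush n s)) h

/-- Completion is exact on coherent modules. -/
theorem shortExact_complMod [IsLocallyNoetherian X] (S : ShortComplex X.Modules) (hS : S.ShortExact)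
    (h1 : Coh.IsCoh S.X₁) (h2 : Coh.IsCoh S.X₂) (h3 : Coh.IsCoh S.X₃)
    (w : FSch.ModSys.realModMap hX (FSch.complModMap 𝓘 S.f) ≫
      FSch.ModSys.realModMap hX (FSch.complModMap 𝓘 S.g) = 0) :
    (ShortComplex.mk _ _ w).ShortExact := by
  haveI := hS.mono_f
  haveI := hS.epi_g
  let lin {F G : X.Modules} (φ : F ⟶ G) (W : X.Opens) : Γ(F, W) →ₗ[Γ(X, W)] Γ(G, W) :=
    { toFun := φ.app W, map_add' := map_add (φ.app W).hom, map_smul' := fun r x => φ.app_smul r x }
  have hnoeth : ∀ W : X.affineOpens, IsNoetherianRing Γ(X, W.1) :=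
    fun W => IsLocallyNoetherian.component_noetherian W
  have hinj : ∀ W : X.affineOpens, Function.Injective (lin S.f W.1) := fun W => by
    haveI : @Mono (ModSite.Mod X.sheaf) _ S.X₁ S.X₂ S.f := hS.mono_f
    exact injective_of_mono (O := X.sheaf) (M := S.X₁) (N := S.X₂) S.f W.1
  have hsur : ∀ W : X.affineOpens, Function.Surjective (lin S.g W.1) := fun W =>
    QCoh.app_surjective_of_epi h2.1 h3.1 S.g W.2
  have hex : ∀ W : X.affineOpens, Function.Exact (lin S.f W.1) (lin S.g W.1) := fun W => by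
    intro x
    refine ⟨fun hx => ?_, ?_⟩
    · obtain ⟨t, ht⟩ := exists_kernel_lift (O := X.sheaf) (M := S.X₂) (N := S.X₃) S.g x hx
      let φ : kernel S.g ⟶ S.X₁ := (IsLimit.conePointUniqueUpToIso hS.fIsKernel (kernelIsKernel S.g)).inv
      have hφ : φ ≫ S.f = kernel.ι S.g :=
        IsLimit.conePointUniqueUpToIso_inv_comp hS.fIsKernel (kernelIsKernel S.g) WalkingParallelPair.zero
      exact ⟨appL (O := X.sheaf) φ W.1 t,
        (congrArg (fun ψ => appL (O := X.sheaf) ψ W.1 t) hφ).trans ht⟩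
    · rintro ⟨y, rfl⟩
      exact congrArg (fun φ => Scheme.Modules.Hom.app φ W.1 y) S.zero
  refine { exact := ?_, mono_f := ?_, epi_g := ?_ }
  · refine exact_of_isBasis _ (isBasis_tr (𝓘 := 𝓘)) ?_
    rintro _ ⟨W, rfl⟩ s hs
    have := hnoeth W
    have := QCoh.finite_sections h1 W.2
    have := QCoh.finite_sections h2 W.2
    have := QCoh.finite_sections h3 W.2
    obtain ⟨c, hc⟩ := exists_rel_right h2.1 W s
    have hc' := hc.map S.g (l := lin S.g W.1) (fun _ => rfl) h3.1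
    rw [show appL (FSch.ModSys.realModMap hX (FSch.complModMap 𝓘 S.g)) _ s = 0 from hs] at hc'
    obtain ⟨d, hd⟩ := (AdicCompletion.map_exact (I := 𝓘.ideal W) (hinj W) (hex W) (hsur W) c).1
      (hc'.eq_zero h3.1)
    obtain ⟨t, ht⟩ := exists_rel_left (hX := hX) h1.1 W d
    have ht' := ht.map S.f (l := lin S.f W.1) (fun _ => rfl) h2.1
    rw [hd] at ht'
    exact ⟨t, ht'.eq hc⟩
  · refine mono_of_isBasis _ (isBasis_tr (𝓘 := 𝓘)) ?_
    rintro _ ⟨W, rfl⟩
    refine (injective_iff_map_eq_zero _).2 fun s hs => ?_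
    have := hnoeth W
    have := QCoh.finite_sections h2 W.2
    obtain ⟨c, hc⟩ := exists_rel_right h1.1 W s
    have hc' := hc.map S.f (l := lin S.f W.1) (fun _ => rfl) h2.1
    rw [show appL (FSch.ModSys.realModMap hX (FSch.complModMap 𝓘 S.f)) _ s = 0 from hs] at hc'
    have : c = 0 := AdicCompletion.map_injective _ (hinj W) ((hc'.eq_zero h2.1).trans (map_zero _).symm)
    rw [this] at hc
    exact hc.eq (rel_zero h1.1 W)
  · refine epi_of_isBasis _ (isBasis_tr (𝓘 := 𝓘)) ?_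
    rintro _ ⟨W, rfl⟩ t
    obtain ⟨c, hc⟩ := exists_rel_right h3.1 W t
    obtain ⟨d, hd⟩ := AdicCompletion.map_surjective (I := 𝓘.ideal W) (hsur W) c
    obtain ⟨s, hs⟩ := exists_rel_left (hX := hX) h2.1 W d
    have hs' := hs.map S.g (l := lin S.g W.1) (fun _ => rfl) h3.1
    rw [hd] at hs'
    exact ⟨s, hs'.eq hc⟩

end Groth.Agent.FMod90
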