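import Groth.Agent.FMod90.Pres
import Mathlib.Topology.Sheaves.SheafCondition.Sites
import Mathlib.Algebra.Category.ModuleCat.Sheaf.PushforwardContinuous

/-!
# Extension by restriction: modules supported on an open
-/

set_option autoImplicit false

universe u

open CategoryTheory CategoryTheory.Limits Opposite TopologicalSpace Topology

namespace Groth.Agent.FMod90

variable {T : TopCat.{u}} {O : Sheaf (Opens.grothendieckTopology T) CommRingCat.{u}} (U : Opens T)

/-- Intersection with an open, as a functor factoring through the open. -/
abbrev capF : Opens T ⥤ Opens T :=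
  Opens.map (Opens.inclusion' U) ⋙ U.isOpenEmbedding.isOpenMap.functor

theorem capF_obj (V : Opens T) : (capF U).obj V = V ⊓ U := by
  ext x
  constructor
  · rintro ⟨y, hy, rfl⟩
    exact ⟨hy, y.2⟩
  · rintro ⟨hV, hU⟩
    exact ⟨⟨x, hU⟩, hV, rfl⟩

theorem capF_le (V : Opens T) : (capF U).obj V ≤ V := (capF_obj U V).le.trans inf_le_left

theorem capF_eq {V : Opens T} (h : V ≤ U) : (capF U).obj V = V := (capF_obj U V).trans (inf_eq_left.2 h)

instance isContinuous_capF :
    (capF U).IsContinuous (Opens.grothendieckTopology T) (Opens.grothendieckTopology T) :=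
  haveI := U.isOpenEmbedding.functor_isContinuous
  Functor.isContinuous_comp _ _ _ (Opens.grothendieckTopology ((Opens.toTopCat T).obj U)) _

/-- Restriction of functions to the intersection with the open. -/
noncomputable def capSharp : ModSite.ringSh O ⟶
    ((capF U).sheafPushforwardContinuous RingCat.{u} (Opens.grothendieckTopology T)
      (Opens.grothendieckTopology T)).obj (ModSite.ringSh O) :=
  ⟨{ app := fun V => (ModSite.ringSh O).obj.map (homOfLE (capF_le U V.unop)).op
     naturality := fun V V' g => by
       change (ModSite.ringSh O).obj.map g ≫ (ModSite.ringSh O).obj.map _ =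
         (ModSite.ringSh O).obj.map _ ≫ (ModSite.ringSh O).obj.map _
       rw [← Functor.map_comp, ← Functor.map_comp]
       rfl }⟩

/-- The module `V ↦ M(V ⊓ U)`. -/
noncomputable def suppExt (M : ModSite.Mod O) : ModSite.Mod O :=
  (SheafOfModules.pushforward.{u} (F := capF U) (capSharp U)).obj M

variable {M : ModSite.Mod O}

/-- Restriction along an equality of opens is bijective. -/
theorem bijective_res_of_eq {V V' : Opens T} (e : V' = V) (le : V' ≤ V) : Function.Bijective (res M le) := by
  subst e
  exact Function.bijective_iff_has_inverse.2 ⟨id, fun s => res_refl _ _, fun s => res_refl _ _⟩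

theorem isSuppOn_suppExt : IsSuppOn (suppExt U M) U := fun V =>
  bijective_res_of_eq ((capF_eq U inf_le_right).trans (capF_obj U V).symm)
    ((capF U).map (homOfLE (inf_le_left : V ⊓ U ≤ V))).le

variable (M) in
/-- The restriction of a module to the module supported on the open. -/
noncomputable def toSupp : M ⟶ suppExt U M :=
  mkHom
    (fun V =>
      { toFun := fun s => res M (capF_le U V) s
        map_add' := fun s t => map_add _ s t
        map_smul' := fun a s => res_smul _ a s })
    fun V V' h s =>
      (res_res (capF_le U V) ((capF U).map (homOfLE h)).le s).trans (res_res h (capF_le U V') s).symm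

theorem appL_toSupp_injective {V : Opens T} (h : V ≤ U) : Function.Injective (appL (toSupp U M) V) :=
  (bijective_res_of_eq (capF_eq U h) (capF_le U V)).1

end Groth.Agent.FMod90
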