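import Groth.Agent.FMod90.ComplPres
import Groth.Agent.FMod90.Supp

/-!
# The completion of a coherent module is its inverse image to the completion
-/

set_option autoImplicit false
set_option maxHeartbeats 1000000

universe u

open CategoryTheory CategoryTheory.Limits AlgebraicGeometry TopologicalSpace Opposite

namespace Groth.Agent.FMod90

set_option allowUnsafeReducibility true in
attribute [local reducible] FSch.ModSys.realMod

open FTors52

variable {X : Scheme.{u}} {𝓘 : X.IdealSheafData} (hX : (FSch.completionAlong X 𝓘).IsFormal)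

local notation "𝔐" => FSch.complMod 𝓘

set_option quotPrecheck false in
local notation "trO(" U ")" => (Opens.map (FSch.completionToX _ 𝓘 0).base).obj U

set_option quotPrecheck false in
local notation "shO(" U ")" => shg hX (FSch.completionToX _ 𝓘) (FSch.completionToX_comm _ 𝓘) U

set_option quotPrecheck false in
local notation "κO" => FSch.toSchemeMor (FSch.completionAlong _ 𝓘) hX (FSch.completionToX _ 𝓘)
  (FSch.completionToX_comm _ 𝓘)

/-- The morphism to the direct image of the completion. -/
noncomputable def γhom (F : X.Modules) :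
    (show ModSite.Mod X.sheaf from F) ⟶ (κO).push.obj ((𝔐 F).realMod hX) :=
  mkHom (O := X.sheaf)
    (fun U =>
      { toFun := fun x => cs hX F U x
        map_add' := fun x y => cs_add hX F U x y
        map_smul' := fun a x => cs_smul hX F U a x })
    fun _ _ h x => res_cs hX F h ((Opens.map (FSch.completionToX X 𝓘 0).base).map (homOfLE h)).le x

/-- Sections generating over an affine open generate on every smaller open. -/
theorem isGen_of_affine {F : X.Modules} (hF : Coh.IsQCoh F) (W : X.affineOpens) {n : ℕ}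
    (s : Fin n → Γ(F, W.1)) (hs : ∀ y, ∃ a : Fin n → Γ(X, W.1), ∑ i, a i • s i = y) :
    IsGen (O := X.sheaf) (show ModSite.Mod X.sheaf from F) (U := W.1) s := by
  intro V hV y x hx
  obtain ⟨g, hgV, hxg⟩ := W.2.exists_basicOpen_le (⟨x, hx⟩ : V) (hV hx)
  obtain ⟨a, ha⟩ := exists_comb_basicOpen W.2 g s hF rfl (X.basicOpen_le g) hs
    (F.presheaf.map (homOfLE hgV).op y)
  exact ⟨_, hgV, a, hxg, ha⟩

/-- The morphism from the inverse image to the completion. -/
noncomputable def φhom (F : X.Modules) : (κO).pull.obj F ⟶ (𝔐 F).realMod hX :=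
  ((κO).adj.homEquiv _ _).symm (γhom hX F)

theorem homEquiv_φhom (F : X.Modules) : (κO).adj.homEquiv _ _ (φhom hX F) = γhom hX F :=
  ((κO).adj.homEquiv _ _).apply_symm_apply _

/-- A section pulled back to the completion. -/
noncomputable def uO (F : X.Modules) (U : X.Opens) (x : Γ(F, U)) :
    Sec ((κO).pull.obj F) trO(U) :=
  appL (O := X.sheaf) ((κO).adj.unit.app F) U x

theorem appL_φhom_uO (F : X.Modules) (U : X.Opens) (x : Γ(F, U)) :
    appL (φhom hX F) trO(U) (uO hX F U x) = cs hX F U x := by
  have h := homEquiv_φhom hX F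
  rw [Adjunction.homEquiv_unit] at h
  exact congrArg (fun ψ => appL (O := X.sheaf) ψ U x) h

theorem uO_rel (F : X.Modules) (U : X.Opens) {n : ℕ} (s : Fin n → Γ(F, U)) (c : Fin n → Γ(X, U))
    (h : ∑ i, c i • s i = 0) :
    comb (fun i => uO hX F U (s i)) le_rfl (fun i => shO(U) (c i)) = 0 := by
  let L := appL (O := X.sheaf) ((κO).adj.unit.app F) U
  have h1 : ∑ i, L (c i • s i) = 0 := (map_sum L _ _).symm.trans ((congrArg L h).trans (map_zero L))
  refine Eq.trans (Finset.sum_congr rfl fun i _ => ?_) h1
  rw [res_refl]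
  exact (map_smul (appL (O := X.sheaf) ((κO).adj.unit.app F) U) (c i) (s i)).symm

variable [IsLocallyNoetherian X]

/-- The comparison is bijective on sections over small opens. -/
theorem bijective_φhom {F : X.Modules} (hF : Coh.IsCoh F) (W : X.affineOpens)
    {V : ((FSch.completionAlong X 𝓘).X 0).Opens} (hV : V ≤ trO((W : X.affineOpens).1)) :
    Function.Bijective (appL (φhom hX F) V) := by
  obtain ⟨n, m, s, r, hs, hrel, hr⟩ := exists_isPres_affine hF W
  have hp := isPres_complMod hX hF W s r hs hrel hr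
  let M := (κO).pull.obj F
  let η := toSupp trO((W : X.affineOpens).1) M
  have hN : IsSuppOn (suppExt trO((W : X.affineOpens).1) M) trO((W : X.affineOpens).1) := isSuppOn_suppExt _
  have ht : ∀ l, comb (fun i => appL η trO((W : X.affineOpens).1) (uO hX F W.1 (s i))) le_rfl
      (fun i => shO((W : X.affineOpens).1) (r l i)) = 0 := fun l => by
    rw [← appL_comb, uO_rel hX F W.1 s (r l) (hrel l), map_zero]
  let ψ := homOfPres hp hN ht
  have hψ : φhom hX F ≫ ψ = η := by
    apply ((κO).adj.homEquiv _ _).injective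
    refine hom_ext_of_isGen (O := X.sheaf) (isGen_of_affine hF.1 W s hs)
      (fun Z => hN trO(Z)) fun i => ?_
    rw [Adjunction.homEquiv_unit, Adjunction.homEquiv_unit]
    change appL ψ _ (appL (φhom hX F) trO((W : X.affineOpens).1) (uO hX F W.1 (s i))) =
      appL η trO((W : X.affineOpens).1) (uO hX F W.1 (s i))
    rw [appL_φhom_uO]
    exact appL_homOfPres hp hN ht i
  have hinj : ∀ V' : ((FSch.completionAlong X 𝓘).X 0).Opens, V' ≤ trO((W : X.affineOpens).1) →
      Function.Injective (appL (φhom hX F) V') := fun V' hV' a b hab => by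
    refine appL_toSupp_injective _ hV' ?_
    change appL η V' a = appL η V' b
    rw [← hψ, appL_comp, appL_comp, hab]
  refine ⟨hinj V hV, fun y => ?_⟩
  choose Vx hVx a hxV ha using fun x : V => hp.gen V hV y x.1 x.2
  let z : ∀ x : V, Sec M (Vx x) := fun x => comb (fun i => uO hX F W.1 (s i)) ((hVx x).trans hV) (a x)
  have hz : ∀ x, appL (φhom hX F) (Vx x) (z x) = res _ (hVx x) y := fun x => by
    rw [appL_comb, ← ha x]
    exact congrArg (fun t => comb t ((hVx x).trans hV) (a x)) (funext fun i => appL_φhom_uO hX F W.1 (s i))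
  obtain ⟨w, hw⟩ := exists_glue Vx hVx (fun x hx => Opens.mem_iSup.2 ⟨⟨x, hx⟩, hxV _⟩) z fun x x' => by
    refine hinj _ (inf_le_left.trans ((hVx x).trans hV)) ?_
    rw [← res_appL, ← res_appL, hz, hz, res_res, res_res]
  refine ⟨w, eq_of_locally fun x hx => ⟨_, hVx ⟨x, hx⟩, hxV _, ?_⟩⟩
  rw [res_appL, hw, hz]

/-- The comparison is an isomorphism. -/
theorem isIso_φhom {F : X.Modules} (hF : Coh.IsCoh F) : IsIso (φhom hX F) := by
  refine isIso_of_isBasis _ (B := {V | ∃ W : X.affineOpens, trO(W.1) = V}) (isBasis_tr (𝓘 := 𝓘)) ?_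
  rintro _ ⟨W, rfl⟩
  exact bijective_φhom hX hF W le_rfl

omit [IsLocallyNoetherian X] in
theorem γhom_realProj (F : X.Modules) (k : ℕ) :
    γhom hX F ≫ (κO).push.map (FSch.realProj (FSch.completionAlong X 𝓘) hX (𝔐 F).F (𝔐 F).toPush k) =
      (Scheme.Modules.pullbackPushforwardAdjunction (FSch.completionToX X 𝓘 k)).unit.app F ≫
        (FSch.schPushCompare (FSch.completionAlong X 𝓘) hX (FSch.completionToX X 𝓘)
          (FSch.completionToX_comm X 𝓘) k).app _ :=
  hom_ext (O := X.sheaf) fun U x => rproj_cs hX F U x k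

end Groth.Agent.FMod90
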