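import Mathlib.RingTheory.MvPowerSeries.Basic
import Mathlib.RingTheory.Ideal.Quotient.Operations
import Mathlib.RingTheory.Adjoin.Basic
import Mathlib.Algebra.MvPolynomial.Eval
import Mathlib.Algebra.MvPolynomial.CommRing
import Mathlib.Data.Set.Countable
import Mathlib.Data.Countable.Basic
import Mathlib.Data.Finsupp.Encodable

/-!
# Sections over a formal disc
-/

set_option autoImplicit false

universe u

open MvPowerSeries

namespace Groth.Agent.FMod90.Disc

variable (k : Type u) [CommRing k] {σ : Type} (R : Type u) [CommRing R] [Algebra (MvPowerSeries σ k) R]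

/-- The free algebra on the coefficients. -/
abbrev Free : Type u := MvPolynomial (R × (σ →₀ ℕ)) k

/-- The universal series of an element. -/
noncomputable def ser (r : R) : MvPowerSeries σ (Free k (σ := σ) R) := fun m => MvPolynomial.X (r, m)

theorem coeff_ser (r : R) (m : σ →₀ ℕ) :
    coeff m (ser k R r) = MvPolynomial.X (r, m) := rfl

/-- The relations expressing that the universal series is an algebra map. -/
noncomputable def rels : Ideal (Free k (σ := σ) R) :=
  Ideal.span
    ({x | ∃ a b m, x = coeff m (ser k R (a + b) - ser k R a - ser k R b)} ∪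
      {x | ∃ a b m, x = coeff m (ser k R (a * b) - ser k R a * ser k R b)} ∪
      {x | ∃ (c : MvPowerSeries σ k) (m : σ →₀ ℕ),
        x = coeff m (ser k R (algebraMap _ R c) - MvPowerSeries.map (algebraMap k (Free k (σ := σ) R)) c)})

/-- The representing algebra. -/
abbrev Rep : Type u := Free k (σ := σ) R ⧸ rels k (σ := σ) R

/-- Reduction modulo the relations. -/
noncomputable abbrev π : MvPowerSeries σ (Free k (σ := σ) R) →+* MvPowerSeries σ (Rep k (σ := σ) R) :=
  MvPowerSeries.map (Ideal.Quotient.mk (rels k (σ := σ) R))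

theorem π_eq {x y : MvPowerSeries σ (Free k (σ := σ) R)}
    (h : ∀ m, coeff m (x - y) ∈ rels k (σ := σ) R) : π k (σ := σ) R x = π k (σ := σ) R y := by
  ext m
  rw [coeff_map, coeff_map, Ideal.Quotient.eq, ← map_sub]
  exact h m

theorem π_add (a b : R) : π k (σ := σ) R (ser k R (a + b)) = π k (σ := σ) R (ser k R a) + π k (σ := σ) R (ser k R b) := by
  rw [← map_add]
  refine π_eq k R fun m => Ideal.subset_span (Or.inl (Or.inl ⟨a, b, m, ?_⟩))
  rw [sub_sub]

theorem π_mul (a b : R) : π k (σ := σ) R (ser k R (a * b)) = π k (σ := σ) R (ser k R a) * π k (σ := σ) R (ser k R b) := by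
  rw [← map_mul]
  exact π_eq k R fun m => Ideal.subset_span (Or.inl (Or.inr ⟨a, b, m, rfl⟩))

theorem π_algebraMap (c : MvPowerSeries σ k) :
    π k (σ := σ) R (ser k R (algebraMap _ R c)) = algebraMap _ (MvPowerSeries σ (Rep k (σ := σ) R)) c := by
  refine (π_eq k R fun m => Ideal.subset_span (Or.inr ⟨c, m, rfl⟩)).trans ?_
  rw [algebraMap_apply'']
  ext m
  rw [coeff_map, coeff_map, coeff_map]
  exact Ideal.Quotient.mk_algebraMap k _ _

/-- The universal algebra map. -/
noncomputable def univ : R →ₐ[MvPowerSeries σ k] MvPowerSeries σ (Rep k (σ := σ) R) where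
  toFun r := π k (σ := σ) R (ser k R r)
  map_one' := by
    have h := π_algebraMap k R (1 : MvPowerSeries σ k)
    rwa [map_one, map_one] at h
  map_mul' := π_mul k R
  map_zero' := by
    have h := π_algebraMap k R (0 : MvPowerSeries σ k)
    rwa [map_zero, map_zero] at h
  map_add' := π_add k R
  commutes' := π_algebraMap k R

variable {k R}

theorem existsUnique_factor (Q : Type u) [CommRing Q] [Algebra k Q]
    (f : R →ₐ[MvPowerSeries σ k] MvPowerSeries σ Q) :
    ∃! g : Rep k (σ := σ) R →ₐ[k] Q,
      (MvPowerSeries.map (σ := σ) (g : Rep k (σ := σ) R →+* Q)).comp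
          (univ k (σ := σ) R : R →+* MvPowerSeries σ (Rep k (σ := σ) R)) =
        (f : R →+* MvPowerSeries σ Q) := by
  let g₀ : Free k (σ := σ) R →ₐ[k] Q := MvPolynomial.aeval fun p => coeff p.2 (f p.1)
  have hser : ∀ r, MvPowerSeries.map (σ := σ) (g₀ : Free k (σ := σ) R →+* Q) (ser k R r) = f r := fun r => by
    ext m
    rw [coeff_map, coeff_ser]
    exact MvPolynomial.aeval_X _ _
  have hcoef : ∀ (x : MvPowerSeries σ (Free k (σ := σ) R)) m,
      g₀ (coeff m x) = coeff m (MvPowerSeries.map (σ := σ) (g₀ : Free k (σ := σ) R →+* Q) x) :=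
    fun x m => (coeff_map _ _ _).symm
  have hrels : rels k (σ := σ) R ≤ RingHom.ker (g₀ : Free k (σ := σ) R →+* Q) := by
    refine Ideal.span_le.2 ?_
    rintro _ ((⟨a, b, m, rfl⟩ | ⟨a, b, m, rfl⟩) | ⟨c, m, rfl⟩)
    · refine (hcoef _ m).trans ?_
      simp only [map_sub, hser, map_add]
      abel
    · refine (hcoef _ m).trans ?_
      rw [map_sub, map_mul, hser, hser, hser, map_mul, sub_self, map_zero]
    · refine (hcoef _ m).trans ?_
      rw [map_sub, hser, AlgHom.commutes, algebraMap_apply'', map_sub, coeff_map, coeff_map, coeff_map]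
      exact sub_eq_zero.2 (g₀.commutes _).symm
  refine ⟨Ideal.Quotient.liftₐ _ g₀ fun x hx => hrels hx, RingHom.ext fun r => ?_, fun g' hg' => ?_⟩
  · refine Eq.trans ?_ (hser r)
    ext m
    rw [RingHom.comp_apply, coeff_map, coeff_map]
    change Ideal.Quotient.liftₐ _ g₀ (fun x hx => hrels hx) (coeff m (π k (σ := σ) R (ser k R r))) =
      g₀ (coeff m (ser k R r))
    rw [coeff_map]
    exact Ideal.Quotient.lift_mk _ _ _
  · refine Ideal.Quotient.algHom_ext _ (MvPolynomial.algHom_ext fun p => ?_)
    have h := congrArg (fun φ => coeff p.2 (φ p.1)) hg'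
    simp only [RingHom.comp_apply, coeff_map] at h
    change g' (Ideal.Quotient.mk _ (MvPolynomial.X p)) = _
    refine Eq.trans ?_ (h.trans (MvPolynomial.aeval_X (fun p : R × (σ →₀ ℕ) => coeff p.2 (f p.1)) p).symm)
    refine congrArg g' ?_
    exact (coeff_map (Ideal.Quotient.mk _) p.2 (ser k R p.1)).symm

theorem exists_countable [Countable σ]
    (h : ∃ s : Set R, s.Countable ∧ Algebra.adjoin (MvPowerSeries σ k) s = ⊤) :
    ∃ t : Set (Rep k (σ := σ) R), t.Countable ∧ Algebra.adjoin k t = ⊤ := by
  obtain ⟨s, hs, htop⟩ := h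
  let x : R × (σ →₀ ℕ) → Rep k (σ := σ) R := fun p => Ideal.Quotient.mk _ (MvPolynomial.X p)
  refine ⟨x '' (s ×ˢ Set.univ), (hs.prod Set.countable_univ).image _, ?_⟩
  set S := Algebra.adjoin k (x '' (s ×ˢ Set.univ)) with hS
  let T : Subalgebra (MvPowerSeries σ k) R :=
    { carrier := {r | ∀ m, coeff m (univ k (σ := σ) R r) ∈ S}
      one_mem' := fun m => by
        classical
        rw [map_one, coeff_one]
        split_ifs
        · exact one_mem S
        · exact zero_mem S
      zero_mem' := fun m => by rw [map_zero, map_zero]; exact zero_mem S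
      mul_mem' := fun {a b} ha hb m => by
        classical
        rw [map_mul, coeff_mul]
        exact sum_mem fun p _ => mul_mem (ha p.1) (hb p.2)
      add_mem' := fun {a b} ha hb m => by rw [map_add, map_add]; exact add_mem (ha m) (hb m)
      algebraMap_mem' := fun c m => by
        rw [AlgHom.commutes, algebraMap_apply'', coeff_map]
        exact S.algebraMap_mem _ }
  have hT : (⊤ : Subalgebra (MvPowerSeries σ k) R) ≤ T := htop ▸ Algebra.adjoin_le fun r hr m =>
    Algebra.subset_adjoin ⟨(r, m), ⟨hr, trivial⟩, (coeff_map (Ideal.Quotient.mk _) m (ser k R r)).symm⟩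
  rw [eq_top_iff]
  rintro p -
  obtain ⟨p, rfl⟩ := Ideal.Quotient.mk_surjective p
  induction p using MvPolynomial.induction_on with
  | C a => exact S.algebraMap_mem a
  | add p q hp hq => rw [map_add]; exact add_mem hp hq
  | mul_X p v hp =>
    rw [map_mul]
    refine mul_mem hp ?_
    have := hT (Algebra.mem_top (x := v.1)) v.2
    exact (coeff_map _ _ _ : coeff v.2 (π k (σ := σ) R (ser k R v.1)) = _) ▸ this

end Groth.Agent.FMod90.Disc
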