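import Groth.Agent.FMod90.TildeSec
import Mathlib.RingTheory.Filtration

/-!
# Formal sections against sections near a closed subset, in short exact sequences
-/

set_option autoImplicit false
set_option maxHeartbeats 1000000
set_option backward.isDefEq.respectTransparency false
set_option backward.isDefEq.respectTransparency.types false

universe u

open CategoryTheory CategoryTheory.Limits AlgebraicGeometry TopologicalSpace Opposite

namespace Groth.Agent.FMod90

open Formal2

section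

variable {A : Type u} [CommRing A] (I : Ideal A) (M : Type u) [AddCommGroup M] [Module A M]
  {U V V' W : (Spec (CommRingCat.of A)).Opens}

/-- Sections modulo all powers, compatible. -/
def IsFam (y : ∀ n, Γ(tmod A (quotPow A I M n), V)) : Prop :=
  ∀ n, tm (quotPowTrans A I M n) V (y (n + 1)) = y n

/-- The comparison of sections near the closed subset with formal sections, injectivity. -/
def ColimInj (U : (Spec (CommRingCat.of A)).Opens) : Prop :=
  ∀ V (_ : Admissible A I U V) (x : Γ(tmod A M, V)), (∀ n, tm (quotPowπ A I M n) V x = 0) →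
    ∃ (V' : (Spec (CommRingCat.of A)).Opens) (_ : Admissible A I U V') (h : V' ≤ V), sres h x = 0

/-- The comparison of sections near the closed subset with formal sections, surjectivity. -/
def ColimSurj (U : (Spec (CommRingCat.of A)).Opens) : Prop :=
  ∀ y : ∀ n, Γ(tmod A (quotPow A I M n), U), IsFam I M y →
    ∃ (V : (Spec (CommRingCat.of A)).Opens) (hV : Admissible A I U V) (x : Γ(tmod A M, V)),
      ∀ n, sres hV.1 (y n) = tm (quotPowπ A I M n) V x

/-- Classes of degree zero are sections. -/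
noncomputable def hv0 (V : (Spec (CommRingCat.of A)).Opens) : HV A M 0 V ≃+ Γ(tmod A M, V) :=
  hu0 (Coh.toAb (tmod A M)) V

theorem hv0_res (h : W ≤ V) (x : HV A M 0 V) : hv0 M W (HVres A M 0 h x) = sres h (hv0 M V x) :=
  hu0_res (Coh.toAb (tmod A M)) h x

theorem hv0_map {N : Type u} [AddCommGroup N] [Module A N] (φ : M →ₗ[A] N) (x : HV A M 0 V) :
    hv0 N V (HVmap A φ 0 V x) = tm φ V (hv0 M V x) :=
  hu0_map ((SheafOfModules.toSheaf _).map (tmodMap A φ)) V x

theorem formalCohColimBijective_iff :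
    FormalCohColimBijective A I M 0 U ↔ ColimInj I M U ∧ ColimSurj I M U := by
  refine ⟨fun h => ⟨fun V hV x hx => ?_, fun y hy => ?_⟩, fun h => ⟨fun V hV x hx => ?_, fun y hy => ?_⟩⟩
  · obtain ⟨V', hV', h0⟩ := h.1 V hV ((hv0 M V).symm x) fun n => (hv0 _ V).injective <| by
      rw [hv0_map, AddEquiv.apply_symm_apply, map_zero]
      exact hx n
    refine ⟨V', hV'.1, hV'.2, ?_⟩
    have h1 := congrArg (hv0 M V') h0
    rwa [hv0_res, AddEquiv.apply_symm_apply, map_zero] at h1
  · obtain ⟨V, hV, x, hx⟩ := h.2 (fun n => (hv0 _ U).symm (y n)) fun n => (hv0 _ U).injective <| by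
      rw [hv0_map, AddEquiv.apply_symm_apply, AddEquiv.apply_symm_apply]
      exact hy n
    refine ⟨V, hV, hv0 M V x, fun n => ?_⟩
    have h1 := congrArg (hv0 (quotPow A I M n) V) (hx n)
    rwa [hv0_res, hv0_map, AddEquiv.apply_symm_apply] at h1
  · obtain ⟨V', hV', hle, h0⟩ := h.1 V hV (hv0 M V x) fun n => by rw [← hv0_map, hx n, map_zero]
    exact ⟨V', ⟨hV', hle⟩, (hv0 M V').injective (by rw [hv0_res, map_zero]; exact h0)⟩
  · obtain ⟨V, hV, x, hx⟩ := h.2 (fun n => hv0 _ U (y n)) fun n =>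
      (hv0_map _ _ _).symm.trans (congrArg _ (hy n))
    refine ⟨V, hV, (hv0 M V).symm x, fun n => (hv0 _ V).injective ?_⟩
    rw [hv0_res, hv0_map, AddEquiv.apply_symm_apply]
    exact hx n

theorem admissible_inf (h : Admissible A I U V) (h' : Admissible A I U V') : Admissible A I U (V ⊓ V') :=
  ⟨inf_le_left.trans h.1, fun p hp hp' => ⟨h.2 p hp hp', h'.2 p hp hp'⟩⟩

variable {I}

theorem exists_mem_Db_of_notMem {x : Spec (CommRingCat.of A)}
    (hx : x ∉ PrimeSpectrum.zeroLocus (R := A) I) : ∃ b ∈ I, x ∈ Db b := by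
  obtain ⟨b, hb, hbx⟩ := Set.not_subset.1 hx
  refine ⟨b, hb, ?_⟩
  rw [Db, basicOpen_eq_of_affine', PrimeSpectrum.mem_basicOpen]
  simpa using hbx

/-- Sections of a module killed by a power of the ideal are determined near the closed subset. -/
theorem sres_injective_of_killed {k : ℕ} (hk : ∀ a ∈ I ^ k, ∀ m : M, a • m = 0)
    (hV : Admissible A I U V) : Function.Injective (sres (A := A) (M := M) hV.1) := by
  refine (injective_iff_map_eq_zero _).2 fun s hs => tsec_eq_zero_of_locally fun x hx => ?_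
  by_cases hxV : x ∈ V
  · exact ⟨V, hV.1, hxV, hs⟩
  obtain ⟨b, hb, hxb⟩ := exists_mem_Db_of_notMem fun h => hxV (hV.2 x hx h)
  refine ⟨U ⊓ Db b, inf_le_left, ⟨hx, hxb⟩,
    ((isUnit_sc (c := b) (inf_le_right : U ⊓ Db b ≤ Db b)).pow k).smul_eq_zero.1 ?_⟩
  rw [← map_pow]
  exact sc_smul_eq_zero (hk _ (Ideal.pow_mem_pow hb k)) _

theorem quotPow_killed (n : ℕ) : ∀ a ∈ I ^ (n + 1), ∀ m : quotPow A I M n, a • m = 0 := by
  intro a ha m
  obtain ⟨m, rfl⟩ := Submodule.mkQ_surjective _ m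
  exact (map_smul _ a m).symm.trans
    ((Submodule.Quotient.mk_eq_zero _).2 (Submodule.smul_mem_smul ha trivial))

end

section maps

variable {A : Type u} [CommRing A] {I : Ideal A} {M' M M'' : Type u} [AddCommGroup M'] [Module A M']
  [AddCommGroup M] [Module A M] [AddCommGroup M''] [Module A M'']
  {U V : (Spec (CommRingCat.of A)).Opens}

/-- A linear map modulo a power. -/
def qmap (I : Ideal A) (φ : M →ₗ[A] M'') (n : ℕ) : quotPow A I M n →ₗ[A] quotPow A I M'' n :=
  Submodule.mapQ _ _ φ (by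
    rw [← Submodule.map_le_iff_le_comap, Submodule.map_smul'']
    exact Submodule.smul_mono le_rfl le_top)

theorem qmap_π (φ : M →ₗ[A] M'') (n : ℕ) :
    (qmap I φ n).comp (quotPowπ A I M n) = (quotPowπ A I M'' n).comp φ :=
  Submodule.mapQ_mkQ _ _ _

theorem qmap_trans (φ : M →ₗ[A] M'') (n : ℕ) :
    (qmap I φ n).comp (quotPowTrans A I M n) = (quotPowTrans A I M'' n).comp (qmap I φ (n + 1)) :=
  Submodule.linearMap_qext _ (LinearMap.ext fun _ => rfl)

theorem qmap_comp_qmap_eq_zero (f : M' →ₗ[A] M) (g : M →ₗ[A] M'') (h : ∀ x, g (f x) = 0) (n : ℕ) :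
    (qmap I g n).comp (qmap I f n) = 0 := by
  refine Submodule.linearMap_qext _ (LinearMap.ext fun x => ?_)
  change Submodule.Quotient.mk (g (f x)) = _
  rw [h]
  rfl

theorem IsFam.map {y : ∀ n, Γ(tmod A (quotPow A I M n), V)} (hy : IsFam I M y) (φ : M →ₗ[A] M'') :
    IsFam I M'' fun n => tm (qmap I φ n) V (y n) := fun n =>
  (tm_comp _ _ _).symm.trans ((congrArg (fun l => tm l V (y (n + 1))) (qmap_trans φ n)).symm.trans
    ((tm_comp _ _ _).trans (congrArg (tm (qmap I φ n) V) (hy n))))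

theorem IsFam.sres {y : ∀ n, Γ(tmod A (quotPow A I M n), U)} (hy : IsFam I M y) (h : V ≤ U) :
    IsFam I M fun n => FMod90.sres h (y n) := fun n =>
  (tm_sres _ h _).trans (congrArg (FMod90.sres h) (hy n))

theorem IsFam.sub {y z : ∀ n, Γ(tmod A (quotPow A I M n), V)} (hy : IsFam I M y) (hz : IsFam I M z) :
    IsFam I M fun n => y n - z n := fun n => by rw [map_sub, hy n, hz n]

theorem IsFam.smul {y : ∀ n, Γ(tmod A (quotPow A I M n), V)} (hy : IsFam I M y)
    (r : Γ(Spec (CommRingCat.of A), V)) : IsFam I M fun n => r • y n := fun n => by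
  rw [tm_smul, hy n]

theorem isFam_tm (x : Γ(tmod A M, V)) : IsFam I M fun n => tm (quotPowπ A I M n) V x := fun n =>
  (tm_comp _ _ _).symm.trans (congrArg (fun l => tm l V x) (LinearMap.ext fun _ => rfl))

/-- The projection between quotients by powers. -/
def qto (M : Type u) [AddCommGroup M] [Module A M] (I : Ideal A) {m n : ℕ} (h : m ≤ n) :
    quotPow A I M n →ₗ[A] quotPow A I M m :=
  Submodule.mapQ _ _ LinearMap.id (by
    rw [Submodule.comap_id]
    exact Submodule.smul_mono_left (Ideal.pow_le_pow_right (by omega)))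

theorem qto_self (m : ℕ) : qto M I (le_refl m) = LinearMap.id := by
  refine LinearMap.ext fun z => ?_
  obtain ⟨z, rfl⟩ := Submodule.mkQ_surjective _ z
  simp only [qto, Submodule.mkQ_apply, Submodule.mapQ_apply, LinearMap.id_coe, id_eq]

theorem qto_succ {m n : ℕ} (h : m ≤ n) :
    (qto M I h).comp (quotPowTrans A I M n) = qto M I (h.trans n.le_succ) := by
  refine LinearMap.ext fun z => ?_
  obtain ⟨z, rfl⟩ := Submodule.mkQ_surjective _ z
  simp only [LinearMap.comp_apply, qto, quotPowTrans, Submodule.mkQ_apply, Submodule.mapQ_apply,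
    LinearMap.id_coe, id_eq]

theorem IsFam.qto_eq {y : ∀ n, Γ(tmod A (quotPow A I M n), V)} (hy : IsFam I M y) (m c : ℕ) :
    tm (qto M I (Nat.le_add_right m c)) V (y (m + c)) = y m := by
  induction c with
  | zero =>
    change tm (qto M I (le_refl m)) V (y m) = y m
    rw [qto_self, tm_id]
  | succ c ih =>
    refine Eq.trans ?_ ih
    change tm (qto M I ((Nat.le_add_right m c).trans (m + c).le_succ)) V (y (m + c + 1)) = _
    rw [← qto_succ, tm_comp, hy (m + c)]

variable (I) [IsNoetherianRing A] [Module.Finite A M] {f : M' →ₗ[A] M} (hf : Function.Injective f)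

include hf in
/-- Artin-Rees for an injective map. -/
theorem exists_shift : ∃ c, ∀ n, ∀ x : M', f x ∈ I ^ (n + c + 1) • (⊤ : Submodule A M) →
    x ∈ I ^ (n + 1) • (⊤ : Submodule A M') := by
  obtain ⟨k, hk⟩ := Ideal.exists_pow_inf_eq_pow_smul I (LinearMap.range f)
  refine ⟨k, fun n x hx => ?_⟩
  have h1 : f x ∈ I ^ (n + k + 1) • (⊤ : Submodule A M) ⊓ LinearMap.range f :=
    ⟨hx, LinearMap.mem_range_self f x⟩
  rw [hk _ (by omega), show n + k + 1 - k = n + 1 by omega] at h1
  have h2 : f x ∈ I ^ (n + 1) • Submodule.map f ⊤ := by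
    rw [Submodule.map_top]
    exact Submodule.smul_mono le_rfl inf_le_right h1
  rw [← Submodule.map_smul''] at h2
  obtain ⟨y, hy, hyx⟩ := h2
  rwa [hf hyx] at hy

/-- The submodule of elements whose image is divisible. -/
abbrev preQ (f : M' →ₗ[A] M) (n : ℕ) : Submodule A M' :=
  (I ^ (n + 1) • (⊤ : Submodule A M)).comap f

theorem preQ_le (n : ℕ) : I ^ (n + 1) • (⊤ : Submodule A M') ≤ preQ I f n := by
  rw [← Submodule.map_le_iff_le_comap, Submodule.map_smul'']
  exact Submodule.smul_mono le_rfl le_top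

variable {I}

include hf in
theorem fam_eq_zero {y : ∀ n, Γ(tmod A (quotPow A I M' n), V)} (hy : IsFam I M' y)
    (h : ∀ n, tm (qmap I f n) V (y n) = 0) (n : ℕ) : y n = 0 := by
  obtain ⟨c, hc⟩ := exists_shift I hf
  let p : quotPow A I M' (n + c) →ₗ[A] M' ⧸ preQ I f (n + c) :=
    Submodule.mapQ _ _ LinearMap.id (preQ_le I (n + c))
  let j : M' ⧸ preQ I f (n + c) →ₗ[A] quotPow A I M (n + c) := Submodule.mapQ _ _ f le_rfl
  let r : M' ⧸ preQ I f (n + c) →ₗ[A] quotPow A I M' n := Submodule.mapQ _ _ LinearMap.id (hc n)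
  have hj : Function.Injective j := (injective_iff_map_eq_zero _).2 fun x => by
    obtain ⟨x, rfl⟩ := Submodule.mkQ_surjective _ x
    exact fun hx => (Submodule.Quotient.mk_eq_zero _).2
      (show f x ∈ _ from (Submodule.Quotient.mk_eq_zero _).1 hx)
  have h1 : tm p V (y (n + c)) = 0 := by
    apply tm_injective j hj
    rw [← tm_comp, map_zero, ← h (n + c)]
    exact congrArg (fun l => tm l V (y (n + c))) (Submodule.linearMap_qext _ (LinearMap.ext fun _ => rfl))
  rw [← hy.qto_eq n c, show qto M' I (Nat.le_add_right n c) = r.comp p from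
    Submodule.linearMap_qext _ (LinearMap.ext fun _ => rfl), tm_comp, h1, map_zero]

variable {g : M →ₗ[A] M''} (hg : Function.Surjective g) (hfg : LinearMap.range f = LinearMap.ker g)

include hf hg hfg in
theorem exists_fam_eq {y : ∀ n, Γ(tmod A (quotPow A I M n), V)} (hy : IsFam I M y)
    (h : ∀ n, tm (qmap I g n) V (y n) = 0) :
    ∃ y' : ∀ n, Γ(tmod A (quotPow A I M' n), V), IsFam I M' y' ∧ ∀ n, tm (qmap I f n) V (y' n) = y n := by
  obtain ⟨c, hc⟩ := exists_shift I hf
  let j : ∀ n, M' ⧸ preQ I f n →ₗ[A] quotPow A I M n := fun n => Submodule.mapQ _ _ f le_rfl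
  have hj : ∀ n, Function.Injective (j n) := fun n => (injective_iff_map_eq_zero _).2 fun x => by
    obtain ⟨x, rfl⟩ := Submodule.mkQ_surjective _ x
    exact fun hx => (Submodule.Quotient.mk_eq_zero _).2
      (show f x ∈ _ from (Submodule.Quotient.mk_eq_zero _).1 hx)
  have hex : ∀ n, LinearMap.range (j n) = LinearMap.ker (qmap I g n) := fun n => by
    ext x
    obtain ⟨x, rfl⟩ := Submodule.mkQ_surjective _ x
    refine ⟨fun ⟨z, hz⟩ => ?_, fun hx => ?_⟩
    · obtain ⟨z, rfl⟩ := Submodule.mkQ_surjective _ z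
      rw [LinearMap.mem_ker, ← hz]
      change Submodule.Quotient.mk (g (f z)) = 0
      rw [show g (f z) = 0 from hfg.le (LinearMap.mem_range_self f z)]
      rfl
    · have h1 : g x ∈ I ^ (n + 1) • (⊤ : Submodule A M'') := (Submodule.Quotient.mk_eq_zero _).1 hx
      rw [← LinearMap.range_eq_top.2 hg, ← Submodule.map_top, ← Submodule.map_smul''] at h1
      obtain ⟨e, he, hxe⟩ := h1
      obtain ⟨z, hz⟩ := hfg.ge (show x - e ∈ LinearMap.ker g by simp [hxe])
      refine ⟨Submodule.Quotient.mk z, ?_⟩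
      refine (Submodule.Quotient.eq _).2 ?_
      rw [hz, sub_sub_cancel_left]
      exact neg_mem he
  choose z hz using fun n => exists_tm_eq (j n) (qmap I g n) (hj n) (hex n) (y n) (h n)
  let r : ∀ n, M' ⧸ preQ I f (n + c) →ₗ[A] quotPow A I M' n := fun n =>
    Submodule.mapQ _ _ LinearMap.id (hc n)
  let t : ∀ n, M' ⧸ preQ I f (n + 1 + c) →ₗ[A] M' ⧸ preQ I f (n + c) := fun n =>
    Submodule.mapQ _ _ LinearMap.id (Submodule.comap_mono
      (Submodule.smul_mono_left (Ideal.pow_le_pow_right (by omega))))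
  have ht : ∀ n, tm (t n) V (z (n + 1 + c)) = z (n + c) := fun n => by
    apply tm_injective (j (n + c)) (hj _)
    rw [hz, ← tm_comp]
    have e : (j (n + c)).comp (t n) =
        (qto M I (show n + c ≤ n + 1 + c by omega)).comp (j (n + 1 + c)) :=
      Submodule.linearMap_qext _ (LinearMap.ext fun _ => rfl)
    rw [e, tm_comp, hz]
    have key : ∀ k (hk : n + c ≤ k), k = n + c + 1 → tm (qto M I hk) V (y k) = y (n + c) := by
      rintro _ hk rfl
      exact (hy.qto_eq (n + c) 1)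
    exact key _ _ (by omega)
  refine ⟨fun n => tm (r n) V (z (n + c)), fun n => ?_, fun n => ?_⟩
  · change tm (quotPowTrans A I M' n) V (tm (r (n + 1)) V (z (n + 1 + c))) = tm (r n) V (z (n + c))
    rw [← tm_comp, ← ht n, ← tm_comp]
    exact congrArg (fun l => tm l V (z (n + 1 + c))) (Submodule.linearMap_qext _ (LinearMap.ext fun _ => rfl))
  · rw [← tm_comp, ← hy.qto_eq n c, ← hz (n + c), ← tm_comp]
    exact congrArg (fun l => tm l V (z (n + c))) (Submodule.linearMap_qext _ (LinearMap.ext fun _ => rfl))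

omit [IsNoetherianRing A] [Module.Finite A M] in
theorem tm_π_tm (φ : M' →ₗ[A] M) (n : ℕ) (x : Γ(tmod A M', V)) :
    tm (quotPowπ A I M n) V (tm φ V x) = tm (qmap I φ n) V (tm (quotPowπ A I M' n) V x) := by
  rw [← tm_comp, ← tm_comp, qmap_π]

end maps

section seq

variable {A : Type u} [CommRing A] [IsNoetherianRing A] {I : Ideal A} {M' M M'' : Type u} [AddCommGroup M']
  [Module A M'] [AddCommGroup M] [Module A M] [AddCommGroup M''] [Module A M''] [Module.Finite A M]
  {U : (Spec (CommRingCat.of A)).Opens} {f : M' →ₗ[A] M} {g : M →ₗ[A] M''} (hf : Function.Injective f)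
  (hg : Function.Surjective g) (hfg : LinearMap.range f = LinearMap.ker g)

include hf hfg in
theorem colimInj_middle (h' : ColimInj I M' U) (h'' : ColimInj I M'' U) : ColimInj I M U := by
  intro V hV x hx
  obtain ⟨V₁, hV₁, h₁, h0⟩ := h'' V hV (tm g V x) fun n => by rw [tm_π_tm, hx n, map_zero]
  obtain ⟨x', hx'⟩ := exists_tm_eq f g hf hfg (sres h₁ x) (by rw [tm_sres, h0])
  obtain ⟨V₂, hV₂, h₂, h0'⟩ := h' V₁ hV₁ x' fun n =>
    fam_eq_zero hf (isFam_tm x') (fun n => by rw [← tm_π_tm, hx', tm_sres, hx n, map_zero]) n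
  refine ⟨V₂, hV₂, h₂.trans h₁, ?_⟩
  rw [← sres_sres h₁ h₂, ← hx', ← tm_sres, h0', map_zero]

include hf in
theorem colimInj_left (h : ColimInj I M U) : ColimInj I M' U := by
  intro V hV x hx
  obtain ⟨V₁, hV₁, h₁, h0⟩ := h V hV (tm f V x) fun n => by rw [tm_π_tm, hx n, map_zero]
  exact ⟨V₁, hV₁, h₁, tm_injective f hf (by rw [tm_sres, h0, map_zero])⟩

include hf hfg in
theorem colimSurj_left (h : ColimSurj I M U) (h'' : ColimInj I M'' U) : ColimSurj I M' U := by
  intro y hy
  obtain ⟨V, hV, x, hx⟩ := h (fun n => tm (qmap I f n) U (y n)) (hy.map f)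
  obtain ⟨V₁, hV₁, h₁, h0⟩ := h'' V hV (tm g V x) fun n => by
    rw [tm_π_tm, ← hx n, ← tm_sres, ← tm_comp,
      qmap_comp_qmap_eq_zero f g fun m => hfg.le (LinearMap.mem_range_self f m), tm_zero]
  obtain ⟨x', hx'⟩ := exists_tm_eq f g hf hfg (sres h₁ x) (by rw [tm_sres, h0])
  refine ⟨V₁, hV₁, x', fun n => (sub_eq_zero.1 (fam_eq_zero hf ((isFam_tm x').sub (hy.sres hV₁.1))
    (fun n => ?_) n)).symm⟩
  rw [map_sub, ← tm_π_tm, hx', tm_sres, ← hx n, sres_sres, tm_sres, sub_self]

theorem exists_finset_Db (V : (Spec (CommRingCat.of A)).Opens) :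
    ∃ s : Finset A, (∀ a ∈ s, Db a ≤ V) ∧ ∀ x ∈ V, ∃ a ∈ s, x ∈ Db a := by
  choose c hc hcV using fun x : V => exists_Db_le x.2
  obtain ⟨t, ht⟩ := (TopologicalSpace.NoetherianSpace.isCompact (V : Set (Spec (CommRingCat.of A)))).elim_finite_subcover
    (fun x : V => ((Db (c x) : (Spec (CommRingCat.of A)).Opens) : Set (Spec (CommRingCat.of A)))) (fun x => (Db (c x)).2) fun x hx => Set.mem_iUnion.2 ⟨⟨x, hx⟩, hc _⟩
  classical
  refine ⟨t.image c, fun a ha => ?_, fun x hx => ?_⟩
  · obtain ⟨x, -, rfl⟩ := Finset.mem_image.1 ha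
    exact hcV x
  · obtain ⟨y, hy, hxy⟩ := Set.mem_iUnion₂.1 (ht hx)
    exact ⟨c y, Finset.mem_image.2 ⟨y, hy, rfl⟩, hxy⟩

include hf hg hfg in
theorem colimSurj_middle (hi : ColimInj I M U) (h' : ColimSurj I M' U) (h'' : ColimSurj I M'' U) :
    ColimSurj I M U := by
  intro y hy
  obtain ⟨V, hV, x'', hx''⟩ := h'' (fun n => tm (qmap I g n) U (y n)) (hy.map g)
  obtain ⟨s, hsV, hs⟩ := exists_finset_Db V
  have step : ∀ a : s, ∃ (k : ℕ) (W : (Spec (CommRingCat.of A)).Opens) (hW : Admissible A I U W)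
      (x : Γ(tmod A M, W)), ∀ n, sres hW.1 (sc U ((a : A) ^ k) • y n) = tm (quotPowπ A I M n) W x := by
    rintro ⟨a, ha⟩
    obtain ⟨l, m'', hm⟩ := exists_frac x'' (hsV a ha)
    obtain ⟨m, rfl⟩ := hg m''
    obtain ⟨j, hj⟩ := exists_pow_smul_eq_zero_sec (sc V (a ^ l) • x'' - σM V (g m)) a (by
      have key : ∀ (W : (Spec (CommRingCat.of A)).Opens) (hW : W ≤ V), W ≤ Db a →
          sres hW (sc V (a ^ l) • x'' - σM V (g m)) = 0 := fun W hW hWa => by
        have h1 := congrArg (sres (hWa : W ≤ Db a)) hm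
        rw [← map_pow, sres_smul, sres_sres, sres_σM] at h1
        rw [map_sub, sres_smul, sres_σM, sub_eq_zero]
        exact h1
      exact key _ inf_le_left inf_le_right)
    rw [← map_pow, smul_sub, ← mul_smul, ← map_mul, ← pow_add, ← σM_smul, sub_eq_zero] at hj
    let y₁ : ∀ n, Γ(tmod A (quotPow A I M n), U) := fun n =>
      sc U (a ^ (j + l)) • y n - tm (quotPowπ A I M n) U (σM U (a ^ j • m))
    have hg0 : ∀ n, tm (qmap I g n) U (y₁ n) = 0 := fun n => by
      refine sres_injective_of_killed _ (quotPow_killed _ n) hV ?_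
      rw [map_zero, map_sub, map_sub, tm_smul, sres_smul, hx'' n, ← tm_π_tm, tm_σM, map_smul,
        ← tm_sres, sres_σM, ← tm_smul, ← map_sub, hj, sub_self, map_zero]
    obtain ⟨y', hy', hfy⟩ := exists_fam_eq hf hg hfg ((hy.smul _).sub (isFam_tm _)) hg0
    obtain ⟨W, hW, x', hx'⟩ := h' y' hy'
    refine ⟨j + l, W, hW, σM W (a ^ j • m) + tm f W x', fun n => ?_⟩
    rw [map_add, tm_π_tm f n x', ← hx' n, tm_sres, hfy n, map_sub, ← tm_sres _ hW.1, sres_σM,
      add_sub_cancel]
  choose k W hW x hx using step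
  let W₀ : (Spec (CommRingCat.of A)).Opens := V ⊓ s.attach.inf W
  have hW₀ : Admissible A I U W₀ := by
    refine ⟨inf_le_left.trans hV.1, fun p hp hp' => ⟨hV.2 p hp hp', ?_⟩⟩
    have key : ∀ t : Finset s, p ∈ t.inf W := fun t => by
      classical
      induction t using Finset.induction_on with
      | empty => exact trivial
      | insert a t _ ih => rw [Finset.inf_insert]; exact ⟨(hW a).2 p hp hp', ih⟩
    exact key _
  have hWa : ∀ a : s, W₀ ≤ W a := fun a => inf_le_right.trans (Finset.inf_le (Finset.mem_attach _ a))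
  have hdiff : ∀ a b : s, ∃ (W' : (Spec (CommRingCat.of A)).Opens) (_ : Admissible A I U W') (h : W' ≤ W₀),
      sres h (sc W₀ ((b : A) ^ k b) • sres (hWa a) (x a) - sc W₀ ((a : A) ^ k a) • sres (hWa b) (x b)) = 0 :=
    fun a b => hi W₀ hW₀ _ fun n => by
      rw [map_sub, tm_smul, tm_smul, tm_sres, tm_sres, ← hx, ← hx, sres_sres, sres_sres, sres_smul,
        sres_smul, ← mul_smul, ← mul_smul, mul_comm, sub_self]
  choose W' hW' hle hz using hdiff
  classical
  let W₁ : (Spec (CommRingCat.of A)).Opens := W₀ ⊓ (Finset.univ : Finset (s × s)).inf fun p => W' p.1 p.2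
  have hW₁ : Admissible A I U W₁ := by
    refine ⟨inf_le_left.trans hW₀.1, fun p hp hp' => ⟨hW₀.2 p hp hp', ?_⟩⟩
    have key : ∀ t : Finset (s × s), p ∈ t.inf fun p => W' p.1 p.2 := fun t => by
      induction t using Finset.induction_on with
      | empty => exact trivial
      | insert a t _ ih => rw [Finset.inf_insert]; exact ⟨(hW' a.1 a.2).2 p hp hp', ih⟩
    exact key _
  have hW₁' : ∀ a b, W₁ ≤ W' a b := fun a b =>
    inf_le_right.trans (Finset.inf_le (f := fun p : s × s => W' p.1 p.2) (Finset.mem_univ (a, b)))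
  let u : ∀ a : s, (Γ(Spec (CommRingCat.of A), W₁ ⊓ Db (a : A)))ˣ := fun a =>
    ((isUnit_sc (c := (a : A)) (inf_le_right : W₁ ⊓ Db (a : A) ≤ Db (a : A))).pow (k a)).unit
  let loc : ∀ a : s, Γ(tmod A M, W₁ ⊓ Db (a : A)) := fun a =>
    (↑(u a)⁻¹ : Γ(Spec (CommRingCat.of A), W₁ ⊓ Db (a : A))) •
      sres ((inf_le_left.trans inf_le_left).trans (hWa a)) (x a)
  have hloc : ∀ (a : s) {Z : (Spec (CommRingCat.of A)).Opens} (hZ : Z ≤ W₁ ⊓ Db (a : A)),
      sc Z ((a : A) ^ k a) • sres hZ (loc a) =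
        sres (hZ.trans ((inf_le_left.trans inf_le_left).trans (hWa a))) (x a) := fun a Z hZ => by
    rw [← sres_smul, map_pow, ← mul_smul]
    refine (congrArg (fun r : Γ(Spec (CommRingCat.of A), W₁ ⊓ Db (a : A)) =>
      sres hZ (r • sres ((inf_le_left.trans inf_le_left).trans (hWa a)) (x a))) (IsUnit.mul_val_inv _)).trans ?_
    rw [one_smul]
    exact sres_sres _ hZ (x a)
  obtain ⟨x₀, hx₀, -⟩ := TopCat.Sheaf.existsUnique_gluing' ((SheafOfModules.toSheaf _).obj (tmod A M))
    (fun a : s => W₁ ⊓ Db (a : A)) W₁ (fun a => homOfLE inf_le_left)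
    (fun p hp => by
      obtain ⟨a, ha, hpa⟩ := hs p (hp.1.1)
      exact Opens.mem_iSup.2 ⟨⟨a, ha⟩, hp, hpa⟩)
    loc fun a b => by
      change sres inf_le_left (loc a) = sres inf_le_right (loc b)
      have hu : IsUnit (sc ((W₁ ⊓ Db (a : A)) ⊓ (W₁ ⊓ Db (b : A))) ((a : A) ^ k a * (b : A) ^ k b)) := by
        rw [map_mul, map_pow, map_pow]
        exact ((isUnit_sc (inf_le_left.trans inf_le_right)).pow _).mul
          ((isUnit_sc (inf_le_right.trans inf_le_right)).pow _)
      apply hu.smul_left_cancel.1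
      have h1 := congrArg (sres (inf_le_left.trans (inf_le_left.trans (hW₁' a b)) :
        (W₁ ⊓ Db (a : A)) ⊓ (W₁ ⊓ Db (b : A)) ≤ W' a b)) (hz a b)
      rw [map_zero, sres_sres, map_sub, sres_smul, sres_smul, sres_sres, sres_sres, sub_eq_zero] at h1
      rw [map_mul, mul_smul, mul_smul, hloc b, smul_comm, hloc a]
      exact h1
  refine ⟨W₁, hW₁, x₀, fun n => tsec_eq_of_locally fun p hp => ?_⟩
  obtain ⟨a, ha, hpa⟩ := hs p hp.1.1
  refine ⟨W₁ ⊓ Db a, inf_le_left, ⟨hp, hpa⟩, ?_⟩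
  have e : sres inf_le_left x₀ = loc ⟨a, ha⟩ := hx₀ ⟨a, ha⟩
  refine ((isUnit_sc (inf_le_right : W₁ ⊓ Db a ≤ Db a)).pow (k ⟨a, ha⟩)).smul_left_cancel.1 ?_
  have h2 := hloc ⟨a, ha⟩ (le_refl (W₁ ⊓ Db a))
  rw [sres_refl] at h2
  rw [← map_pow, ← tm_sres, e, ← tm_smul, h2, tm_sres, ← hx, sres_sres, sres_sres, sres_smul]

end seq

end Groth.Agent.FMod90
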