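import Groth.Agent.FMod90.Basic
import Mathlib.Algebra.Category.ModuleCat.Sheaf.Free
import Mathlib.CategoryTheory.Sites.LocallyBijective

/-!
# Sections of finite free modules on a ringed site
-/

set_option autoImplicit false

universe u

open CategoryTheory CategoryTheory.Limits Opposite

namespace Groth.Agent.FMod90.Site

variable {C : Type u} [SmallCategory C] {J : GrothendieckTopology C} {O : Sheaf J CommRingCat.{u}}

/-- The ring of sections over an object. -/
abbrev Scal (O : Sheaf J CommRingCat.{u}) (Y : C) : Type u := (ModSite.ringSh O).obj.obj (op Y)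

variable {M N : ModSite.Mod O}

/-- The action of a morphism on sections. -/
noncomputable def app (φ : M ⟶ N) (Y : C) : ModSite.sect M Y →ₗ[Scal O Y] ModSite.sect N Y :=
  (φ.val.app (op Y)).hom

@[simp]
theorem app_comp {P : ModSite.Mod O} (φ : M ⟶ N) (ψ : N ⟶ P) (Y : C) (x : ModSite.sect M Y) :
    app (φ ≫ ψ) Y x = app ψ Y (app φ Y x) := rfl

@[simp]
theorem app_zero (Y : C) (x : ModSite.sect M Y) : app (0 : M ⟶ N) Y x = 0 := rfl

theorem app_sum {ι : Type*} (t : Finset ι) (φ : ι → (M ⟶ N)) (Y : C) (x : ModSite.sect M Y) :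
    app (∑ i ∈ t, φ i) Y x = ∑ i ∈ t, app (φ i) Y x := by
  classical
  induction t using Finset.induction_on with
  | empty => simp
  | insert a t ha ih => rw [Finset.sum_insert ha, Finset.sum_insert ha, ← ih]; rfl

/-- A morphism out of the structure sheaf on sections. -/
theorem app_unit (φ : ModSite.unit O ⟶ M) (Y : C) (a : Scal O Y) :
    app φ Y a = a • app φ Y (1 : Scal O Y) := by
  rw [← map_smul]
  exact congrArg (app φ Y) (mul_one a).symm

variable (M) in
/-- Restriction of sections. -/
noncomputable def mapS {Y Y' : C} (g : Y' ⟶ Y) : ModSite.sect M Y →+ ModSite.sect M Y' :=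
  ((ModSite.toAb M).obj.map g.op).hom

theorem mapS_comp {Y Y' Y'' : C} (g : Y' ⟶ Y) (g' : Y'' ⟶ Y') (x : ModSite.sect M Y) :
    mapS M g' (mapS M g x) = mapS M (g' ≫ g) x := by
  simp only [mapS, op_comp, Functor.map_comp]
  rfl

/-- Morphisms commute with restriction. -/
theorem map_app (φ : M ⟶ N) {Y Y' : C} (g : Y' ⟶ Y) (x : ModSite.sect M Y) :
    mapS N g (app φ Y x) = app φ Y' (mapS M g x) :=
  (PresheafOfModules.naturality_apply φ.val g.op x).symm

theorem map_smul_sect {Y Y' : C} (g : Y' ⟶ Y) (a : Scal O Y) (x : ModSite.sect M Y) :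
    mapS M g (a • x) = (((ModSite.ringSh O).obj.map g.op).hom a : Scal O Y') • mapS M g x :=
  PresheafOfModules.map_smul M.val g.op a x

/-- The sieve of arrows along which a section lifts. -/
def liftSieve (φ : M ⟶ N) {W : C} (z : ModSite.sect N W) : Sieve W where
  arrows W' g := ∃ x : ModSite.sect M W', app φ W' x = mapS N g z
  downward_closed := by
    rintro W₁ W₂ g ⟨x, hx⟩ k
    exact ⟨mapS M k x, by rw [← map_app, hx, mapS_comp]⟩

/-- A morphism whose lifting sieves cover is an epimorphism. -/
theorem epi_of_liftSieve (φ : M ⟶ N)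
    (h : ∀ (W : C) (z : ModSite.sect N W), liftSieve φ z ∈ J W) : Epi φ := by
  have h1 : Sheaf.IsLocallySurjective ((SheafOfModules.toSheaf (ModSite.ringSh O)).map φ) :=
    ⟨fun {W} z => J.superset_covering (fun _ _ hg => hg) (h W z)⟩
  have : Epi ((SheafOfModules.toSheaf (ModSite.ringSh O)).map φ) :=
    (Sheaf.isLocallySurjective_iff_epi' _ _).1 h1
  exact (SheafOfModules.toSheaf (ModSite.ringSh O)).epi_of_epi_map this

variable {ι : Type u} [Finite ι]

/-- The tautological sections of a free module. -/
noncomputable def basisSec (i : ι) (Y : C) :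
    ModSite.sect (SheafOfModules.free ι : ModSite.Mod O) Y :=
  (SheafOfModules.freeSection (R := ModSite.ringSh O) i).val (op Y)

/-- The projections of a free module. -/
noncomputable def proj (j : ι) : (SheafOfModules.free ι : ModSite.Mod O) ⟶ ModSite.unit O :=
  open Classical in
  Cofan.IsColimit.desc (SheafOfModules.isColimitFreeCofan ι) fun i => if i = j then 𝟙 _ else 0

omit [Finite ι] in
theorem ιFree_proj [DecidableEq ι] (i j : ι) :
    SheafOfModules.ιFree (R := ModSite.ringSh O) i ≫ proj j = if i = j then 𝟙 _ else 0 := by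
  classical
  have h := Cofan.IsColimit.fac (SheafOfModules.isColimitFreeCofan (R := ModSite.ringSh O) ι)
    (fun i => @ite _ (i = j) (Classical.propDecidable _) (𝟙 _) 0) i
  by_cases hij : i = j
  · rw [if_pos hij] at h ⊢
    exact h
  · rw [if_neg hij] at h ⊢
    exact h

theorem sum_proj_ιFree [Fintype ι] :
    ∑ j : ι, proj j ≫ SheafOfModules.ιFree (R := ModSite.ringSh O) j = 𝟙 _ := by
  classical
  refine Cofan.IsColimit.hom_ext (SheafOfModules.isColimitFreeCofan ι) _ _ fun i => ?_
  change SheafOfModules.ιFree i ≫ _ = SheafOfModules.ιFree i ≫ _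
  rw [Preadditive.comp_sum, Category.comp_id, Finset.sum_eq_single i]
  · rw [← Category.assoc, ιFree_proj, if_pos rfl, Category.id_comp]
  · intro j _ hj
    rw [← Category.assoc, ιFree_proj, if_neg (Ne.symm hj), zero_comp]
  · simp

omit [Finite ι] in
theorem app_ιFree (i : ι) (Y : C) (a : Scal O Y) :
    app (SheafOfModules.ιFree (R := ModSite.ringSh O) i) Y a = a • basisSec i Y := by
  refine (app_unit _ Y a).trans ?_
  rfl

/-- Every section of a finite free module is a combination of the tautological ones. -/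
theorem eq_sum [Fintype ι] (Y : C) (x : ModSite.sect (SheafOfModules.free ι : ModSite.Mod O) Y) :
    x = ∑ i, (app (proj i) Y x : Scal O Y) • basisSec i Y := by
  have h := congrArg (fun f => app f Y x) (sum_proj_ιFree (O := O) (ι := ι))
  simp only [app_sum, app_comp, app_ιFree] at h
  exact h.symm

theorem app_proj_basisSec [DecidableEq ι] (i j : ι) (Y : C) :
    app (proj j) Y (basisSec (O := O) i Y) = (if i = j then (1 : Scal O Y) else 0) := by
  have h := congrArg (fun f => app f Y (1 : Scal O Y)) (ιFree_proj (O := O) i j)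
  simp only [app_comp, app_ιFree, one_smul] at h
  rw [h]
  by_cases h' : i = j <;> simp only [h', if_true, if_false] <;> rfl

/-- The coefficients of a combination. -/
theorem app_proj_sum [Fintype ι] (Y : C) (a : ι → Scal O Y) (j : ι) :
    app (proj j) Y (∑ i, a i • basisSec i Y) = a j := by
  classical
  rw [map_sum, Finset.sum_eq_single j]
  · rw [map_smul, app_proj_basisSec, if_pos rfl]
    exact mul_one (M := Scal O Y) (a j)
  · intro i _ hi
    rw [map_smul, app_proj_basisSec, if_neg hi]
    exact mul_zero (M₀ := Scal O Y) (a i)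
  · simp

omit [Finite ι] in
/-- Morphisms out of a finite free module on sections. -/
theorem app_basisSec (φ : (SheafOfModules.free ι : ModSite.Mod O) ⟶ M) (i : ι) (Y : C) :
    app φ Y (basisSec i Y) = (M.freeHomEquiv φ i).val (op Y) := rfl

/-- An epimorphism is locally surjective on sections. -/
theorem exists_cover_lift (φ : M ⟶ N) [Epi φ] {W : C} (z : ModSite.sect N W) :
    ∃ S ∈ J W, ∀ ⦃W' : C⦄ (g : W' ⟶ W), S g →
      ∃ x : ModSite.sect M W', app φ W' x = mapS N g z :=
  ⟨_, ((Sheaf.isLocallySurjective_iff_epi' _ ((SheafOfModules.toSheaf (ModSite.ringSh O)).map φ)).2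
    inferInstance).imageSieve_mem z, fun _ _ hg => hg⟩

/-- A morphism locally surjective on sections is an epimorphism. -/
theorem epi_of_cover_lift (φ : M ⟶ N)
    (h : ∀ (W : C) (z : ModSite.sect N W), ∃ S ∈ J W, ∀ ⦃W' : C⦄ (g : W' ⟶ W), S g →
      ∃ x : ModSite.sect M W', app φ W' x = mapS N g z) : Epi φ := by
  have h1 : Sheaf.IsLocallySurjective ((SheafOfModules.toSheaf (ModSite.ringSh O)).map φ) :=
    ⟨fun {W} z => by
      obtain ⟨S, hS, hlift⟩ := h W z
      exact J.superset_covering (fun W' g hg => hlift g hg) hS⟩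
  have : Epi ((SheafOfModules.toSheaf (ModSite.ringSh O)).map φ) :=
    (Sheaf.isLocallySurjective_iff_epi' _ _).1 h1
  exact (SheafOfModules.toSheaf (ModSite.ringSh O)).epi_of_epi_map this

omit [Finite ι] in
theorem map_basisSec (i : ι) {Y Y' : C} (g : Y' ⟶ Y) :
    mapS (SheafOfModules.free ι : ModSite.Mod O) g (basisSec i Y) = basisSec i Y' :=
  (SheafOfModules.freeSection (R := ModSite.ringSh O) i).property g.op

theorem ext_proj [Fintype ι] {Y : C} {x y : ModSite.sect (SheafOfModules.free ι : ModSite.Mod O) Y}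
    (h : ∀ i, app (proj i) Y x = app (proj i) Y y) : x = y := by
  rw [eq_sum Y x, eq_sum Y y]
  exact Finset.sum_congr rfl fun i _ => by rw [h i]

/-- The coefficient of a section of a free module. -/
noncomputable def coeff (i : ι) (Y : C) (x : ModSite.sect (SheafOfModules.free ι : ModSite.Mod O) Y) :
    Scal O Y :=
  app (proj i) Y x

omit [Finite ι] in
/-- Coefficients of the image of a section under a morphism of free modules. -/
theorem app_proj_app {σ : Type u} [Fintype σ]
    (f : (SheafOfModules.free σ : ModSite.Mod O) ⟶ SheafOfModules.free ι) (Y : C)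
    (z : ModSite.sect (SheafOfModules.free σ : ModSite.Mod O) Y) (i : ι) :
    coeff i Y (app f Y z) = ∑ l, coeff l Y z * coeff i Y (app f Y (basisSec l Y)) := by
  conv_lhs => rw [coeff, eq_sum Y z, map_sum, map_sum]
  refine Finset.sum_congr rfl fun l _ => ?_
  rw [map_smul, map_smul]
  rfl

/-- Coefficients of a local lift along a morphism of free modules. -/
theorem coeff_of_lift {σ : Type u} [Fintype σ]
    (f : (SheafOfModules.free σ : ModSite.Mod O) ⟶ SheafOfModules.free ι) {Y₀ Y Y' : C}
    (g₀ : Y' ⟶ Y₀) (g : Y' ⟶ Y) (x : ModSite.sect (SheafOfModules.free ι : ModSite.Mod O) Y)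
    (z : ModSite.sect (SheafOfModules.free σ : ModSite.Mod O) Y')
    (hz : app f Y' z = mapS _ g x) (i : ι) :
    (((ModSite.ringSh O).obj.map g.op).hom (coeff i Y x) : Scal O Y') =
      ∑ l, coeff l Y' z *
        (((ModSite.ringSh O).obj.map g₀.op).hom (coeff i Y₀ (app f Y₀ (basisSec l Y₀))) : Scal O Y') := by
  refine ((map_app (proj i) g x).trans ?_ : _)
  rw [← hz]
  refine (app_proj_app f Y' z i).trans ?_
  refine Finset.sum_congr rfl fun l _ => congrArg (_ * ·) ?_
  rw [← map_basisSec l g₀, ← map_app]
  exact (map_app (proj i) g₀ _).symm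

omit [Finite ι] in
/-- Sections of a kernel. -/
theorem exists_kernel_lift (φ : M ⟶ N) {Y : C} (s : ModSite.sect M Y) (h : app φ Y s = 0) :
    ∃ t : ModSite.sect (kernel φ) Y, app (kernel.ι φ) Y t = s := by
  let F := SheafOfModules.forget (ModSite.ringSh O) ⋙
    PresheafOfModules.evaluation (ModSite.ringSh O).obj (op Y)
  let hl := KernelFork.mapIsLimit _ (kernelIsKernel φ) F
  have hl' := ModuleCat.kernelIsLimit (F.map φ)
  refine ⟨(IsLimit.conePointUniqueUpToIso hl' hl).hom.hom ⟨s, h⟩, ?_⟩
  exact congrArg (fun f => f.hom ⟨s, h⟩)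
    (IsLimit.conePointUniqueUpToIso_hom_comp hl' hl WalkingParallelPair.zero)

omit [Finite ι] in
theorem app_injective_of_mono (φ : M ⟶ N) [Mono φ] (Y : C) : Function.Injective (app φ Y) :=
  (ModuleCat.mono_iff_injective _).1
    (inferInstanceAs (Mono ((SheafOfModules.evaluation (ModSite.ringSh O) (op Y)).map φ)))

end Groth.Agent.FMod90.Site
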