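import Groth.Agent.FComplLib.Sys
import Groth.Prelude.Def_FSch4
import Mathlib.AlgebraicGeometry.Morphisms.Separated

/-!
# Graphs of morphisms of formal schemes are closed immersions
-/

set_option autoImplicit false

universe u

open CategoryTheory CategoryTheory.Limits AlgebraicGeometry

namespace Groth.Agent.FMod90

open FSch

variable {𝔛 𝔜 𝔖 : Sys.{u}}

theorem isAdicHom_graph (hX : 𝔛.IsFormal) (hY : 𝔜.IsFormal) (f : 𝔛 ⟶ 𝔜) (p : 𝔛 ⟶ 𝔖) (q : 𝔜 ⟶ 𝔖)
    (w : f ≫ q = p) : IsAdicHom (graph f p q w) := by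
  intro n
  have := (hX n).1
  have := (hY n).1
  let g := fun k => (graph f p q w : Hom _ _).app k
  have hfst : ∀ k, g k ≫ (pullbackFst p q : Hom _ _).app k = 𝟙 _ := fun k => pullback.lift_fst _ _ _
  have hsnd : ∀ k, g k ≫ (pullbackSnd p q : Hom _ _).app k = (f : Hom _ _).app k :=
    fun k => pullback.lift_snd _ _ _
  have key : ∀ s : PullbackCone (g (n + 1)) ((pullbackSys p q).ι n),
      (s.snd ≫ (pullbackFst p q : Hom _ _).app n) ≫ 𝔛.ι n = s.fst := by
    intro s
    have h1 : (s.fst ≫ g (n + 1)) ≫ (pullbackFst p q : Hom _ _).app (n + 1) =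
        (s.snd ≫ (pullbackSys p q).ι n) ≫ (pullbackFst p q : Hom _ _).app (n + 1) := by rw [s.condition]
    rw [Category.assoc, hfst, Category.comp_id, Category.assoc, ← (pullbackFst p q : Hom _ _).comm] at h1
    rw [h1, Category.assoc]
  refine ⟨⟨(graph f p q w : Hom _ _).comm n |>.symm⟩, ⟨PullbackCone.IsLimit.mk _
    (fun s => s.snd ≫ (pullbackFst p q : Hom _ _).app n) key (fun s => ?_) (fun s m h1 h2 => ?_)⟩⟩
  · refine pullback.hom_ext ?_ ?_
    · refine (Category.assoc _ _ _).trans ?_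
      erw [hfst]
      exact Category.comp_id _
    · refine (cancel_mono (𝔜.ι n)).1 ?_
      refine (congrArg (· ≫ 𝔜.ι n) ((Category.assoc _ _ _).trans (congrArg (_ ≫ ·) (hsnd n)))).trans ?_
      rw [Category.assoc, (f : Hom _ _).comm n, ← Category.assoc, key, ← hsnd (n + 1),
        ← Category.assoc, s.condition, Category.assoc, ← (pullbackSnd p q : Hom _ _).comm n, ← Category.assoc]
      rfl
  · rw [← h2, Category.assoc]
    erw [hfst]
    exact (Category.comp_id _).symm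

theorem isClosedImmHom_graph (hX : 𝔛.IsFormal) (hY : 𝔜.IsFormal) (f : 𝔛 ⟶ 𝔜) (p : 𝔛 ⟶ 𝔖) (q : 𝔜 ⟶ 𝔖)
    (w : f ≫ q = p) (hq : IsSeparated ((q : Hom 𝔜 𝔖).app 0)) : IsClosedImmHom (graph f p q w) := by
  refine ⟨isAdicHom_graph hX hY f p q w, ?_⟩
  have : IsSeparated ((pullbackFst p q : Hom _ _).app 0) :=
    inferInstanceAs (IsSeparated (pullback.fst ((p : Hom 𝔛 𝔖).app 0) ((q : Hom 𝔜 𝔖).app 0)))
  have h1 : IsClosedImmersion
      ((graph f p q w : Hom _ _).app 0 ≫ (pullbackFst p q : Hom _ _).app 0) := by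
    have e : (graph f p q w : Hom _ _).app 0 ≫ (pullbackFst p q : Hom _ _).app 0 = 𝟙 _ := pullback.lift_fst _ _ _
    rw [e]
    infer_instance
  exact IsClosedImmersion.of_comp _ ((pullbackFst p q : Hom _ _).app 0)

end Groth.Agent.FMod90
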