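import Groth.Agent.SiteBase.Cohom
import Groth.Prelude.Def_CohTop

/-!
# Cohomology in degree zero over an open and sections
-/

set_option autoImplicit false

universe u

open CategoryTheory TopologicalSpace Opposite CategoryTheory.Abelian

namespace Groth.Agent.FMod90

variable {X : TopCat.{u}}

/-- `H^0(U, F) ≃ F(U)` on a topological space. -/
noncomputable def hu0 (F : CohTop.Ab X) (U : Opens X) : CohTop.HU F 0 U ≃+ F.obj.obj (op U) :=
  SiteBase.huZero F U

theorem hu0_res (F : CohTop.Ab X) {U V : Opens X} (h : V ≤ U) (x : CohTop.HU F 0 U) :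
    hu0 F V (CohTop.res F 0 h x) = (F.obj.map (homOfLE h).op).hom (hu0 F U x) := by
  obtain ⟨φ, rfl⟩ := (Ext.mk₀_bijective _ F).2 x
  have e : CohTop.res F 0 h (Ext.mk₀ φ) =
      Ext.mk₀ (CohCx.freeSheafMap (Opens.grothendieckTopology X) (homOfLE h) ≫ φ) :=
    Ext.mk₀_comp_mk₀ _ _
  rw [e]
  refine (SiteBase.huZero_mk₀ F V _).trans ((SiteBase.secEquiv_freeSheafMap _ φ).trans ?_)
  exact congrArg (F.obj.map (homOfLE h).op).hom (SiteBase.huZero_mk₀ F U φ).symm

theorem hu0_map {F G : CohTop.Ab X} (g : F ⟶ G) (U : Opens X) (x : CohTop.HU F 0 U) :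
    hu0 G U (CohTop.HUmap g 0 U x) = (g.hom.app (op U)).hom (hu0 F U x) := by
  obtain ⟨φ, rfl⟩ := (Ext.mk₀_bijective _ F).2 x
  have e : CohTop.HUmap g 0 U (Ext.mk₀ φ) = Ext.mk₀ (φ ≫ g) := Ext.mk₀_comp_mk₀ _ _
  rw [e]
  refine (SiteBase.huZero_mk₀ G U _).trans ((SiteBase.secEquiv_comp U φ g).trans ?_)
  exact congrArg (g.hom.app (op U)).hom (SiteBase.huZero_mk₀ F U φ).symm

end Groth.Agent.FMod90
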