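import Groth.Agent.FMod90.Coh

/-!
# Direct images from the levels; universality of the projections of a coherent system
-/

set_option autoImplicit false

universe u

open CategoryTheory CategoryTheory.Limits AlgebraicGeometry TopologicalSpace Opposite

namespace Groth.Agent.FMod90

variable {𝔛 : FSch.Sys.{u}} (h : 𝔛.IsFormal)

theorem lvU_preimage_toX (k : ℕ) (W : (𝔛.X k).Opens) : 𝔛.lvU h k (𝔛.toX k ⁻¹ᵁ W) = W := by
  change (Opens.map (𝔛.gInv h k ≫ (𝔛.toX k).base)).obj W = W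
  rw [FSch.Sys.gInv_toX_base]
  rfl

/-- Morphisms of modules on a level are determined on the opens coming from the common space. -/
theorem level_hom_ext {k : ℕ} {M N : (𝔛.X k).Modules} {φ ψ : M ⟶ N}
    (hh : ∀ U x, φ.app (𝔛.lvU h k U) x = ψ.app (𝔛.lvU h k U) x) : φ = ψ := by
  refine Scheme.Modules.hom_ext (f := φ) (g := ψ) (fun W => ?_)
  ext x
  have key : ∀ W' : (𝔛.X k).Opens, (∃ U, 𝔛.lvU h k U = W') → ∀ x : Γ(M, W'), φ.app W' x = ψ.app W' x := by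
    rintro _ ⟨U, rfl⟩
    exact hh U
  exact key W ⟨_, lvU_preimage_toX h k W⟩ x

/-- Direct image from a level is faithful. -/
theorem push_injective {k : ℕ} {M N : (𝔛.X k).Modules} {φ ψ : M ⟶ N}
    (hh : (FSch.levelMor 𝔛 h k).push.map φ = (FSch.levelMor 𝔛 h k).push.map ψ) : φ = ψ :=
  level_hom_ext h fun U x => congrArg (fun γ => appL γ U x) hh

/-- Morphisms of modules vanishing on a basis vanish. -/
theorem hom_eq_zero_of_isBasis {T : TopCat.{u}} {O : Sheaf (Opens.grothendieckTopology T) CommRingCat.{u}}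
    {M N : ModSite.Mod O} (φ : M ⟶ N) {B : Set (Opens T)} (hB : Opens.IsBasis B)
    (hh : ∀ V ∈ B, ∀ s, appL φ V s = 0) : φ = 0 := by
  refine hom_ext fun U s => eq_of_locally fun x hx => ?_
  obtain ⟨V, hV, hxV, hVU⟩ := Opens.isBasis_iff_nbhd.1 hB hx
  exact ⟨V, hVU, hxV, by rw [res_appL, res_appL, hh V hV, appL_zero]⟩

/-- The basis of affine opens of the common space. -/
theorem isBasis_affine : Opens.IsBasis {U : (𝔛.X 0).Opens | IsAffineOpen U} :=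
  (𝔛.X 0).isBasis_affineOpens

section full

variable {k : ℕ} {M N : (𝔛.X k).Modules}
  (γ : (FSch.levelMor 𝔛 h k).push.obj M ⟶ (FSch.levelMor 𝔛 h k).push.obj N)

/-- A morphism of direct images from a level, on the sections of the level. -/
noncomputable def tSec (U : (𝔛.X 0).Opens) (x : Γ(M, 𝔛.lvU h k U)) : Γ(N, 𝔛.lvU h k U) :=
  appL γ U x

/-- A morphism of direct images from a level is linear over the ring of the level. -/
theorem push_linear (U : (𝔛.X 0).Opens) (a : Rn h U k) (x : Γ(M, 𝔛.lvU h k U)) :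
    tSec h γ U (a • x) = a • tSec h γ U x := by
  simp only [tSec]
  refine eq_of_locally (M := (FSch.levelMor 𝔛 h k).push.obj N) fun y hy => ?_
  obtain ⟨V, hV, hyV, hVU⟩ := Opens.isBasis_iff_nbhd.1 (isBasis_affine (𝔛 := 𝔛)) hy
  refine ⟨V, hVU, hyV, ?_⟩
  obtain ⟨b, hb⟩ := pr_surjective h hV k
    ((𝔛.X k).presheaf.map ((Opens.map (𝔛.gInv h k)).map (homOfLE hVU)).op a)
  rw [res_appL]
  have h1 : res _ hVU (show Sec ((FSch.levelMor 𝔛 h k).push.obj M) U from a • x) =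
      b • res _ hVU (show Sec ((FSch.levelMor 𝔛 h k).push.obj M) U from x) := by
    refine (Scheme.Modules.map_smul M _ _ _).trans ?_
    exact congrArg (fun c : Γ(𝔛.X k, 𝔛.lvU h k V) =>
      c • M.presheaf.map ((Opens.map (𝔛.gInv h k)).map (homOfLE hVU)).op x) hb.symm
  rw [h1, map_smul, ← res_appL]
  refine Eq.trans ?_ (Scheme.Modules.map_smul N _ _ _).symm
  exact congrArg (fun c : Γ(𝔛.X k, 𝔛.lvU h k V) =>
    c • N.presheaf.map ((Opens.map (𝔛.gInv h k)).map (homOfLE hVU)).op (tSec h γ U x)) hb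

/-- Direct image from a level is full. -/
theorem exists_push_preimage : ∃ φ : M ⟶ N, (FSch.levelMor 𝔛 h k).push.map φ = γ := by
  let e := lvU_preimage_toX h k
  let f : ∀ W : (𝔛.X k).Opens, Γ(M, W) → Γ(N, W) := fun W x =>
    N.presheaf.map (homOfLE (e W).ge).op
      (appL γ (𝔛.toX k ⁻¹ᵁ W) (M.presheaf.map (homOfLE (e W).le).op x))
  have hlin : ∀ W (a : Γ(𝔛.X k, W)) (x : Γ(M, W)), f W (a • x) = a • f W x := fun W a x => by
    have h1 := push_linear h γ (𝔛.toX k ⁻¹ᵁ W) ((𝔛.X k).presheaf.map (homOfLE (e W).le).op a)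
      (M.presheaf.map (homOfLE (e W).le).op x)
    simp only [f]
    rw [Scheme.Modules.map_smul]
    refine (congrArg (N.presheaf.map (homOfLE (e W).ge).op) h1).trans ?_
    rw [Scheme.Modules.map_smul]
    congr 1
    change ((𝔛.X k).presheaf.map _ ≫ (𝔛.X k).presheaf.map _) a = a
    rw [← Functor.map_comp, Subsingleton.elim (_ ≫ _) (𝟙 (op W)), CategoryTheory.Functor.map_id]
    rfl
  have hnat : ∀ W W' (hle : W' ≤ W) (x : Γ(M, W)),
      N.presheaf.map (homOfLE hle).op (f W x) = f W' (M.presheaf.map (homOfLE hle).op x) := by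
    intro W W' hle x
    have h1 := res_appL γ ((Opens.map (𝔛.toX k).base).map (homOfLE hle)).le
      (M.presheaf.map (homOfLE (e W).le).op x)
    simp only [f]
    refine Eq.trans ?_ (congrArg (fun z => N.presheaf.map (homOfLE (e W').ge).op z)
      (h1.trans (congrArg (fun z => appL γ (𝔛.toX k ⁻¹ᵁ W') z) ?_)))
    · change (N.presheaf.map _ ≫ N.presheaf.map _) _ = (N.presheaf.map _ ≫ N.presheaf.map _) _
      rw [← Functor.map_comp, ← Functor.map_comp]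
      rfl
    · change (M.presheaf.map _ ≫ M.presheaf.map _) _ = (M.presheaf.map _ ≫ M.presheaf.map _) _
      rw [← Functor.map_comp, ← Functor.map_comp]
      rfl
  let φ : M ⟶ N := mkHom (T := (𝔛.X k).carrier) (O := (𝔛.X k).sheaf)
    (fun W =>
      { toFun := f W
        map_add' := fun x y => (congrArg (fun z => N.presheaf.map (homOfLE (e W).ge).op (appL γ _ z))
          (map_add (M.presheaf.map (homOfLE (e W).le).op).hom x y)).trans
            ((congrArg (N.presheaf.map (homOfLE (e W).ge).op) (map_add (appL γ _) _ _)).trans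
              (map_add (N.presheaf.map (homOfLE (e W).ge).op).hom _ _))
        map_smul' := hlin W }) hnat
  refine ⟨φ, hom_ext fun U x => ?_⟩
  have key : ∀ (U' : (𝔛.X 0).Opens) (_ : U' = U) (l1 : 𝔛.lvU h k U' ≤ 𝔛.lvU h k U)
      (l2 : 𝔛.lvU h k U ≤ 𝔛.lvU h k U'),
      N.presheaf.map (homOfLE l2).op (appL γ U' (M.presheaf.map (homOfLE l1).op x)) = appL γ U x := by
    rintro U' rfl l1 l2
    rw [show (homOfLE l2).op = 𝟙 _ from rfl, CategoryTheory.Functor.map_id, CategoryTheory.Functor.map_id]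
    rfl
  exact key _ (toX_preimage_lvU h k U) _ _

end full

section universal

variable (h𝔛 : 𝔛.IsLocNoethFormal) {𝔐 : FSch.ModSys 𝔛} (h𝔐 : 𝔐.IsCoh)

include h𝔐

/-- The projections of the realisation of a coherent system are epimorphisms. -/
theorem epi_realProj (k : ℕ) : Epi (FSch.realProj 𝔛 h𝔛.1 𝔐.F 𝔐.toPush k) := by
  refine epi_of_isBasis _ isBasis_affine fun U hU => ?_
  obtain ⟨J, hR⟩ := exists_isAdicRing h𝔛 hU
  exact (isAdicMod h𝔛.1 hU 𝔐 h𝔛.2.1 hR h𝔐).surjective k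

/-- Morphisms out of the realisation into a direct image from a level factor through the projection. -/
theorem exists_desc (k : ℕ) (G : (𝔛.X k).Modules)
    (α : 𝔐.realMod h𝔛.1 ⟶ (FSch.levelMor 𝔛 h𝔛.1 k).push.obj G) :
    ∃ φ : 𝔐.F k ⟶ G,
      FSch.realProj 𝔛 h𝔛.1 𝔐.F 𝔐.toPush k ≫ (FSch.levelMor 𝔛 h𝔛.1 k).push.map φ = α := by
  haveI : Epi (C := FSch.ModF 𝔛 h𝔛.1) (X := 𝔐.realMod h𝔛.1)
      (FSch.realProj 𝔛 h𝔛.1 𝔐.F 𝔐.toPush k) := epi_realProj h𝔛 h𝔐 k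
  have hk : kernel.ι (FSch.realProj 𝔛 h𝔛.1 𝔐.F 𝔐.toPush k) ≫ α = 0 := by
    refine hom_eq_zero_of_isBasis _ isBasis_affine fun U hU t => ?_
    rw [appL_comp]
    obtain ⟨J, hR⟩ := exists_isAdicRing h𝔛 hU
    have hmem := ((isAdicMod h𝔛.1 hU 𝔐 h𝔛.2.1 hR h𝔐).eq_zero_iff k _).1
      (appL_kernel_condition (FSch.realProj 𝔛 h𝔛.1 𝔐.F 𝔐.toPush k) t)
    refine Submodule.smul_induction_on (p := fun y => appL α U y = 0) hmem (fun a ha y _ => ?_)
      fun y z hy hz => by rw [map_add, hy, hz, add_zero]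
    rw [map_smul]
    change pr h𝔛.1 U k a • (show Γ(G, 𝔛.lvU h𝔛.1 k U) from appL α U y) = 0
    rw [← hR.ker_pr, RingHom.mem_ker] at ha
    rw [ha, zero_smul]
  obtain ⟨φ, hφ⟩ := exists_push_preimage h𝔛.1 (Abelian.epiDesc _ α hk)
  exact ⟨φ, by rw [hφ]; exact Abelian.comp_epiDesc _ α hk⟩

/-- Such factorisations are unique. -/
theorem desc_unique {k : ℕ} {G : (𝔛.X k).Modules} {φ ψ : 𝔐.F k ⟶ G}
    (hh : FSch.realProj 𝔛 h𝔛.1 𝔐.F 𝔐.toPush k ≫ (FSch.levelMor 𝔛 h𝔛.1 k).push.map φ =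
      FSch.realProj 𝔛 h𝔛.1 𝔐.F 𝔐.toPush k ≫ (FSch.levelMor 𝔛 h𝔛.1 k).push.map ψ) : φ = ψ := by
  have := epi_realProj h𝔛 h𝔐 k
  exact push_injective h𝔛.1 ((cancel_epi _).1 hh)

/-- The inverse image of the realisation to a level is the given module. -/
theorem isIso_adjunct_realProj (k : ℕ) :
    IsIso (((FSch.levelMor 𝔛 h𝔛.1 k).adj.homEquiv _ _).symm
      (FSch.realProj 𝔛 h𝔛.1 𝔐.F 𝔐.toPush k)) := by
  set φ := ((FSch.levelMor 𝔛 h𝔛.1 k).adj.homEquiv _ _).symm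
    (FSch.realProj 𝔛 h𝔛.1 𝔐.F 𝔐.toPush k)
  have key : ∀ {G : (𝔛.X k).Modules} (β : 𝔐.F k ⟶ G),
      (FSch.levelMor 𝔛 h𝔛.1 k).adj.homEquiv _ _ (φ ≫ β) =
        FSch.realProj 𝔛 h𝔛.1 𝔐.F 𝔐.toPush k ≫ (FSch.levelMor 𝔛 h𝔛.1 k).push.map β := fun β => by
    rw [Adjunction.homEquiv_naturality_right, Equiv.apply_symm_apply]
  obtain ⟨ψ, hψ⟩ := exists_desc h𝔛 h𝔐 k _ ((FSch.levelMor 𝔛 h𝔛.1 k).adj.homEquiv _ _ (𝟙 _))
  have h1 : φ ≫ ψ = 𝟙 _ := ((FSch.levelMor 𝔛 h𝔛.1 k).adj.homEquiv _ _).injective ((key ψ).trans hψ)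
  refine ⟨ψ, h1, desc_unique h𝔛 h𝔐 ?_⟩
  rw [← key, ← key]
  exact congrArg _ ((Category.assoc φ ψ φ).symm.trans ((congrArg (· ≫ φ) h1).trans
    ((Category.id_comp φ).trans (Category.comp_id φ).symm)))

/-- Morphisms of realisations come from unique morphisms of systems. -/
theorem bijective_realModMap (𝔑 : FSch.ModSys 𝔛) :
    Function.Bijective (fun φ : 𝔐 ⟶ 𝔑 => FSch.ModSys.realModMap h𝔛.1 φ) := by
  refine ⟨fun φ ψ hh => FSch.ModSys.Hom.ext (funext fun k => desc_unique h𝔛 h𝔐 ?_), fun Φ => ?_⟩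
  · have h1 := congrArg (· ≫ FSch.realProj 𝔛 h𝔛.1 𝔑.F 𝔑.toPush k) hh
    simp only [FSch.ModSys.realModMap] at h1
    exact (FSch.realLimMap_realProj 𝔛 h𝔛.1 _ _ k).symm.trans
      (h1.trans (FSch.realLimMap_realProj 𝔛 h𝔛.1 _ _ k))
  choose φ hφ using fun k => exists_desc h𝔛 h𝔐 k _ (Φ ≫ FSch.realProj 𝔛 h𝔛.1 𝔑.F 𝔑.toPush k)
  have hcomm : ∀ k, 𝔐.toPush k ≫ (Scheme.Modules.pushforward (𝔛.ι k)).map (φ k) =
      φ (k + 1) ≫ 𝔑.toPush k := fun k => by
    refine desc_unique h𝔛 h𝔐 ?_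
    have : IsIso ((FSch.pushCompare 𝔛 h𝔛.1 k).app (𝔑.F k)) :=
      ⟨(FSch.pushCompareInv 𝔛 h𝔛.1 k).app (𝔑.F k), FSch.pushCompare_pushCompareInv 𝔛 h𝔛.1 k _,
        FSch.pushCompareInv_pushCompare 𝔛 h𝔛.1 k _⟩
    refine (IsIso.mono_of_iso ((FSch.pushCompare 𝔛 h𝔛.1 k).app (𝔑.F k))).right_cancellation _ _ ?_
    have hnat := (FSch.pushCompare 𝔛 h𝔛.1 k).naturality (φ k)
    calc _ = FSch.realProj 𝔛 h𝔛.1 𝔐.F 𝔐.toPush (k + 1) ≫
          ((FSch.levelMor 𝔛 h𝔛.1 (k + 1)).push.map (𝔐.toPush k) ≫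
            (FSch.pushCompare 𝔛 h𝔛.1 k).app (𝔐.F k)) ≫ (FSch.levelMor 𝔛 h𝔛.1 k).push.map (φ k) := by
          erw [Functor.map_comp]
          simp only [Category.assoc]
          exact congrArg (fun z => FSch.realProj 𝔛 h𝔛.1 𝔐.F 𝔐.toPush (k + 1) ≫
            (FSch.levelMor 𝔛 h𝔛.1 (k + 1)).push.map (𝔐.toPush k) ≫ z) hnat
      _ = FSch.realProj 𝔛 h𝔛.1 𝔐.F 𝔐.toPush k ≫ (FSch.levelMor 𝔛 h𝔛.1 k).push.map (φ k) := by
          rw [← Category.assoc, FSch.realProj_map]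
      _ = Φ ≫ FSch.realProj 𝔛 h𝔛.1 𝔑.F 𝔑.toPush k := hφ k
      _ = _ := by
          rw [← FSch.realProj_map 𝔛 h𝔛.1 𝔑.F 𝔑.toPush k]
          refine (Category.assoc _ _ _).symm.trans ((congrArg (fun z => z ≫
            (FSch.levelMor 𝔛 h𝔛.1 (k + 1)).push.map (𝔑.toPush k) ≫
              (FSch.pushCompare 𝔛 h𝔛.1 k).app (𝔑.F k)) (hφ (k + 1)).symm).trans ?_)
          refine Eq.trans ?_ (congrArg (fun z => (FSch.realProj 𝔛 h𝔛.1 𝔐.F 𝔐.toPush (k + 1) ≫ z) ≫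
            (FSch.pushCompare 𝔛 h𝔛.1 k).app (𝔑.F k))
            ((FSch.levelMor 𝔛 h𝔛.1 (k + 1)).push.map_comp _ _).symm)
          exact (Category.assoc _ _ _).trans ((congrArg (fun z => _ ≫ z) (Category.assoc _ _ _).symm).trans
            (Category.assoc _ _ _).symm)
  refine ⟨⟨φ, fun k => ?_⟩, ?_⟩
  · apply ((Scheme.Modules.pullbackPushforwardAdjunction (𝔛.ι k)).homEquiv _ _).injective
    rw [Adjunction.homEquiv_naturality_left, Adjunction.homEquiv_naturality_right]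
    exact (hcomm k).symm
  · refine limit.hom_ext fun j => ?_
    exact (FSch.realLimMap_realProj 𝔛 h𝔛.1 _ _ j.unop).trans (hφ j.unop)

end universal

end Groth.Agent.FMod90
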