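import Groth.Agent.FMod90.PullLevel
import Groth.Agent.FMod90.Proj

/-!
# A coherent module on a formal scheme is the realisation of its system of inverse images
-/

set_option autoImplicit false

universe u

open CategoryTheory CategoryTheory.Limits AlgebraicGeometry TopologicalSpace Opposite

namespace Groth.Agent.FMod90

variable {𝔛 : FSch.Sys.{u}} (h : 𝔛.IsFormal) (𝔉 : FSch.ModF 𝔛 h)

/-- The transition of the inverse images of a module to the levels. -/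
noncomputable def pullTrans (k : ℕ) :
    pullM h (k + 1) 𝔉 ⟶ (Scheme.Modules.pushforward (𝔛.ι k)).obj (pullM h k 𝔉) :=
  ((FSch.levelMor 𝔛 h (k + 1)).adj.homEquiv _ _).symm
    ((FSch.levelMor 𝔛 h k).adj.unit.app 𝔉 ≫ (FSch.pushCompareInv 𝔛 h k).app (pullM h k 𝔉))

/-- The adjunct of the transition. -/
noncomputable def pullTransAdj (k : ℕ) :
    (Scheme.Modules.pullback (𝔛.ι k)).obj (pullM h (k + 1) 𝔉) ⟶ pullM h k 𝔉 :=
  ((Scheme.Modules.pullbackPushforwardAdjunction (𝔛.ι k)).homEquiv _ _).symm (pullTrans h 𝔉 k)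

theorem homEquiv_pullTransAdj_comp (k : ℕ) {G : (𝔛.X k).Modules} (β : pullM h k 𝔉 ⟶ G) :
    (FSch.levelMor 𝔛 h (k + 1)).adj.homEquiv _ _
        ((Scheme.Modules.pullbackPushforwardAdjunction (𝔛.ι k)).homEquiv _ _ (pullTransAdj h 𝔉 k ≫ β)) =
      (FSch.levelMor 𝔛 h k).adj.homEquiv _ _ β ≫ (FSch.pushCompareInv 𝔛 h k).app G := by
  rw [Adjunction.homEquiv_naturality_right, pullTransAdj, Equiv.apply_symm_apply]
  refine ((FSch.levelMor 𝔛 h (k + 1)).adj.homEquiv_naturality_right _ _).trans ?_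
  rw [pullTrans, Equiv.apply_symm_apply, (FSch.levelMor 𝔛 h k).adj.homEquiv_unit]
  refine (Category.assoc _ _ _).trans (Eq.trans ?_ (Category.assoc _ _ _).symm)
  exact congrArg ((FSch.levelMor 𝔛 h k).adj.unit.app 𝔉 ≫ ·)
    ((FSch.pushCompareInv 𝔛 h k).naturality β).symm

theorem isIso_pullTransAdj (k : ℕ) : IsIso (pullTransAdj h 𝔉 k) := by
  let P := (Scheme.Modules.pullback (𝔛.ι k)).obj (pullM h (k + 1) 𝔉)
  let η : 𝔉 ⟶ (FSch.levelMor 𝔛 h (k + 1)).push.obj ((Scheme.Modules.pushforward (𝔛.ι k)).obj P) :=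
    (FSch.levelMor 𝔛 h (k + 1)).adj.homEquiv _ _
      ((Scheme.Modules.pullbackPushforwardAdjunction (𝔛.ι k)).homEquiv _ _ (𝟙 P))
  let β : pullM h k 𝔉 ⟶ P :=
    ((FSch.levelMor 𝔛 h k).adj.homEquiv _ _).symm (η ≫ (FSch.pushCompare 𝔛 h k).app P)
  have inj : ∀ {G : (𝔛.X k).Modules} {β β' : pullM h k 𝔉 ⟶ G},
      pullTransAdj h 𝔉 k ≫ β = pullTransAdj h 𝔉 k ≫ β' → β = β' := fun {G β β'} hh => by
    apply ((FSch.levelMor 𝔛 h k).adj.homEquiv _ _).injective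
    have h1 := congrArg (fun f => (FSch.levelMor 𝔛 h (k + 1)).adj.homEquiv _ _
      ((Scheme.Modules.pullbackPushforwardAdjunction (𝔛.ι k)).homEquiv _ _ f)) hh
    simp only [homEquiv_pullTransAdj_comp] at h1
    have h2 := congrArg (· ≫ (FSch.pushCompare 𝔛 h k).app G) h1
    simp only [Category.assoc, FSch.pushCompareInv_pushCompare, Category.comp_id] at h2
    exact h2
  have h1 : pullTransAdj h 𝔉 k ≫ β = 𝟙 P := by
    apply ((Scheme.Modules.pullbackPushforwardAdjunction (𝔛.ι k)).homEquiv _ _).injective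
    apply ((FSch.levelMor 𝔛 h (k + 1)).adj.homEquiv _ _).injective
    rw [homEquiv_pullTransAdj_comp, Equiv.apply_symm_apply]
    exact (Category.assoc _ _ _).trans
      ((congrArg (η ≫ ·) (FSch.pushCompare_pushCompareInv 𝔛 h k P)).trans (Category.comp_id _))
  exact ⟨β, h1, inj ((Category.assoc _ _ _).symm.trans ((congrArg (· ≫ pullTransAdj h 𝔉 k) h1).trans
    ((Category.id_comp _).trans (Category.comp_id _).symm)))⟩

/-- The system of inverse images of a module to the levels. -/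
noncomputable def pullSys : FSch.ModSys 𝔛 where
  F := fun k => pullM h k 𝔉
  e := fun k => @asIso _ _ _ _ (pullTransAdj h 𝔉 k) (isIso_pullTransAdj h 𝔉 k)

theorem toPush_pullSys (k : ℕ) : (pullSys h 𝔉).toPush k = pullTrans h 𝔉 k :=
  ((Scheme.Modules.pullbackPushforwardAdjunction (𝔛.ι k)).homEquiv _ _).apply_symm_apply _

theorem unit_pullTrans (k : ℕ) :
    (FSch.levelMor 𝔛 h (k + 1)).adj.unit.app 𝔉 ≫
      (FSch.levelMor 𝔛 h (k + 1)).push.map (pullTrans h 𝔉 k) ≫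
        (FSch.pushCompare 𝔛 h k).app (pullM h k 𝔉) = (FSch.levelMor 𝔛 h k).adj.unit.app 𝔉 := by
  refine (Category.assoc _ _ _).symm.trans ?_
  refine (congrArg (fun z => z ≫ (FSch.pushCompare 𝔛 h k).app (pullM h k 𝔉))
    ((((FSch.levelMor 𝔛 h (k + 1)).adj.homEquiv_unit _ _ (pullTrans h 𝔉 k)).symm).trans
      (Equiv.apply_symm_apply _ _))).trans ?_
  exact (Category.assoc _ _ _).trans ((congrArg _ (FSch.pushCompareInv_pushCompare 𝔛 h k _)).trans
    (Category.comp_id _))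

/-- The units as a cone over the system of inverse images. -/
noncomputable def pullCone : Cone (FSch.levelSysOf 𝔛 h (pullSys h 𝔉).F (pullSys h 𝔉).toPush) where
  pt := 𝔉
  π := NatTrans.ofOpSequence (fun k => (FSch.levelMor 𝔛 h k).adj.unit.app 𝔉) fun k => by
    simp only [Functor.const_obj_obj, Functor.const_obj_map, FSch.levelSysOf_map_succ]
    refine (Category.id_comp _).trans ?_
    rw [toPush_pullSys]
    exact (unit_pullTrans h 𝔉 k).symm

/-- The comparison of a module with the realisation of its inverse images. -/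
noncomputable def toRealMod : 𝔉 ⟶ (pullSys h 𝔉).realMod h :=
  limit.lift _ (pullCone h 𝔉)

theorem toRealMod_realProj (k : ℕ) :
    toRealMod h 𝔉 ≫ FSch.realProj 𝔛 h (pullSys h 𝔉).F (pullSys h 𝔉).toPush k =
      (FSch.levelMor 𝔛 h k).adj.unit.app 𝔉 :=
  limit.lift_π (pullCone h 𝔉) (op k)

variable {𝔉}

theorem rproj_toRealMod {U : (𝔛.X 0).Opens} (k : ℕ) (y : Sec 𝔉 U) :
    rproj h U (pullSys h 𝔉).F (pullSys h 𝔉).toPush k (appL (toRealMod h 𝔉) U y) = pullSec90 h k y :=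
  congrArg (fun f => appL f U y) (toRealMod_realProj h 𝔉 k)

theorem rproj_toRealMod_comb {U : (𝔛.X 0).Opens} {n : ℕ} (s : Fin n → Sec 𝔉 U)
    (a : Fin n → Ring (𝔛.Osh h) U) (k : ℕ) :
    rproj h U (pullSys h 𝔉).F (pullSys h 𝔉).toPush k (appL (toRealMod h 𝔉) U (comb s le_rfl a)) =
      ∑ i, pr h U k (a i) • pullSec90 h k (s i) := by
  refine (congrArg (rproj h U (pullSys h 𝔉).F (pullSys h 𝔉).toPush k)
    (map_sum (appL (toRealMod h 𝔉) U) _ _)).trans ?_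
  refine (map_sum (rproj h U (pullSys h 𝔉).F (pullSys h 𝔉).toPush k) _ _).trans
    (Finset.sum_congr rfl fun i _ => ?_)
  rw [map_smul, res_refl]
  exact (rproj_smul h U _ _ k _ _).trans (congrArg (pr h U k (a i) • ·) (rproj_toRealMod h k (s i)))

variable (𝔉) in
/-- Affine opens over which a presentation by sections exists. -/
def presBasis : Set (Opens (𝔛.X 0)) :=
  {V | IsAffineOpen V ∧ ∃ (n m : ℕ) (s : Fin n → Sec 𝔉 V) (r : Fin m → Fin n → Ring (𝔛.Osh h) V),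
    IsPres 𝔉 s r}

theorem isBasis_presBasis [𝔉.IsFinitePresentation] : Opens.IsBasis (presBasis h 𝔉) := by
  rw [Opens.isBasis_iff_nbhd]
  intro W x hx
  obtain ⟨U, hxU, n, m, s, r, hp⟩ := exists_isPres 𝔉 x
  obtain ⟨V, hV, hxV, hVW⟩ := Opens.isBasis_iff_nbhd.1 (isBasis_affine (𝔛 := 𝔛))
    (show x ∈ W ⊓ U from ⟨hx, hxU⟩)
  exact ⟨V, ⟨hV, n, m, _, _, hp.restrict (hVW.trans inf_le_right)⟩, hxV, hVW.trans inf_le_left⟩

theorem isIso_toRealMod (h𝔛 : 𝔛.IsLocNoethFormal) {𝔉 : FSch.ModF 𝔛 h𝔛.1}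
    (h𝔉 : FSch.IsCohF 𝔛 h𝔛.1 𝔉) : IsIso (toRealMod h𝔛.1 𝔉) := by
  have := h𝔉
  have hcoh : (pullSys h𝔛.1 𝔉).IsCoh := fun k => isCoh_pull h𝔛 𝔉 h𝔉 k
  have : Epi (toRealMod h𝔛.1 𝔉) := by
    refine epi_of_isBasis _ (isBasis_presBasis h𝔛.1 (𝔉 := 𝔉)) fun V hV => ?_
    obtain ⟨hVa, n, m, s, r, hp⟩ := hV
    obtain ⟨J, hR⟩ := exists_isAdicRing h𝔛 hVa
    have hM := isAdicMod h𝔛.1 hVa (pullSys h𝔛.1 𝔉) h𝔛.2.1 hR hcoh
    have := hR.complete
    have := hM.finite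
    rw [← LinearMap.range_eq_top]
    refine top_le_iff.1 (Submodule.le_of_le_smul_of_le_jacobson_bot Module.Finite.fg_top
      (IsAdicComplete.le_jacobson_bot J) fun z _ => ?_)
    obtain ⟨c, hc⟩ := exists_pull_coeff h𝔛.1 hVa hp 0
      (rproj h𝔛.1 V (pullSys h𝔛.1 𝔉).F (pullSys h𝔛.1 𝔉).toPush 0 z)
    choose c' hc' using fun i => pr_surjective h𝔛.1 hVa 0 (c i)
    rw [← add_sub_cancel (appL (toRealMod h𝔛.1 𝔉) V (comb s le_rfl c')) z]
    refine Submodule.add_mem_sup (LinearMap.mem_range_self _ _) ?_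
    rw [← pow_one J]
    refine (hM.eq_zero_iff 0 _).1 ((map_sub (rproj h𝔛.1 V (pullSys h𝔛.1 𝔉).F
      (pullSys h𝔛.1 𝔉).toPush 0) z _).trans (sub_eq_zero.2 ?_))
    refine hc.symm.trans (Eq.trans ?_ (rproj_toRealMod_comb h𝔛.1 s c' 0).symm)
    simp only [hc']
  have : Mono (toRealMod h𝔛.1 𝔉) := by
    refine mono_of_injective _ fun W => (injective_iff_map_eq_zero _).2 fun y hy => ?_
    refine eq_zero_of_locally fun x hx => ?_
    obtain ⟨V₁, ⟨hV₁, n, m, s₁, r₁, hp₁⟩, hxV₁, hV₁W⟩ :=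
      Opens.isBasis_iff_nbhd.1 (isBasis_presBasis h𝔛.1 (𝔉 := 𝔉)) hx
    obtain ⟨W₁, hW₁, a₁, hxW₁, ha₁⟩ := hp₁.gen V₁ le_rfl (res 𝔉 hV₁W y) x hxV₁
    obtain ⟨V, hV, hxV, hVW₁⟩ := Opens.isBasis_iff_nbhd.1 (isBasis_affine (𝔛 := 𝔛)) hxW₁
    have hVV₁ : V ≤ V₁ := hVW₁.trans hW₁
    have hp := hp₁.restrict hVV₁
    refine ⟨V, hVV₁.trans hV₁W, hxV, ?_⟩
    let a : Fin n → Ring (𝔛.Osh h𝔛.1) V := fun i => rres _ hVW₁ (a₁ i)
    have hy' : res 𝔉 (hVV₁.trans hV₁W) y = comb (fun i => res 𝔉 hVV₁ (s₁ i)) le_rfl a := by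
      have h1 := congrArg (res 𝔉 hVW₁) ha₁
      rw [res_comb, res_res, res_res] at h1
      refine h1.symm.trans ?_
      simp only [comb, res_res, a]
    have hzero : ∀ k, ∑ i, pr h𝔛.1 V k (a i) • pullSec90 h𝔛.1 k (res 𝔉 hVV₁ (s₁ i)) = 0 := fun k => by
      refine (rproj_toRealMod_comb h𝔛.1 (fun i => res 𝔉 hVV₁ (s₁ i)) a k).symm.trans ?_
      rw [← hy', ← res_appL, hy]
      exact (congrArg (rproj h𝔛.1 V (pullSys h𝔛.1 𝔉).F (pullSys h𝔛.1 𝔉).toPush k)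
        (map_zero (res ((pullSys h𝔛.1 𝔉).realMod h𝔛.1) (hVV₁.trans hV₁W)))).trans (map_zero _)
    obtain ⟨J, hR⟩ := exists_isAdicRing h𝔛 hV
    have := hR.complete
    have := hR.noetherian
    let r : Fin m → Fin n → Ring (𝔛.Osh h𝔛.1) V := fun l i => rres _ hVV₁ (r₁ l i)
    have key : a ∈ Submodule.span (Ring (𝔛.Osh h𝔛.1) V) (Set.range r) := by
      refine mem_of_forall_mem_sup J _ _ fun k => ?_
      obtain ⟨d, hd⟩ := exists_pull_rel h𝔛.1 hV hp k (fun i => pr h𝔛.1 V k (a i)) (hzero k)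
      choose d' hd' using fun l => pr_surjective h𝔛.1 hV k (d l)
      rw [← add_sub_cancel (∑ l, d' l • r l) a]
      refine Submodule.add_mem_sup (Submodule.sum_mem _ fun l _ =>
        Submodule.smul_mem _ _ (Submodule.subset_span ⟨l, rfl⟩)) (mem_smul_top_of_apply_mem fun i => ?_)
      rw [← hR.ker_pr, RingHom.mem_ker, Pi.sub_apply, map_sub, sub_eq_zero, Finset.sum_apply, map_sum]
      refine (hd i).trans (Finset.sum_congr rfl fun l _ => ?_)
      rw [Pi.smul_apply, smul_eq_mul, map_mul, hd']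
    obtain ⟨c, hc⟩ := (Submodule.mem_span_range_iff_exists_fun _).1 key
    rw [hy']
    have h2 : a = fun i => ∑ l, c l * rres (𝔛.Osh h𝔛.1) le_rfl (r l i) := by
      rw [← hc]
      funext i
      rw [Finset.sum_apply]
      simp only [rres_refl, Pi.smul_apply, smul_eq_mul]
    rw [h2, comb_relation]
    exact Finset.sum_eq_zero fun l _ => by rw [hp.rel l, map_zero, smul_zero]
  exact isIso_of_mono_of_epi _

/-- Every coherent module is the realisation of a coherent system. -/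
theorem exists_iso_realMod (h𝔛 : 𝔛.IsLocNoethFormal) (𝔉 : FSch.ModF 𝔛 h𝔛.1)
    (h𝔉 : FSch.IsCohF 𝔛 h𝔛.1 𝔉) :
    ∃ 𝔐 : FSch.ModSys 𝔛, 𝔐.IsCoh ∧ Nonempty (𝔉 ≅ 𝔐.realMod h𝔛.1) :=
  have := isIso_toRealMod h𝔛 h𝔉
  ⟨pullSys h𝔛.1 𝔉, fun k => isCoh_pull h𝔛 𝔉 h𝔉 k, ⟨asIso (toRealMod h𝔛.1 𝔉)⟩⟩

end Groth.Agent.FMod90
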