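import Groth.Agent.FMod90.Descend
import Groth.Agent.FMod90.Recon
import Groth.Agent.FComplLib.Restrict

/-!
# Kernels, monomorphisms and epimorphisms of coherent modules on a formal scheme
-/

set_option autoImplicit false

universe u

open CategoryTheory CategoryTheory.Limits AlgebraicGeometry TopologicalSpace Opposite

namespace Groth.Agent.FMod90

section transfer

variable {T : TopCat.{u}} {O : Sheaf (Opens.grothendieckTopology T) CommRingCat.{u}}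
  {M N : ModSite.Mod O} {U : Opens T} {n : ℕ}

/-- An epimorphism carries generators to generators. -/
theorem IsGen.map {s : Fin n → Sec M U} (hs : IsGen M s) (e : M ⟶ N) [Epi e] :
    IsGen N fun i => appL e U (s i) := by
  intro V hV y x hx
  obtain ⟨W₁, hW₁, z, hxW₁, hz⟩ := locLift_of_epi e y x hx
  obtain ⟨W, hW, a, hxW, ha⟩ := hs W₁ (hW₁.trans hV) z x hxW₁
  refine ⟨W, hW.trans hW₁, a, hxW, ?_⟩
  rw [← appL_comb, ha, ← res_appL, hz, res_res]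

/-- Finite type passes to quotients. -/
theorem isFiniteType_of_epi (e : M ⟶ N) [Epi e] [M.IsFiniteType] : N.IsFiniteType := by
  choose U hU n s hs using exists_isGen M
  exact isFiniteType_of_isGen U (fun x => ⟨x, hU x⟩) fun x => ⟨n x, _, (hs x).map e⟩

/-- Finite rank free modules and the structure sheaf are of finite presentation. -/
theorem isFinitePresentation_free (ι : Type u) [Finite ι] :
    (SheafOfModules.free ι : ModSite.Mod O).IsFinitePresentation := by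
  classical
  haveI := Fintype.ofFinite ι
  let e := Fintype.equivFin ι
  refine isFinitePresentation_of_isPres (fun _ : PUnit.{u + 1} => (⊤ : Opens T))
    (fun _ => ⟨PUnit.unit, trivial⟩) fun _ =>
      ⟨Fintype.card ι, 0, fun i => Site.basisSec (O := O) (e.symm i) (⊤ : Opens T), Fin.elim0, ?_⟩
  have hcomb : ∀ (V : Opens T) (h : V ≤ ⊤) (a : Fin (Fintype.card ι) → Ring O V),
      comb (M := SheafOfModules.free ι) (fun i => Site.basisSec (O := O) (e.symm i) (⊤ : Opens T)) h a =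
        ∑ i, (a (e i) : Site.Scal O V) • Site.basisSec (O := O) i V := by
    intro V h a
    refine Eq.trans ?_ (e.sum_comp fun i => a i •
      res (SheafOfModules.free ι) h (Site.basisSec (O := O) (e.symm i) (⊤ : Opens T))).symm |>.trans ?_
    · rfl
    refine Finset.sum_congr rfl fun i _ => ?_
    rw [Equiv.symm_apply_apply]
    exact congrArg (fun z => (a (e i) : Site.Scal O V) • z)
      (Site.map_basisSec (O := O) i (homOfLE h))
  refine ⟨fun V hV y x hx => ⟨V, le_rfl, fun i => Site.coeff (O := O) (e.symm i) V y, hx, ?_⟩,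
    fun l => l.elim0, fun V hV a ha x hx => ⟨V, le_rfl, Fin.elim0, hx, fun i => ?_⟩⟩
  · rw [hcomb, res_refl]
    refine Eq.trans ?_ (Site.eq_sum (O := O) V y).symm
    simp only [Equiv.symm_apply_apply]
    rfl
  · rw [hcomb] at ha
    have h1 := congrArg (fun z => Site.app (Site.proj (O := O) (e.symm i)) V z) ha
    rw [map_zero] at h1
    have h1 : (a (e (e.symm i)) : Site.Scal O V) = 0 :=
      (Site.app_proj_sum (O := O) V (fun j => (a (e j) : Site.Scal O V)) (e.symm i)).symm.trans h1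
    rw [Equiv.apply_symm_apply] at h1
    rw [Fin.sum_univ_zero, h1]
    exact map_zero _

theorem isFinitePresentation_unit : (ModSite.unit O).IsFinitePresentation := by
  refine isFinitePresentation_of_isPres (fun _ : PUnit.{u + 1} => (⊤ : Opens T))
    (fun _ => ⟨PUnit.unit, trivial⟩) fun _ => ⟨1, 0, fun _ => (1 : Ring O ⊤), Fin.elim0, ?_⟩
  have hcomb : ∀ (V : Opens T) (h : V ≤ ⊤) (a : Fin 1 → Ring O V),
      comb (M := ModSite.unit O) (fun _ => (1 : Ring O ⊤)) h a = a 0 := by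
    intro V h a
    rw [comb, Fin.sum_univ_one]
    change a 0 * rres O h 1 = a 0
    rw [map_one, mul_one]
  refine ⟨fun V hV y x hx => ⟨V, le_rfl, fun _ => y, hx, ?_⟩, fun l => l.elim0,
    fun V hV a ha x hx => ⟨V, le_rfl, Fin.elim0, hx, fun i => ?_⟩⟩
  · rw [hcomb, res_refl]
  · rw [hcomb] at ha
    obtain rfl : i = 0 := Subsingleton.elim _ _
    rw [Fin.sum_univ_zero, ha]
    exact map_zero _

end transfer

set_option allowUnsafeReducibility true in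
attribute [local reducible] FSch.ModSys.realMod

variable {𝔛 : FSch.Sys.{u}} (h𝔛 : 𝔛.IsLocNoethFormal)

/-- A kernel generated on all basic opens of an affine open by given sections is generated by them. -/
theorem exists_isGen_kernel {M N : FSch.ModF 𝔛 h𝔛.1} (φ : M ⟶ N) {U : (𝔛.X 0).Opens}
    (hU : IsAffineOpen U) {p : ℕ} (k : Fin p → Sec M U) (hk0 : ∀ i, appL φ U (k i) = 0)
    (hV : ∀ (f : Ring (𝔛.Osh h𝔛.1) U) (y : Sec M (Dop h𝔛.1 f)), appL φ (Dop h𝔛.1 f) y = 0 →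
      y ∈ Submodule.span (Ring (𝔛.Osh h𝔛.1) (Dop h𝔛.1 f))
        (Set.range fun i => res M (Dop_le h𝔛.1 f) (k i))) :
    ∃ (n : ℕ) (s : Fin n → Sec (kernel φ) U), IsGen (kernel φ) s := by
  choose l hl using fun i => exists_kernel_lift φ (k i) (hk0 i)
  refine ⟨p, l, fun W hW y x hx => ?_⟩
  obtain ⟨f, hfW, hxf⟩ := exists_Dop_le h𝔛.1 hU (hW hx) hx
  obtain ⟨a, ha⟩ := exists_comb_of_mem_span (Dop_le h𝔛.1 f)
    (hV f (appL (kernel.ι φ) _ (res _ hfW y)) (appL_kernel_condition φ _))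
  refine ⟨_, hfW, a, hxf, injective_of_mono (kernel.ι φ) _ ?_⟩
  rw [appL_comb]
  simp only [hl]
  exact ha

theorem exists_affine_nhd (x : 𝔛.X 0) : ∃ U : (𝔛.X 0).affineOpens, x ∈ U.1 := by
  obtain ⟨_, ⟨U, hU, rfl⟩, hxU, -⟩ :=
    (𝔛.X 0).isBasis_affineOpens.exists_subset_of_mem_open (Set.mem_univ x) isOpen_univ
  exact ⟨⟨U, hU⟩, hxU⟩

theorem isFiniteType_kernel_realMod {𝔐 𝔑 : FSch.ModSys 𝔛} (h𝔐 : 𝔐.IsCoh) (h𝔑 : 𝔑.IsCoh)
    (φ : 𝔐.realMod h𝔛.1 ⟶ 𝔑.realMod h𝔛.1) : (kernel φ).IsFiniteType := by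
  refine isFiniteType_of_isGen (fun U : (𝔛.X 0).affineOpens => U.1) exists_affine_nhd fun U => ?_
  obtain ⟨J, hR⟩ := exists_isAdicRing h𝔛 U.2
  have := hR.noetherian
  have := (isAdicMod h𝔛.1 U.2 𝔐 h𝔛.2.1 hR h𝔐).finite
  obtain ⟨p, k, hk⟩ := Submodule.fg_iff_exists_fin_generating_family.mp
    (IsNoetherian.noetherian (LinearMap.ker (appL φ U.1)))
  refine exists_isGen_kernel h𝔛 φ U.2 k (fun i => ?_) fun f y hy =>
    ker_le_span_Dop h𝔛 U.2 h𝔐 h𝔑 φ k hk.ge f hy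
  rw [← LinearMap.mem_ker, ← hk]
  exact Submodule.subset_span ⟨i, rfl⟩

/-- Kernels of morphisms of coherent modules are of finite type. -/
theorem isFiniteType_kernel {M N : FSch.ModF 𝔛 h𝔛.1} (hM : FSch.IsCohF 𝔛 h𝔛.1 M)
    (hN : FSch.IsCohF 𝔛 h𝔛.1 N) (φ : M ⟶ N) : (kernel φ).IsFiniteType := by
  obtain ⟨𝔐, h𝔐, ⟨e⟩⟩ := exists_iso_realMod h𝔛 M hM
  obtain ⟨𝔑, h𝔑, ⟨e'⟩⟩ := exists_iso_realMod h𝔛 N hN
  have := isFiniteType_kernel_realMod h𝔛 h𝔐 h𝔑 (e.inv ≫ φ ≫ e'.hom)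
  exact isFiniteType_of_epi (kernel.mapIso (e.inv ≫ φ ≫ e'.hom) φ e.symm e'.symm (by simp)).hom

theorem isCohF_free (ι : Type u) [Finite ι] :
    FSch.IsCohF 𝔛 h𝔛.1 (SheafOfModules.free ι) := isFinitePresentation_free ι

theorem isCohF_unit : FSch.IsCohF 𝔛 h𝔛.1 (FSch.unitF 𝔛 h𝔛.1) := isFinitePresentation_unit

theorem isLocNoethFormal_restrictOpen (U : (𝔛.X 0).Opens) :
    (𝔛.restrictOpen h𝔛.1 U).IsLocNoethFormal :=
  haveI := FComplLib.isLocallyNoetherian_restrictOpen_zero 𝔛 h𝔛.1 U (h𝔛.2.2 0)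
  FComplLib.isLocNoethFormal_of_isAdicHom (FComplLib.isAdicHom_restrictOpenι 𝔛 h𝔛.1 U) h𝔛

/-- The kernel of a projection of the realisation of a coherent system is of finite type. -/
theorem isFiniteType_kernel_realProj {𝔐 : FSch.ModSys 𝔛} (h𝔐 : 𝔐.IsCoh) (k : ℕ) :
    (kernel (FSch.realProj 𝔛 h𝔛.1 𝔐.F 𝔐.toPush k)).IsFiniteType := by
  refine isFiniteType_of_isGen (fun U : (𝔛.X 0).affineOpens => U.1) exists_affine_nhd fun U => ?_
  obtain ⟨J, hR⟩ := exists_isAdicRing h𝔛 U.2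
  have hM := isAdicMod h𝔛.1 U.2 𝔐 h𝔛.2.1 hR h𝔐
  have := hR.noetherian
  have := hM.finite
  obtain ⟨n, s, hs⟩ := Module.Finite.exists_fin (R := Ring (𝔛.Osh h𝔛.1) U.1)
    (M := Sec (𝔐.realMod h𝔛.1) U.1)
  have hs' : ∀ y, ∃ a : Fin n → Ring (𝔛.Osh h𝔛.1) U.1, comb s le_rfl a = y := fun y => by
    refine exists_comb_of_mem_span le_rfl ?_
    simp only [res_refl]
    rw [hs]
    trivial
  obtain ⟨p, g, hg⟩ := Submodule.fg_iff_exists_fin_generating_family.mp (IsNoetherian.noetherian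
    (J ^ (k + 1) • (⊤ : Submodule (Ring (𝔛.Osh h𝔛.1) U.1) (Sec (𝔐.realMod h𝔛.1) U.1))))
  refine exists_isGen_kernel h𝔛 _ U.2 g (fun i => (hM.eq_zero_iff k _).2 ?_) fun f y hy => ?_
  · rw [← hg]
    exact Submodule.subset_span ⟨i, rfl⟩
  obtain ⟨J', hR'⟩ := exists_isAdicRing h𝔛 (isAffineOpen_Dop h𝔛.1 U.2 f)
  have hy' := ((isAdicMod h𝔛.1 (isAffineOpen_Dop h𝔛.1 U.2 f) 𝔐 h𝔛.2.1 hR' h𝔐).eq_zero_iff k y).1 hy
  refine Submodule.smul_induction_on hy' (fun a ha l _ => ?_) fun y z hy hz => Submodule.add_mem _ hy hz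
  obtain ⟨b, rfl⟩ := exists_comb_Dop h𝔛 U.2 h𝔐 s hs' f l
  simp only [comb, Finset.smul_sum, smul_comm a]
  refine Submodule.sum_mem _ fun i _ => Submodule.smul_mem _ _ ?_
  rw [← ideal_Dop h𝔛 U.2 hR f hR', ← Ideal.map_pow] at ha
  induction ha using Submodule.span_induction with
  | mem z hz =>
    obtain ⟨j, hj, rfl⟩ := hz
    rw [← res_smul]
    refine res_mem_span _ ?_
    rw [hg]
    exact Submodule.smul_mem_smul hj trivial
  | zero => rw [zero_smul]; exact Submodule.zero_mem _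
  | add z w _ _ hz hw => rw [add_smul]; exact Submodule.add_mem _ hz hw
  | smul c z _ hz => rw [smul_eq_mul, mul_smul]; exact Submodule.smul_mem _ _ hz

/-- The composite of the unit and the adjunct of a projection is the projection. -/
theorem unit_push_adjunct (𝔐 : FSch.ModSys 𝔛) (k : ℕ) :
    (FSch.levelMor 𝔛 h𝔛.1 k).adj.unit.app (𝔐.realMod h𝔛.1) ≫ (FSch.levelMor 𝔛 h𝔛.1 k).push.map
      (((FSch.levelMor 𝔛 h𝔛.1 k).adj.homEquiv _ _).symm (FSch.realProj 𝔛 h𝔛.1 𝔐.F 𝔐.toPush k)) =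
      FSch.realProj 𝔛 h𝔛.1 𝔐.F 𝔐.toPush k :=
  ((FSch.levelMor 𝔛 h𝔛.1 k).adj.homEquiv_unit _ _ _).symm.trans (Equiv.apply_symm_apply _ _)

/-- The kernel of the unit to a level is of finite type. -/
theorem isFiniteType_kernel_unit {M : FSch.ModF 𝔛 h𝔛.1} (hM : FSch.IsCohF 𝔛 h𝔛.1 M) (k : ℕ) :
    (kernel ((FSch.levelMor 𝔛 h𝔛.1 k).adj.unit.app M)).IsFiniteType := by
  obtain ⟨𝔐, h𝔐, ⟨e⟩⟩ := exists_iso_realMod h𝔛 M hM
  have := isFiniteType_kernel_realProj h𝔛 h𝔐 k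
  have := isIso_adjunct_realProj h𝔛 h𝔐 k
  let ψ := ((FSch.levelMor 𝔛 h𝔛.1 k).adj.homEquiv _ _).symm
    (FSch.realProj 𝔛 h𝔛.1 𝔐.F 𝔐.toPush k)
  let i : (FSch.levelMor 𝔛 h𝔛.1 k).push.obj ((FSch.levelMor 𝔛 h𝔛.1 k).pull.obj M) ≅
      (FSch.levelMor 𝔛 h𝔛.1 k).push.obj (𝔐.F k) :=
    (FSch.levelMor 𝔛 h𝔛.1 k).push.mapIso ((FSch.levelMor 𝔛 h𝔛.1 k).pull.mapIso e ≪≫ asIso ψ)
  have w : (FSch.levelMor 𝔛 h𝔛.1 k).adj.unit.app M ≫ i.hom =
      e.hom ≫ FSch.realProj 𝔛 h𝔛.1 𝔐.F 𝔐.toPush k := by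
    refine Eq.trans ?_ (congrArg (e.hom ≫ ·) (unit_push_adjunct h𝔛 𝔐 k))
    refine Eq.trans ?_ ((Category.assoc _ _ _).trans rfl)
    refine Eq.trans (congrArg (_ ≫ ·) ((FSch.levelMor 𝔛 h𝔛.1 k).push.map_comp _ _)) ?_
    refine (Category.assoc _ _ _).symm.trans ?_
    exact congrArg (· ≫ _) ((FSch.levelMor 𝔛 h𝔛.1 k).adj.unit.naturality e.hom).symm
  exact isFiniteType_of_epi (kernel.mapIso _ _ e i w).inv

/-- An epimorphism criterion on the smallest level. -/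
theorem epi_realMod {𝔐 𝔑 : FSch.ModSys 𝔛} (h𝔐 : 𝔐.IsCoh) (h𝔑 : 𝔑.IsCoh) (φ : 𝔐 ⟶ 𝔑)
    [Epi (φ.app 0)] : Epi (FSch.ModSys.realModMap h𝔛.1 φ) := by
  refine epi_of_isBasis _ (isBasis_affine (𝔛 := 𝔛)) fun U hU => ?_
  obtain ⟨J, hR⟩ := exists_isAdicRing h𝔛 hU
  have hM := isAdicMod h𝔛.1 hU 𝔐 h𝔛.2.1 hR h𝔐
  have hN := isAdicMod h𝔛.1 hU 𝔑 h𝔛.2.1 hR h𝔑
  have := hR.complete
  have := hN.finite
  rw [← LinearMap.range_eq_top]
  refine top_le_iff.1 (Submodule.le_of_le_smul_of_le_jacobson_bot Module.Finite.fg_top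
    (IsAdicComplete.le_jacobson_bot J) fun z _ => ?_)
  obtain ⟨w, hw⟩ := QCoh.app_surjective_of_epi (h𝔐 0).1 (h𝔑 0).1 (φ.app 0)
    (isAffineOpen_lvU h𝔛.1 hU 0) (rproj h𝔛.1 U 𝔑.F 𝔑.toPush 0 z)
  obtain ⟨x, rfl⟩ := hM.surjective 0 w
  rw [← add_sub_cancel (appL (FSch.ModSys.realModMap h𝔛.1 φ) U x) z]
  refine Submodule.add_mem_sup (LinearMap.mem_range_self _ _) ?_
  rw [← pow_one J]
  refine (hN.eq_zero_iff 0 _).1 ((map_sub (rproj h𝔛.1 U 𝔑.F 𝔑.toPush 0) z _).trans (sub_eq_zero.2 ?_))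
  refine hw.symm.trans ?_
  exact (congrArg (fun f => appL f U x) (FSch.realLimMap_realProj 𝔛 h𝔛.1 _ _ 0)).symm

/-- The inverse image to a level of a morphism of realisations. -/
theorem pull_map_realModMap_adjunct {𝔐 𝔑 : FSch.ModSys 𝔛} (φ : 𝔐 ⟶ 𝔑) (k : ℕ) :
    (FSch.levelMor 𝔛 h𝔛.1 k).pull.map (FSch.ModSys.realModMap h𝔛.1 φ) ≫
      ((FSch.levelMor 𝔛 h𝔛.1 k).adj.homEquiv _ _).symm (FSch.realProj 𝔛 h𝔛.1 𝔑.F 𝔑.toPush k) =
    ((FSch.levelMor 𝔛 h𝔛.1 k).adj.homEquiv _ _).symm (FSch.realProj 𝔛 h𝔛.1 𝔐.F 𝔐.toPush k) ≫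
      φ.app k := by
  refine ((FSch.levelMor 𝔛 h𝔛.1 k).adj.homEquiv_naturality_left_symm _ _).symm.trans
    (Eq.trans ?_ ((FSch.levelMor 𝔛 h𝔛.1 k).adj.homEquiv_naturality_right_symm _ _))
  exact congrArg _ (FSch.realLimMap_realProj 𝔛 h𝔛.1 _ _ k)

/-- Epimorphisms of coherent modules are detected on the smallest level. -/
theorem epi_iff_epi_pull_zero {M N : FSch.ModF 𝔛 h𝔛.1} (hM : FSch.IsCohF 𝔛 h𝔛.1 M)
    (hN : FSch.IsCohF 𝔛 h𝔛.1 N) (θ : M ⟶ N) :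
    Epi θ ↔ Epi ((FSch.levelMor 𝔛 h𝔛.1 0).pull.map θ) := by
  refine ⟨fun hθ => ?_, fun hθ => ?_⟩
  · have := (FSch.levelMor 𝔛 h𝔛.1 0).adj.isLeftAdjoint
    infer_instance
  obtain ⟨𝔐, h𝔐, ⟨e⟩⟩ := exists_iso_realMod h𝔛 M hM
  obtain ⟨𝔑, h𝔑, ⟨e'⟩⟩ := exists_iso_realMod h𝔛 N hN
  obtain ⟨φ, hφ⟩ := (bijective_realModMap h𝔛 h𝔐 𝔑).2 (e.inv ≫ θ ≫ e'.hom)
  change FSch.ModSys.realModMap h𝔛.1 φ = e.inv ≫ θ ≫ e'.hom at hφ
  have h1 : Epi ((FSch.levelMor 𝔛 h𝔛.1 0).pull.map (FSch.ModSys.realModMap h𝔛.1 φ)) := by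
    rw [hφ, Functor.map_comp, Functor.map_comp]
    infer_instance
  have := isIso_adjunct_realProj h𝔛 h𝔐 0
  have := isIso_adjunct_realProj h𝔛 h𝔑 0
  have h2 : Epi (((FSch.levelMor 𝔛 h𝔛.1 0).adj.homEquiv _ _).symm
      (FSch.realProj 𝔛 h𝔛.1 𝔐.F 𝔐.toPush 0) ≫ φ.app 0) := by
    rw [← pull_map_realModMap_adjunct h𝔛 φ 0]
    exact epi_comp' h1 inferInstance
  have : Epi (φ.app 0) := @epi_of_epi _ _ _ _ _ _ _ h2
  have := epi_realMod h𝔛 h𝔐 h𝔑 φ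
  have h3 : θ = e.hom ≫ FSch.ModSys.realModMap h𝔛.1 φ ≫ e'.inv := by rw [hφ]; simp
  rw [h3]
  infer_instance

end Groth.Agent.FMod90
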