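import Groth.Agent.FMod90.Basic
import Groth.Agent.FComplLib.AffSysMod
import Groth.Agent.FComplLib.OshSurj
import Groth.Agent.FComplLib.AffineSys
import Groth.Agent.LocalCrit.Complete
import Groth.Prelude.Def_FSch5

/-!
# Sections of the structure sheaf and of limits of systems of modules on a formal scheme

Sections over an open `U` of the common space are the compatible families of sections of the levels; over
an affine open the ring of sections is Noetherian and adically complete, the sections of the realisation of a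
coherent system form a finite module, and the kernels of the projections are the powers of the ideal.
-/

set_option autoImplicit false

universe u

open CategoryTheory CategoryTheory.Limits AlgebraicGeometry TopologicalSpace Opposite

namespace Groth.Agent.FMod90

theorem eq_of_proj {C : Type*} [Category C] (F : ℕᵒᵖ ⥤ C) [HasLimit F] (G : C ⥤ Type u)
    [PreservesLimit F G] {x y : G.obj (limit F)}
    (h : ∀ n : ℕ, G.map (limit.π F (op n)) x = G.map (limit.π F (op n)) y) : x = y :=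
  (Types.isLimitEquivSections (isLimitOfPreserves G (limit.isLimit F))).injective
    (Subtype.ext (funext fun j => h j.unop))

theorem exists_proj {C : Type*} [Category C] (F : ℕᵒᵖ ⥤ C) [HasLimit F] (G : C ⥤ Type u)
    [PreservesLimit F G] (y : ∀ n : ℕ, G.obj (F.obj (op n)))
    (hy : ∀ n : ℕ, G.map (F.map (homOfLE (Nat.le_add_right n 1)).op) (y (n + 1)) = y n) :
    ∃ x : G.obj (limit F), ∀ n : ℕ, G.map (limit.π F (op n)) x = y n := by
  have key : ∀ a b (h : a ≤ b), G.map (F.map (homOfLE h).op) (y b) = y a := by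
    intro a b h
    induction b, h using Nat.le_induction with
    | base =>
      rw [show (homOfLE (le_refl a)).op = 𝟙 (op a) from rfl, F.map_id, G.map_id]
      rfl
    | succ b hab ih =>
      rw [show (homOfLE (hab.trans (Nat.le_add_right b 1))).op =
        (homOfLE (Nat.le_add_right b 1)).op ≫ (homOfLE hab).op from Subsingleton.elim _ _,
        F.map_comp, G.map_comp]
      refine Eq.trans ?_ ih
      exact congrArg (G.map (F.map (homOfLE hab).op)) (hy b)
  have hlim := isLimitOfPreserves G (limit.isLimit F)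
  let s : (F ⋙ G).sections := ⟨fun j => y j.unop, fun {a b} f => by
    have : f = (homOfLE (leOfHom f.unop)).op := Subsingleton.elim _ _
    rw [this]
    exact key _ _ _⟩
  exact ⟨(Types.isLimitEquivSections hlim).symm s,
    fun n => Types.isLimitEquivSections_symm_apply hlim s (op n)⟩

variable {𝔛 : FSch.Sys.{u}} (h : 𝔛.IsFormal) (U : (𝔛.X 0).Opens)

/-- Sections of the `n`-th level over an open of the common space. -/
abbrev Rn (n : ℕ) : Type u := Γ(𝔛.X n, 𝔛.lvU h n U)

/-- The transition maps of the sections of the levels. -/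
noncomputable def ρ (n : ℕ) : Rn h U (n + 1) →+* Rn h U n :=
  ((𝔛.ι n).appLE (𝔛.lvU h (n + 1) U) (𝔛.lvU h n U) (𝔛.lvU_le h n U)).hom

/-- The projections of the sections of the structure sheaf to the levels. -/
noncomputable def pr (n : ℕ) : Ring (𝔛.Osh h) U →+* Rn h U n :=
  ((𝔛.OshProj h n).hom.app (op U)).hom

/-- The sections over `U` as a functor on sheaves of rings. -/
noncomputable abbrev secRing :
    Sheaf (Opens.grothendieckTopology (𝔛.X 0)) CommRingCat.{u} ⥤ Type u :=
  sheafToPresheaf _ _ ⋙ (evaluation _ _).obj (op U) ⋙ CategoryTheory.forget CommRingCat.{u}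

theorem ρ_pr (n : ℕ) (s : Ring (𝔛.Osh h) U) : ρ h U n (pr h U (n + 1) s) = pr h U n s :=
  congrArg (fun φ => (secRing U).map φ s) (𝔛.OshProj_levelMap h n)

theorem pr_rres {V : (𝔛.X 0).Opens} (hVU : V ≤ U) (n : ℕ) (s : Ring (𝔛.Osh h) U) :
    pr h V n (rres (𝔛.Osh h) hVU s) =
      (𝔛.X n).presheaf.map ((Opens.map (𝔛.gInv h n)).map (homOfLE hVU)).op (pr h U n s) :=
  ConcreteCategory.congr_hom ((𝔛.OshProj h n).hom.naturality (homOfLE hVU).op) s

theorem ring_ext {s t : Ring (𝔛.Osh h) U} (hst : ∀ n, pr h U n s = pr h U n t) : s = t :=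
  eq_of_proj (𝔛.levelRing h) (secRing U) hst

theorem exists_ring (y : ∀ n, Rn h U n) (hy : ∀ n, ρ h U n (y (n + 1)) = y n) :
    ∃ s : Ring (𝔛.Osh h) U, ∀ n, pr h U n s = y n :=
  exists_proj (𝔛.levelRing h) (secRing U) y fun n => by
    rw [FSch.Sys.levelRing_map_succ]
    exact hy n

section realLim

variable (G : ∀ k, (𝔛.X k).Modules)
  (t : ∀ k, G (k + 1) ⟶ (Scheme.Modules.pushforward (𝔛.ι k)).obj (G k))

/-- Sections of the `n`-th module over an open of the common space. -/
abbrev Ln (n : ℕ) : Type u := Γ(G n, 𝔛.lvU h n U)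

/-- The transition maps of the sections of a system of modules. -/
noncomputable def τ (n : ℕ) : Ln h U G (n + 1) →+ Ln h U G n :=
  ((G n).presheaf.map (homOfLE (𝔛.lvU_le h n U)).op).hom.comp ((t n).app (𝔛.lvU h (n + 1) U)).hom

/-- The projections of the sections of a limit of modules. -/
noncomputable def rproj (n : ℕ) : Sec (FSch.realLim 𝔛 h G t) U →+ Ln h U G n :=
  (((FSch.realProj 𝔛 h G t n).val.app (op U)).hom).toAddMonoidHom

/-- The sections over `U` as a functor on modules. -/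
noncomputable abbrev secMod : FSch.ModF 𝔛 h ⥤ Type u :=
  SheafOfModules.evaluation (ModSite.ringSh (𝔛.Osh h)) (op U) ⋙ CategoryTheory.forget (ModuleCat _)

theorem τ_rproj (n : ℕ) (s : Sec (FSch.realLim 𝔛 h G t) U) :
    τ h U G t n (rproj h U G t (n + 1) s) = rproj h U G t n s :=
  congrArg (fun φ => (secMod h U).map φ s) (FSch.realProj_map 𝔛 h G t n)

theorem rproj_smul (n : ℕ) (a : Ring (𝔛.Osh h) U) (s : Sec (FSch.realLim 𝔛 h G t) U) :
    rproj h U G t n (a • s) = pr h U n a • rproj h U G t n s :=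
  map_smul (appL (FSch.realProj 𝔛 h G t n) U) a s

theorem rproj_res {V : (𝔛.X 0).Opens} (hVU : V ≤ U) (n : ℕ) (s : Sec (FSch.realLim 𝔛 h G t) U) :
    rproj h V G t n (res _ hVU s) =
      (G n).presheaf.map ((Opens.map (𝔛.gInv h n)).map (homOfLE hVU)).op (rproj h U G t n s) :=
  (res_appL (FSch.realProj 𝔛 h G t n) hVU s).symm

theorem lim_ext {s s' : Sec (FSch.realLim 𝔛 h G t) U}
    (hss : ∀ n, rproj h U G t n s = rproj h U G t n s') : s = s' :=
  eq_of_proj (FSch.levelSysOf 𝔛 h G t) (secMod h U) hss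

theorem exists_lim (y : ∀ n, Ln h U G n) (hy : ∀ n, τ h U G t n (y (n + 1)) = y n) :
    ∃ s : Sec (FSch.realLim 𝔛 h G t) U, ∀ n, rproj h U G t n s = y n :=
  exists_proj (FSch.levelSysOf 𝔛 h G t) (secMod h U) y fun n => by
    rw [FSch.levelSysOf_map_succ]
    exact hy n

theorem τ_smul (n : ℕ) (a : Rn h U (n + 1)) (x : Ln h U G (n + 1)) :
    τ h U G t n (a • x) = ρ h U n a • τ h U G t n x := by
  change (G n).presheaf.map _ ((t n).app _ (a • x)) = _
  rw [Scheme.Modules.Hom.app_smul]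
  exact Scheme.Modules.map_smul (G n) (homOfLE (𝔛.lvU_le h n U)) ((𝔛.ι n).app _ a) _

theorem τ_naturality {V : (𝔛.X 0).Opens} (hVU : V ≤ U) (n : ℕ) (x : Ln h U G (n + 1)) :
    τ h V G t n ((G (n + 1)).presheaf.map ((Opens.map (𝔛.gInv h (n + 1))).map (homOfLE hVU)).op x) =
      (G n).presheaf.map ((Opens.map (𝔛.gInv h n)).map (homOfLE hVU)).op (τ h U G t n x) := by
  have hnat := ConcreteCategory.congr_hom
    ((t n).mapPresheaf.naturality ((Opens.map (𝔛.gInv h (n + 1))).map (homOfLE hVU)).op) x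
  change (G n).presheaf.map _ ((t n).app _ _) = (G n).presheaf.map _ ((G n).presheaf.map _ ((t n).app _ x))
  rw [show (t n).app (𝔛.lvU h (n + 1) V) ((G (n + 1)).presheaf.map _ x) = _ from hnat]
  change ((G n).presheaf.map _ ≫ (G n).presheaf.map _) _ = ((G n).presheaf.map _ ≫ (G n).presheaf.map _) _
  rw [← Functor.map_comp, ← Functor.map_comp]
  rfl

end realLim

section affine

variable {U}

theorem isAffineOpen_lvU (hU : IsAffineOpen U) (n : ℕ) : IsAffineOpen (𝔛.lvU h n U) := by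
  have := FComplLib.isClosedImmersion_toX h n
  refine MorLib.Thick.isAffineOpen_of_preimage (𝔛.toX n) (FComplLib.surjective_toX h n).surj ?_
  convert hU using 1
  change (Opens.map ((𝔛.toX n).base ≫ 𝔛.gInv h n)).obj U = U
  rw [FSch.Sys.toX_base_gInv]
  rfl

/-- The ideal of the special fibre in the sections of a level. -/
noncomputable def Nid (hU : IsAffineOpen U) (n : ℕ) : Ideal (Rn h U n) :=
  (𝔛.toX n).ker.ideal ⟨𝔛.lvU h n U, isAffineOpen_lvU h hU n⟩

theorem appLE_surjective_ker {X Y : Scheme.{u}} (i : X ⟶ Y) [IsClosedImmersion i] (W : Y.affineOpens)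
    (V : X.Opens) (e : V = i ⁻¹ᵁ W.1) :
    Function.Surjective (i.appLE W.1 V e.le) ∧ RingHom.ker (i.appLE W.1 V e.le).hom = i.ker.ideal W := by
  subst e
  rw [← Scheme.Hom.app_eq_appLE]
  exact ⟨i.app_surjective _ W.2, (FComplLib.ideal_ker i W).symm⟩

theorem ρ_surjective (hU : IsAffineOpen U) (n : ℕ) : Function.Surjective (ρ h U n) :=
  have := (h n).1
  (appLE_surjective_ker (𝔛.ι n) ⟨_, isAffineOpen_lvU h hU (n + 1)⟩ _ (𝔛.lvU_succ h n U).symm).1

theorem Nid_map (hU : IsAffineOpen U) (n : ℕ) : (Nid h hU (n + 1)).map (ρ h U n) = Nid h hU n := by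
  have h1 := ModPairLib.ideal_comap (𝔛.toX (n + 1)).ker (𝔛.ι n)
    ⟨𝔛.lvU h (n + 1) U, isAffineOpen_lvU h hU (n + 1)⟩ ⟨𝔛.lvU h n U, isAffineOpen_lvU h hU n⟩
    (𝔛.lvU_le h n U)
  rw [FComplLib.comap_ker_toX h n] at h1
  exact h1.symm

theorem pr_surjective (hU : IsAffineOpen U) (n : ℕ) : Function.Surjective (pr h U n) :=
  FComplLib.surjective_OshProj_app 𝔛 h n U hU

variable (hA : 𝔛.IsAdic)

include hA

theorem Nid_pow (hU : IsAffineOpen U) (n : ℕ) : Nid h hU n ^ (n + 1) = ⊥ := by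
  have h1 := congrFun (congrArg Scheme.IdealSheafData.ideal (FComplLib.pow_ker_toX h hA n))
    ⟨𝔛.lvU h n U, isAffineOpen_lvU h hU n⟩
  rwa [Scheme.IdealSheafData.ideal_pow, Pi.pow_apply] at h1

theorem ρ_ker (hU : IsAffineOpen U) (n : ℕ) : RingHom.ker (ρ h U n) = Nid h hU (n + 1) ^ (n + 1) := by
  have := (h n).1
  rw [ρ, (appLE_surjective_ker (𝔛.ι n) ⟨_, isAffineOpen_lvU h hU (n + 1)⟩ _
    (𝔛.lvU_succ h n U).symm).2, hA n, Scheme.IdealSheafData.ideal_pow, Pi.pow_apply]
  rfl

theorem exists_ideal (hN : ∀ n, IsLocallyNoetherian (𝔛.X n)) (hU : IsAffineOpen U) :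
    ∃ J : Ideal (Ring (𝔛.Osh h) U), J.FG ∧ ∀ n, J.map (pr h U n) = Nid h hU n := by
  classical
  haveI : IsNoetherianRing (Rn h U 1) :=
    IsLocallyNoetherian.component_noetherian ⟨_, isAffineOpen_lvU h hU 1⟩
  obtain ⟨r, g, hg⟩ :=
    Submodule.fg_iff_exists_fin_generating_family.mp (IsNoetherian.noetherian (Nid h hU 1))
  choose y hy using fun i => pr_surjective h hU 1 (g i)
  have h0 : Nid h hU 0 = ⊥ := by simpa using Nid_pow h hA hU 0
  refine ⟨Ideal.span (Set.range y), Submodule.fg_span (Set.finite_range y), fun n => ?_⟩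
  have hspan : ∀ m, Ideal.span (Set.range fun i => pr h U (m + 1) (y i)) = Nid h hU (m + 1) := by
    intro m
    induction m with
    | zero => simp only [hy]; exact hg
    | succ m ih =>
      have hk : RingHom.ker (ρ h U (m + 1)) ≤ Nid h hU (m + 1 + 1) :=
        (ρ_ker h hA hU (m + 1)).le.trans (Ideal.pow_le_self (by omega))
      refine (FComplLib.eq_of_le_sup_pow (Nid h hU (m + 1 + 1)) _ (m + 1) (by omega)
        (Nid_pow h hA hU _) ?_ ?_).symm
      · intro a ha
        have h1 : ρ h U (m + 1) a ∈ (Ideal.span (Set.range fun i => pr h U (m + 1 + 1) (y i))).map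
            (ρ h U (m + 1)) := by
          rw [Ideal.map_span, ← Set.range_comp]
          simp only [Function.comp_def, ρ_pr]
          rw [ih, ← Nid_map h hU (m + 1)]
          exact Ideal.mem_map_of_mem _ ha
        rw [← Ideal.mem_comap, Ideal.comap_map_of_surjective' _ (ρ_surjective h hU (m + 1)),
          ρ_ker h hA hU] at h1
        exact h1
      · rw [Ideal.span_le]
        rintro _ ⟨i, rfl⟩
        have h1 : ρ h U (m + 1) (pr h U (m + 1 + 1) (y i)) ∈
            (Nid h hU (m + 1 + 1)).map (ρ h U (m + 1)) := by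
          rw [ρ_pr, Nid_map, ← ih]
          exact Ideal.subset_span ⟨i, rfl⟩
        rw [← Ideal.mem_comap, Ideal.comap_map_of_surjective' _ (ρ_surjective h hU (m + 1)),
          sup_eq_left.mpr hk] at h1
        exact h1
  rw [Ideal.map_span, ← Set.range_comp]
  simp only [Function.comp_def]
  cases n with
  | zero =>
    rw [h0, Ideal.span_eq_bot]
    rintro _ ⟨i, rfl⟩
    change pr h U 0 (y i) = 0
    rw [← ρ_pr h U 0, ← RingHom.mem_ker, ρ_ker h hA hU, pow_one, ← hspan 0]
    exact Ideal.subset_span ⟨i, rfl⟩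
  | succ m => exact hspan m

end affine

/-- Adic structure of the sections over an affine open of an adic system of Noetherian levels. -/
structure IsAdicRing {U : (𝔛.X 0).Opens} (hU : IsAffineOpen U) (J : Ideal (Ring (𝔛.Osh h) U)) : Prop where
  fg : J.FG
  map_pr : ∀ n, J.map (pr h U n) = Nid h hU n
  ker_pr : ∀ n, RingHom.ker (pr h U n) = J ^ (n + 1)
  complete : IsAdicComplete J (Ring (𝔛.Osh h) U)
  noetherian : IsNoetherianRing (Ring (𝔛.Osh h) U)

theorem exists_isAdicRing (h𝔛 : 𝔛.IsLocNoethFormal) {U : (𝔛.X 0).Opens} (hU : IsAffineOpen U) :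
    ∃ J, IsAdicRing h𝔛.1 hU J := by
  obtain ⟨h, hA, hN⟩ := h𝔛
  obtain ⟨J, hfg, hJ⟩ := exists_ideal h hA hN hU
  let R := Ring (𝔛.Osh h) U
  letI : ∀ n, Module R (Rn h U n) := fun n => Module.compHom _ (pr h U n)
  let f : ∀ n, Rn h U (n + 1) →ₗ[R] Rn h U n := fun n =>
    { toFun := ρ h U n
      map_add' := map_add _
      map_smul' := fun a x => (map_mul _ _ _).trans (congrArg (· * ρ h U n x) (ρ_pr h U n a)) }
  let π : ∀ n, R →ₗ[R] Rn h U n := fun n =>
    { toFun := pr h U n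
      map_add' := map_add _
      map_smul' := fun a x => map_mul _ _ _ }
  obtain ⟨hc, hπ, -⟩ := Adic7.limit_quotient_system R J hfg (Rn h U) f (fun n => ρ_surjective h hU n)
    (fun n => by
      refine SetLike.ext fun x => ?_
      change x ∈ RingHom.ker (ρ h U n) ↔ _
      rw [ρ_ker h hA hU, ← hJ (n + 1), ← Ideal.map_pow]
      refine ⟨fun hx => ?_, fun hx => ?_⟩
      · obtain ⟨y, hy, rfl⟩ := FComplLib.exists_mem_smul_top (R := R) (S := Rn h U (n + 1))
          (M := Rn h U (n + 1)) (pr h U (n + 1)) (pr_surjective h hU (n + 1))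
          (AddMonoidHom.id _) Function.surjective_id (fun _ _ => rfl) (J ^ (n + 1)) (y := x)
          (by rwa [smul_eq_mul, Ideal.mul_top])
        exact hy
      · have := FComplLib.map_mem_smul_top (R := R) (S := Rn h U (n + 1)) (M := Rn h U (n + 1))
          (P := Rn h U (n + 1)) (pr h U (n + 1)) (AddMonoidHom.id _) (fun _ _ => rfl) _ hx
        rwa [smul_eq_mul, Ideal.mul_top] at this)
    R π (fun n => LinearMap.ext fun x => ρ_pr h U n x)
    (fun x hx => ring_ext h U fun n => (hx n).trans (map_zero _).symm)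
    (fun y hy => exists_ring h U y hy)
  have hker : ∀ n, RingHom.ker (pr h U n) = J ^ (n + 1) := fun n => by
    refine SetLike.ext fun s => (SetLike.ext_iff.mp (hπ n).2 s).trans ?_
    rw [smul_eq_mul, Ideal.mul_top]
  haveI := hc
  haveI : IsNoetherianRing (R ⧸ J) := by
    haveI : IsNoetherianRing (Rn h U 0) :=
      IsLocallyNoetherian.component_noetherian ⟨_, isAffineOpen_lvU h hU 0⟩
    refine isNoetherianRing_of_ringEquiv (Rn h U 0) ((RingHom.quotientKerEquivOfSurjective
      (pr_surjective h hU 0)).symm.trans (Ideal.quotEquivOfEq ?_))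
    rw [hker 0, zero_add, pow_one]
  exact ⟨J, hfg, hJ, hker, hc, LocalCrit.isNoetherianRing_of_isAdicComplete J hfg⟩

section coherent

variable {U} (hU : IsAffineOpen U) (𝔐 : FSch.ModSys 𝔛)

theorem τ_coh_aux {X Y : Scheme.{u}} (i : X ⟶ Y) [IsClosedImmersion i] {M : Y.Modules}
    (hM : Coh.IsQCoh M) {N : X.Modules} (e : (Scheme.Modules.pullback i).obj M ≅ N) (W : Y.affineOpens)
    (V : X.Opens) (hV : V = i ⁻¹ᵁ W.1) :
    Function.Surjective (fun x : Γ(M, W.1) => N.presheaf.map (homOfLE hV.le).op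
      ((((Scheme.Modules.pullbackPushforwardAdjunction i).homEquiv _ _) e.hom).app W.1 x)) ∧
    ∀ x : Γ(M, W.1), N.presheaf.map (homOfLE hV.le).op
      ((((Scheme.Modules.pullbackPushforwardAdjunction i).homEquiv _ _) e.hom).app W.1 x) = 0 ↔
        x ∈ i.ker.ideal W • (⊤ : Submodule Γ(Y, W.1) Γ(M, W.1)) := by
  subst hV
  have hid : ∀ x, N.presheaf.map (homOfLE (le_refl (i ⁻¹ᵁ W.1))).op
      ((((Scheme.Modules.pullbackPushforwardAdjunction i).homEquiv _ _) e.hom).app W.1 x) =
      e.hom.app (i ⁻¹ᵁ W.1)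
        (((Scheme.Modules.pullbackPushforwardAdjunction i).unit.app M).app W.1 x) := by
    intro x
    rw [Adjunction.homEquiv_unit, show (homOfLE (le_refl (i ⁻¹ᵁ W.1))).op = 𝟙 _ from rfl,
      CategoryTheory.Functor.map_id]
    rfl
  have hb : Function.Bijective (e.hom.app (i ⁻¹ᵁ W.1)) := by
    have : IsIso (e.hom.app (i ⁻¹ᵁ W.1)) :=
      Scheme.Modules.Hom.isIso_iff_isIso_app.mp inferInstance _
    exact ConcreteCategory.bijective_of_isIso _
  obtain ⟨h1, h2⟩ := QCoh.unit_app_closed i hM W.2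
  refine ⟨?_, fun x => ?_⟩
  · simp only [hid]
    exact hb.2.comp h1
  · rw [hid, ← h2 x]
    exact map_eq_zero_iff _ hb.1

include hU in
theorem τ_surjective (hM : 𝔐.IsCoh) (n : ℕ) : Function.Surjective (τ h U 𝔐.F 𝔐.toPush n) :=
  have := (h n).1
  (τ_coh_aux (𝔛.ι n) (hM (n + 1)).1 (𝔐.e n) ⟨_, isAffineOpen_lvU h hU (n + 1)⟩ _
    (𝔛.lvU_succ h n U).symm).1

theorem τ_eq_zero_iff (hA : 𝔛.IsAdic) (hM : 𝔐.IsCoh) (n : ℕ) (x : Ln h U 𝔐.F (n + 1)) :
    τ h U 𝔐.F 𝔐.toPush n x = 0 ↔
      x ∈ Nid h hU (n + 1) ^ (n + 1) • (⊤ : Submodule (Rn h U (n + 1)) (Ln h U 𝔐.F (n + 1))) := by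
  have := (h n).1
  have h1 := (τ_coh_aux (𝔛.ι n) (hM (n + 1)).1 (𝔐.e n) ⟨_, isAffineOpen_lvU h hU (n + 1)⟩ _
    (𝔛.lvU_succ h n U).symm).2 x
  rw [hA n, Scheme.IdealSheafData.ideal_pow, Pi.pow_apply] at h1
  exact h1

/-- Sections of a coherent system over an affine open. -/
structure IsAdicMod (J : Ideal (Ring (𝔛.Osh h) U)) : Prop where
  finite : Module.Finite (Ring (𝔛.Osh h) U) (Sec (𝔐.realMod h) U)
  surjective : ∀ n, Function.Surjective (rproj h U 𝔐.F 𝔐.toPush n)
  eq_zero_iff : ∀ n s, rproj h U 𝔐.F 𝔐.toPush n s = 0 ↔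
    s ∈ J ^ (n + 1) • (⊤ : Submodule (Ring (𝔛.Osh h) U) (Sec (𝔐.realMod h) U))
  complete : IsAdicComplete J (Sec (𝔐.realMod h) U)

theorem isAdicMod (hA : 𝔛.IsAdic) {J : Ideal (Ring (𝔛.Osh h) U)} (hJ : IsAdicRing h hU J)
    (hM : 𝔐.IsCoh) : IsAdicMod h 𝔐 J := by
  let R := Ring (𝔛.Osh h) U
  let L := Sec (FSch.realLim 𝔛 h 𝔐.F 𝔐.toPush) U
  letI : ∀ n, Module R (Ln h U 𝔐.F n) := fun n => Module.compHom _ (pr h U n)
  let f : ∀ n, Ln h U 𝔐.F (n + 1) →ₗ[R] Ln h U 𝔐.F n := fun n =>
    { toFun := τ h U 𝔐.F 𝔐.toPush n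
      map_add' := map_add _
      map_smul' := fun a x =>
        (τ_smul h U _ _ n _ x).trans (congrArg (· • τ h U 𝔐.F 𝔐.toPush n x) (ρ_pr h U n a)) }
  let π : ∀ n, L →ₗ[R] Ln h U 𝔐.F n := fun n =>
    { toFun := rproj h U 𝔐.F 𝔐.toPush n
      map_add' := map_add _
      map_smul' := fun a x => rproj_smul h U _ _ n a x }
  obtain ⟨hc, hπ, hfin⟩ := Adic7.limit_quotient_system R J hJ.fg (fun n => Ln h U 𝔐.F n) f
    (fun n => τ_surjective h hU 𝔐 hM n) (fun n => by
      refine SetLike.ext fun x => ?_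
      refine (τ_eq_zero_iff h hU 𝔐 hA hM n x).trans ?_
      rw [← hJ.map_pr (n + 1), ← Ideal.map_pow]
      refine ⟨fun hx => ?_, fun hx => ?_⟩
      · obtain ⟨y, hy, rfl⟩ := FComplLib.exists_mem_smul_top (R := R) (S := Rn h U (n + 1))
          (M := Ln h U 𝔐.F (n + 1)) (pr h U (n + 1)) (pr_surjective h hU (n + 1))
          (AddMonoidHom.id _) Function.surjective_id (fun _ _ => rfl) (J ^ (n + 1)) (y := x) hx
        exact hy
      · exact FComplLib.map_mem_smul_top (R := R) (S := Rn h U (n + 1)) (M := Ln h U 𝔐.F (n + 1))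
          (P := Ln h U 𝔐.F (n + 1)) (pr h U (n + 1)) (AddMonoidHom.id _) (fun _ _ => rfl) _ hx)
    L π (fun n => LinearMap.ext fun x => τ_rproj h U _ _ n x)
    (fun x hx => lim_ext h U _ _ fun n => (hx n).trans (map_zero _).symm)
    (fun y hy => exists_lim h U _ _ y hy)
  refine ⟨hfin hJ.complete ?_, fun n => (hπ n).1, fun n s => SetLike.ext_iff.mp (hπ n).2 s, hc⟩
  obtain ⟨s, hs⟩ := (QCoh.finite_sections (hM 0) (isAffineOpen_lvU h hU 0)).fg_top
  refine ⟨⟨s, eq_top_iff.mpr fun x _ => ?_⟩⟩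
  have key : ∀ z : Ln h U 𝔐.F 0, z ∈ Submodule.span (Rn h U 0) (s : Set (Ln h U 𝔐.F 0)) →
      z ∈ Submodule.span R (s : Set (Ln h U 𝔐.F 0)) := by
    intro z hz
    induction hz using Submodule.span_induction with
    | mem y hy => exact Submodule.subset_span hy
    | zero => exact Submodule.zero_mem _
    | add y w _ _ hy hw => exact Submodule.add_mem _ hy hw
    | smul c y _ hy =>
      obtain ⟨a, rfl⟩ := pr_surjective h hU 0 c
      exact Submodule.smul_mem _ a hy
  exact key x (by rw [hs]; trivial)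

end coherent

end Groth.Agent.FMod90
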