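import Groth.Agent.SiteBase.Cohom
import Groth.Agent.FMod90.Levels
import Groth.Prelude.Def_CohTop
import Mathlib.Topology.Sheaves.SheafCondition.UniqueGluing

/-!
# Limits of towers of sheaves acyclic on a basis

A tower of abelian sheaves, acyclic on the opens of a basis and with surjective transitions on them, has a limit
acyclic on those opens.
-/

set_option autoImplicit false
set_option maxHeartbeats 1000000
set_option backward.isDefEq.respectTransparency false
set_option backward.isDefEq.respectTransparency.types false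

universe u

open CategoryTheory CategoryTheory.Limits TopologicalSpace Opposite Abelian

namespace Groth.Agent.FMod90

variable {X : TopCat.{u}}

/-- Sections over an open as a functor on abelian sheaves. -/
noncomputable abbrev secAb (U : Opens X) : CohTop.Ab X ⥤ Type u :=
  sheafToPresheaf _ _ ⋙ (evaluation (Opens X)ᵒᵖ AddCommGrpCat.{u}).obj (op U) ⋙ CategoryTheory.forget AddCommGrpCat.{u}

instance preservesLimit_secAb (F : ℕᵒᵖ ⥤ CohTop.Ab X) (U : Opens X) : PreservesLimit F (secAb U) := by
  haveI : PreservesLimitsOfSize.{0, 0} (sheafToPresheaf (Opens.grothendieckTopology X) AddCommGrpCat.{u}) := by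
    haveI : PreservesLimitsOfSize.{u, u} (sheafToPresheaf (Opens.grothendieckTopology X) AddCommGrpCat.{u}) :=
      (sheafificationAdjunction (Opens.grothendieckTopology X) AddCommGrpCat.{u}).rightAdjoint_preservesLimits
    exact preservesSmallestLimits_of_preservesLimits _
  haveI : PreservesLimitsOfSize.{0, 0} ((evaluation (Opens X)ᵒᵖ AddCommGrpCat.{u}).obj (op U)) :=
    preservesSmallestLimits_of_preservesLimits _
  haveI : PreservesLimitsOfSize.{0, 0} (CategoryTheory.forget AddCommGrpCat.{u}) :=
    preservesSmallestLimits_of_preservesLimits _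
  infer_instance

/-- The transition of a tower. -/
noncomputable abbrev ttr (F : ℕᵒᵖ ⥤ CohTop.Ab X) (n : ℕ) : F.obj (op (n + 1)) ⟶ F.obj (op n) :=
  F.map (homOfLE (Nat.le_succ n)).op

theorem tlim_ext (F : ℕᵒᵖ ⥤ CohTop.Ab X) (U : Opens X) {s t : (limit F).obj.obj (op U)}
    (h : ∀ n, ((limit.π F (op n)).hom.app (op U)).hom s = ((limit.π F (op n)).hom.app (op U)).hom t) : s = t :=
  eq_of_proj F (secAb U) h

theorem exists_tlim (F : ℕᵒᵖ ⥤ CohTop.Ab X) (U : Opens X) (y : ∀ n, (F.obj (op n)).obj.obj (op U))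
    (hy : ∀ n, ((ttr F n).hom.app (op U)).hom (y (n + 1)) = y n) :
    ∃ s : (limit F).obj.obj (op U), ∀ n, ((limit.π F (op n)).hom.app (op U)).hom s = y n :=
  exists_proj F (secAb U) y hy

theorem π_ttr (F : ℕᵒᵖ ⥤ CohTop.Ab X) (n : ℕ) : limit.π F (op (n + 1)) ≫ ttr F n = limit.π F (op n) :=
  limit.w F (homOfLE (Nat.le_succ n)).op

theorem cone_ext {F : ℕᵒᵖ ⥤ CohTop.Ab X} {T : CohTop.Ab X} {a b : T ⟶ limit F}
    (h : ∀ n : ℕ, a ≫ limit.π F (op n) = b ≫ limit.π F (op n)) : a = b :=
  limit.hom_ext fun j => h j.unop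

theorem exists_lift_tower (F : ℕᵒᵖ ⥤ CohTop.Ab X) {T : CohTop.Ab X} (a : ∀ n, T ⟶ F.obj (op n))
    (ha : ∀ n, a (n + 1) ≫ ttr F n = a n) : ∃ l : T ⟶ limit F, ∀ n, l ≫ limit.π F (op n) = a n := by
  let c : Cone F :=
    { pt := T
      π := NatTrans.ofOpSequence a fun n => by
        simp only [Functor.const_obj_obj, Functor.const_obj_map]
        exact (Category.id_comp _).trans (ha n).symm }
  exact ⟨limit.lift F c, fun n => limit.lift_π c (op n)⟩

theorem congrSec {A B : CohTop.Ab X} {φ ψ : A ⟶ B} (h : φ = ψ) (U : Opens X) (x : A.obj.obj (op U)) :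
    (φ.hom.app (op U)).hom x = (ψ.hom.app (op U)).hom x := h ▸ rfl

/-- Embedding of a tower in a tower of injective sheaves with split transitions. -/
structure InjStep (F : ℕᵒᵖ ⥤ CohTop.Ab X) (n : ℕ) where
  /-- The injective object. -/
  obj : CohTop.Ab X
  /-- The embedding. -/
  ι : F.obj (op n) ⟶ obj
  inj : Injective obj
  mono : Mono ι

/-- The recursive construction of an injective tower. -/
noncomputable def injStep (F : ℕᵒᵖ ⥤ CohTop.Ab X) : ∀ n, InjStep F n
  | 0 => ⟨Injective.under (F.obj (op 0)), Injective.ι _, inferInstance, inferInstance⟩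
  | n + 1 =>
    { obj := (injStep F n).obj ⊞ Injective.under (F.obj (op (n + 1)))
      ι := biprod.lift (ttr F n ≫ (injStep F n).ι) (Injective.ι _)
      inj :=
        haveI := (injStep F n).inj
        inferInstance
      mono := ⟨fun a b h => (cancel_mono (Injective.ι (F.obj (op (n + 1))))).1 (by
        have := congrArg (· ≫ (biprod.snd : (injStep F n).obj ⊞ _ ⟶ _)) h
        simpa only [Category.assoc, biprod.lift_snd] using this)⟩ }

/-- The injective tower. -/
noncomputable def injTower (F : ℕᵒᵖ ⥤ CohTop.Ab X) : ℕᵒᵖ ⥤ CohTop.Ab X :=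
  Functor.ofOpSequence (X := fun n => (injStep F n).obj) fun _ => biprod.fst

theorem ttr_injTower (F : ℕᵒᵖ ⥤ CohTop.Ab X) (n : ℕ) :
    ttr (injTower F) n = (biprod.fst : (injStep F n).obj ⊞ _ ⟶ _) :=
  Functor.ofOpSequence_map_homOfLE_succ _ n

theorem ι_ttr (F : ℕᵒᵖ ⥤ CohTop.Ab X) (n : ℕ) :
    (injStep F (n + 1)).ι ≫ ttr (injTower F) n = ttr F n ≫ (injStep F n).ι := by
  rw [ttr_injTower]
  exact biprod.lift_fst _ _

theorem injective_limit_injTower (F : ℕᵒᵖ ⥤ CohTop.Ab X) : Injective (limit (injTower F)) := by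
  refine ⟨fun {T U} g f _ => ?_⟩
  let b : ∀ n, U ⟶ (injStep F n).obj := fun n =>
    Nat.rec (haveI := (injStep F 0).inj; Injective.factorThru (g ≫ limit.π (injTower F) (op 0)) f)
      (fun m bm => biprod.lift bm
        (Injective.factorThru (g ≫ limit.π (injTower F) (op (m + 1)) ≫ biprod.snd) f)) n
  have hb : ∀ n, f ≫ b n = g ≫ limit.π (injTower F) (op n) := fun n => by
    induction n with
    | zero =>
      haveI := (injStep F 0).inj
      exact Injective.comp_factorThru _ _
    | succ n ih =>
      refine biprod.hom_ext _ _ ?_ ?_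
      · change (f ≫ biprod.lift (b n) _) ≫ biprod.fst = _
        rw [Category.assoc, biprod.lift_fst, ih, ← π_ttr (injTower F) n, ttr_injTower, Category.assoc]
      · change (f ≫ biprod.lift (b n) _) ≫ biprod.snd = _
        rw [Category.assoc, biprod.lift_snd, Injective.comp_factorThru, Category.assoc]
  obtain ⟨l, hl⟩ := exists_lift_tower (injTower F) b fun n => by
    rw [ttr_injTower]
    exact biprod.lift_fst _ _
  exact ⟨l, cone_ext fun n => by rw [Category.assoc, hl, hb]⟩

theorem injTower_surjective (F : ℕᵒᵖ ⥤ CohTop.Ab X) (n : ℕ) (U : Opens X) :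
    Function.Surjective ((ttr (injTower F) n).hom.app (op U)).hom := fun y => by
  refine ⟨(((biprod.inl : (injStep F n).obj ⟶ _ ⊞ Injective.under (F.obj (op (n + 1))))).hom.app (op U)).hom y, ?_⟩
  rw [ttr_injTower]
  exact congrSec ((biprod.inl_fst (X := (injStep F n).obj)
    (Y := Injective.under (F.obj (op (n + 1)))))) U y

/-- The tower of quotients. -/
noncomputable def quotTower (F : ℕᵒᵖ ⥤ CohTop.Ab X) : ℕᵒᵖ ⥤ CohTop.Ab X :=
  Functor.ofOpSequence (X := fun n => cokernel (injStep F n).ι)
    fun n => cokernel.map _ _ (ttr F n) (ttr (injTower F) n) (ι_ttr F n)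

theorem ttr_quotTower (F : ℕᵒᵖ ⥤ CohTop.Ab X) (n : ℕ) :
    cokernel.π (injStep F (n + 1)).ι ≫ ttr (quotTower F) n = ttr (injTower F) n ≫ cokernel.π (injStep F n).ι := by
  rw [show ttr (quotTower F) n = cokernel.map _ _ (ttr F n) (ttr (injTower F) n) (ι_ttr F n) from
    Functor.ofOpSequence_map_homOfLE_succ _ n]
  exact cokernel.π_desc _ _ _

theorem shortExact_injStep (F : ℕᵒᵖ ⥤ CohTop.Ab X) (n : ℕ) :
    (ShortComplex.mk (injStep F n).ι (cokernel.π (injStep F n).ι) (cokernel.condition _)).ShortExact :=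
  haveI := (injStep F n).mono
  { exact := ShortComplex.exact_cokernel _, mono_f := inferInstance, epi_g := inferInstance }

section

variable {S : Set (Opens X)}

/-- A tower acyclic on `S` with surjective transitions there. -/
structure GoodTower (S : Set (Opens X)) (F : ℕᵒᵖ ⥤ CohTop.Ab X) : Prop where
  acyclic : ∀ U ∈ S, ∀ n p, Subsingleton (CohTop.HU (F.obj (op n)) (p + 1) U)
  surj : ∀ U ∈ S, ∀ n, Function.Surjective ((ttr F n).hom.app (op U)).hom

variable {F : ℕᵒᵖ ⥤ CohTop.Ab X} (hF : GoodTower S F)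
include hF

theorem goodTower_quot : GoodTower S (quotTower F) := by
  refine ⟨fun U hU n p => ?_, fun U hU n y => ?_⟩
  · haveI := (injStep F n).inj
    exact SiteBase.subsingleton_HU_X₃ (shortExact_injStep F n) U (p + 1) (hF.acyclic U hU n (p + 1))
      (SiteBase.subsingleton_HU_of_injective _ U p)
  · obtain ⟨z, hz⟩ := SiteBase.surjective_sections_of_HU_one (shortExact_injStep F n) U (hF.acyclic U hU n 0) y
    obtain ⟨w, hw⟩ := injTower_surjective F n U z
    refine ⟨((cokernel.π (injStep F (n + 1)).ι).hom.app (op U)).hom w, ?_⟩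
    refine (congrSec ((ttr_quotTower F n)) U w).trans ?_
    exact (congrArg ((cokernel.π (injStep F n).ι).hom.app (op U)).hom hw).trans hz

theorem exists_ses_limit (hS : Opens.IsBasis S) :
    ∃ (f : limit F ⟶ limit (injTower F)) (g : limit (injTower F) ⟶ limit (quotTower F)) (w : f ≫ g = 0),
      (ShortComplex.mk f g w).ShortExact ∧ (∀ U ∈ S, Function.Surjective (g.hom.app (op U)).hom) ∧
        (∀ n, f ≫ limit.π (injTower F) (op n) = limit.π F (op n) ≫ (injStep F n).ι) ∧
        ∀ n, g ≫ limit.π (quotTower F) (op n) = limit.π (injTower F) (op n) ≫ cokernel.π (injStep F n).ι := by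
  obtain ⟨f, hf⟩ := exists_lift_tower (injTower F) (fun n => limit.π F (op n) ≫ (injStep F n).ι) fun n => by
    rw [Category.assoc, ι_ttr, ← Category.assoc, π_ttr]
  obtain ⟨g, hg⟩ := exists_lift_tower (quotTower F)
    (fun n => limit.π (injTower F) (op n) ≫ cokernel.π (injStep F n).ι) fun n => by
      rw [Category.assoc, ttr_quotTower, ← Category.assoc, π_ttr]
  have w : f ≫ g = 0 := cone_ext fun n => by
    rw [Category.assoc, hg, ← Category.assoc, hf, Category.assoc, cokernel.condition, comp_zero, zero_comp]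
  haveI : Mono f := ⟨fun a b h => cone_ext fun n => by
    haveI := (injStep F n).mono
    rw [← cancel_mono (injStep F n).ι, Category.assoc, Category.assoc, ← hf, ← Category.assoc, h, Category.assoc]⟩
  have hk : ∀ {T : CohTop.Ab X} (k : T ⟶ limit (injTower F)), k ≫ g = 0 → ∃ l, l ≫ f = k := fun {T} k hk => by
    have h0 : ∀ n, (k ≫ limit.π (injTower F) (op n)) ≫ cokernel.π (injStep F n).ι = 0 := fun n => by
      rw [Category.assoc, ← hg, ← Category.assoc, hk, zero_comp]
    choose a ha using fun n => (show ∃ a, a ≫ (injStep F n).ι = k ≫ limit.π (injTower F) (op n) from by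
      haveI := (injStep F n).mono
      exact ⟨_, (shortExact_injStep F n).exact.lift_f _ (h0 n)⟩)
    obtain ⟨l, hl⟩ := exists_lift_tower F a fun n => by
      haveI := (injStep F n).mono
      rw [← cancel_mono (injStep F n).ι, Category.assoc, ← ι_ttr, ← Category.assoc, ha, Category.assoc, π_ttr, ha]
    exact ⟨l, cone_ext fun n => by rw [Category.assoc, hf, ← Category.assoc, hl, ha]⟩
  have hsurj : ∀ U ∈ S, Function.Surjective (g.hom.app (op U)).hom := by
    intro U hU y
    let q : ∀ n, (injTower F).obj (op n) ⟶ (quotTower F).obj (op n) := fun n => cokernel.π (injStep F n).ι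
    let R : ∀ n, ((injTower F).obj (op n)).obj.obj (op U) → Prop := fun n z =>
      ((q n).hom.app (op U)).hom z = ((limit.π (quotTower F) (op n)).hom.app (op U)).hom y
    have h0 : ∃ z, R 0 z :=
      SiteBase.surjective_sections_of_HU_one (shortExact_injStep F 0) U (hF.acyclic U hU 0 0) _
    have hstep : ∀ n (z : {z // R n z}), ∃ z' : {z' // R (n + 1) z'},
        ((ttr (injTower F) n).hom.app (op U)).hom z'.1 = z.1 := by
      rintro n ⟨z, hz⟩
      obtain ⟨z₁, hz₁⟩ : ∃ z₁ : ((injTower F).obj (op (n + 1))).obj.obj (op U),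
          ((q (n + 1)).hom.app (op U)).hom z₁ = ((limit.π (quotTower F) (op (n + 1))).hom.app (op U)).hom y :=
        SiteBase.surjective_sections_of_HU_one (shortExact_injStep F (n + 1)) U (hF.acyclic U hU (n + 1) 0) _
      let d := ((ttr (injTower F) n).hom.app (op U)).hom z₁ - z
      have hd : ((q n).hom.app (op U)).hom d = 0 := by
        rw [map_sub, hz]
        refine sub_eq_zero.2 ?_
        refine (congrSec ((ttr_quotTower F n).symm) U z₁).trans ?_
        refine (congrArg ((ttr (quotTower F) n).hom.app (op U)).hom hz₁).trans ?_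
        exact congrSec ((π_ttr (quotTower F) n)) U y
      haveI := (injStep F n).mono
      obtain ⟨e, he⟩ := TopCat.Sheaf.sections_exact_of_left_exact (U := U) (shortExact_injStep F n).exact
        (shortExact_injStep F n).mono_f d hd
      obtain ⟨e', he'⟩ := hF.surj U hU n e
      refine ⟨⟨z₁ - (show ((injTower F).obj (op (n + 1))).obj.obj (op U) from ((injStep F (n + 1)).ι.hom.app (op U)).hom e'), ?_⟩, ?_⟩
      · change ((q (n + 1)).hom.app (op U)).hom (z₁ - _) = _
        rw [map_sub, hz₁]
        refine sub_eq_self.2 ?_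
        exact congrSec ((cokernel.condition (injStep F (n + 1)).ι)) U e'
      · rw [map_sub]
        refine (congrArg (_ - ·) ((congrSec ((ι_ttr F n)) U e').trans
          ((congrArg ((injStep F n).ι.hom.app (op U)).hom he').trans he))).trans ?_
        exact sub_sub_cancel _ _
    choose next hnext using hstep
    let zs : ∀ n, {z // R n z} := fun n => Nat.rec ⟨h0.choose, h0.choose_spec⟩ (fun m z => next m z) n
    obtain ⟨s, hs⟩ := exists_tlim (injTower F) U (fun n => (zs n).1) fun n => hnext n (zs n)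
    refine ⟨s, tlim_ext (quotTower F) U fun n => ?_⟩
    refine (congrSec ((hg n)) U s).trans ?_
    exact (congrArg ((q n).hom.app (op U)).hom (hs n)).trans (zs n).2
  haveI : Epi g := by
    haveI : Sheaf.IsLocallySurjective g := ⟨fun {U} y x hx => by
      obtain ⟨V, hV, hxV, hVU⟩ := Opens.isBasis_iff_nbhd.1 hS hx
      obtain ⟨s, hs⟩ := hsurj V hV (((limit (quotTower F)).obj.map (homOfLE hVU).op).hom y)
      exact ⟨V, homOfLE hVU, ⟨s, hs⟩, hxV⟩⟩
    exact (Sheaf.isLocallySurjective_iff_epi' _ _).1 inferInstance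
  refine ⟨f, g, w, { exact := ?_, mono_f := inferInstance, epi_g := inferInstance }, hsurj, hf, hg⟩
  exact ShortComplex.exact_of_f_is_kernel _ (KernelFork.IsLimit.ofι' _ _ fun {T} k h =>
    ⟨(hk k h).choose, (hk k h).choose_spec⟩)

end

/-- The limit of a good tower is acyclic. -/
theorem subsingleton_HU_limit {S : Set (Opens X)} (hS : Opens.IsBasis S) :
    ∀ (p : ℕ) (F : ℕᵒᵖ ⥤ CohTop.Ab X), GoodTower S F → ∀ U ∈ S, Subsingleton (CohTop.HU (limit F) (p + 1) U) := by
  intro p
  induction p with
  | zero =>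
    intro F hF U hU
    obtain ⟨f, g, w, hse, hsurj, -⟩ := exists_ses_limit hF hS
    haveI := injective_limit_injTower F
    exact SiteBase.subsingleton_HU_one_X₁ hse U (SiteBase.subsingleton_HU_of_injective _ U 0) (hsurj U hU)
  | succ p ih =>
    intro F hF U hU
    obtain ⟨f, g, w, hse, -, -⟩ := exists_ses_limit hF hS
    haveI := injective_limit_injTower F
    exact SiteBase.subsingleton_HU_X₁_succ hse U p (SiteBase.subsingleton_HU_of_injective _ U (p + 1))
      (ih _ (goodTower_quot hF) U hU)

end Groth.Agent.FMod90
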