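import Groth.Agent.FMod90.QFormal
import Groth.Agent.FMod90.TowerAcyclic
import Groth.Agent.QCoh.Bound
import Groth.Agent.QCoh.OpenSub

/-!
# Limits of quasi-coherent formal systems are acyclic on affine opens
-/

set_option autoImplicit false
set_option maxHeartbeats 1000000
set_option backward.isDefEq.respectTransparency false
set_option backward.isDefEq.respectTransparency.types false

universe u

open CategoryTheory CategoryTheory.Limits AlgebraicGeometry TopologicalSpace Opposite

namespace Groth.Agent.FMod90

variable {A : Type u} [CommRing A] {I : Ideal A} {X : Scheme.{u}} [X.Over (Spec (CommRingCat.of A))]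
  {G : ℕᵒᵖ ⥤ X.Modules}

/-- The abelian sheaves of a system. -/
noncomputable abbrev abTower (G : ℕᵒᵖ ⥤ X.Modules) : ℕᵒᵖ ⥤ CohTop.Ab (X.toPresheafedSpace.carrier) :=
  G ⋙ QCoh.toAbFunctor X

theorem goodTower_abTower (hG : Formal2.IsQCohFormal I G) :
    GoodTower (X := X.toPresheafedSpace.carrier) (X.affineOpens : Set X.Opens) (abTower G) :=
  ⟨fun _ hU n p => QCoh.subsingleton_HU_of_isAffineOpen (hG.1 n) hU p,
    fun _ hU n => qtr_surjective hG n hU⟩

theorem exists_iso_abTower_π :
    ∃ e : (QCoh.toAbFunctor X).obj (limit G) ≅ limit (abTower G),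
      ∀ n, e.hom ≫ limit.π (abTower G) (op n) = (QCoh.toAbFunctor X).map (limit.π G (op n)) := by
  obtain ⟨l, hl⟩ := exists_lift_tower (X := X.toPresheafedSpace.carrier) (abTower G)
    (fun n => (QCoh.toAbFunctor X).map (limit.π G (op n))) fun n => by
      change (QCoh.toAbFunctor X).map (limit.π G (op (n + 1))) ≫ (QCoh.toAbFunctor X).map (qtr G n) = _
      rw [← Functor.map_comp, π_qtr]
  haveI : ∀ U : (Opens X.toPresheafedSpace.carrier)ᵒᵖ, IsIso (l.hom.app U) := fun U => by
    rw [ConcreteCategory.isIso_iff_bijective]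
    refine ⟨fun s t h => limit_sec_ext (G := G) U.unop fun n => ?_, fun y => ?_⟩
    · exact ((congrSec (hl n) U.unop s).symm.trans (congrArg ((limit.π (abTower G) (op n)).hom.app U).hom h)).trans
        (congrSec (hl n) U.unop t)
    · obtain ⟨s, hs⟩ := exists_limit_sec (G := G) U.unop
        (fun n => ((limit.π (abTower G) (op n)).hom.app U).hom y)
        fun n => congrSec (π_ttr (abTower G) n) U.unop y
      exact ⟨s, tlim_ext (abTower G) U.unop fun n => (congrSec (hl n) U.unop s).trans (hs n)⟩
  haveI : IsIso l.hom := NatIso.isIso_of_isIso_app _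
  haveI : IsIso ((sheafToPresheaf _ _).map l) := (inferInstanceAs (IsIso l.hom))
  haveI : IsIso l := isIso_of_reflects_iso l (sheafToPresheaf _ _)
  exact ⟨asIso l, hl⟩

/-- The abelian sheaf of the limit of a system is the limit of the abelian sheaves. -/
theorem exists_iso_abTower :
    Nonempty ((QCoh.toAbFunctor X).obj (limit G) ≅ limit (abTower G)) :=
  ⟨exists_iso_abTower_π.choose⟩

theorem subsingleton_HU_limit_affine (hG : Formal2.IsQCohFormal I G) {U : X.Opens} (hU : IsAffineOpen U) (p : ℕ) :
    Subsingleton (CohTop.HU (X := X.toPresheafedSpace.carrier) (QCoh.abSheaf (limit G)) (p + 1) U) := by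
  obtain ⟨e⟩ := exists_iso_abTower (G := G)
  haveI := subsingleton_HU_limit (X := X.toPresheafedSpace.carrier) X.isBasis_affineOpens p _
    (goodTower_abTower hG) U hU
  exact ((((Sheaf.cohomologyPresheafFunctor (Opens.grothendieckTopology X.toPresheafedSpace.carrier) (p + 1)).mapIso
    e).app (op U)).addCommGroupIsoToAddEquiv).toEquiv.subsingleton

theorem subsingleton_HHon_limit_affine (hG : Formal2.IsQCohFormal I G) {U : X.Opens} (hU : IsAffineOpen U)
    {p : ℕ} (hp : 0 < p) : Subsingleton (Coh.HHon X (limit G) U p) := by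
  obtain ⟨p, rfl⟩ := Nat.exists_eq_add_of_le' hp
  refine QCoh.subsingleton_HH_restrict U.ι (limit G) p ?_
  rw [Scheme.Opens.opensRange_ι]
  exact subsingleton_HU_limit_affine hG hU p

end Groth.Agent.FMod90
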