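import Groth.Agent.FMod90.MilnorSheaf
import Groth.Agent.FMod90.QFormalAcyclic

/-!
# The Milnor sequence for the cohomology of a quasi-coherent formal system
-/

set_option autoImplicit false
set_option backward.isDefEq.respectTransparency false
set_option backward.isDefEq.respectTransparency.types false

universe u

open CategoryTheory CategoryTheory.Limits AlgebraicGeometry Opposite Abelian TopologicalSpace

namespace Groth.Agent.FMod90

namespace Milnor

variable {C : Type*} [Category.{u} C] [Abelian C] [HasExt.{u} C] {Z : C} {F : ℕᵒᵖ ⥤ C} [HasLimit F]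

/-- The Milnor sequence transported along an isomorphism with the limit. -/
theorem HasMilnor.transport {p : ℕ} (h : HasMilnor Z F p) {L : C} (e : L ≅ limit F) :
    ∃ (α : L1 Z F p →+ EG Z L (p + 1)) (β : EG Z L (p + 1) →+ L0 Z F (p + 1)),
      Function.Injective α ∧ Function.Surjective β ∧ α.range = β.ker ∧
      ∀ x n, (β x : ∀ n, EG Z (F.obj (op n)) (p + 1)) n = emap Z (e.hom ≫ limit.π F (op n)) (p + 1) x := by
  obtain ⟨α, β, hα, hβ, hr, hb⟩ := h
  have hinv : ∀ y, emap Z e.hom (p + 1) (emap Z e.inv (p + 1) y) = y := fun y =>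
    (emap_comp Z _ _ _ y).symm.trans ((emap_congr Z e.inv_hom_id _ y).trans (Ext.comp_mk₀_id y))
  have hhom : ∀ x, emap Z e.inv (p + 1) (emap Z e.hom (p + 1) x) = x := fun x =>
    (emap_comp Z _ _ _ x).symm.trans ((emap_congr Z e.hom_inv_id _ x).trans (Ext.comp_mk₀_id x))
  refine ⟨(emap Z e.inv (p + 1)).comp α, β.comp (emap Z e.hom (p + 1)), ?_, ?_, ?_, fun x n => ?_⟩
  · exact (Function.LeftInverse.injective hinv).comp hα
  · exact hβ.comp (Function.RightInverse.surjective hinv)
  · refine le_antisymm ?_ fun x hx => ?_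
    · rintro _ ⟨q, rfl⟩
      change β (emap Z e.hom (p + 1) (emap Z e.inv (p + 1) (α q))) = 0
      rw [hinv]
      exact hr.le ⟨q, rfl⟩
    · obtain ⟨q, hq⟩ := hr.ge (show emap Z e.hom (p + 1) x ∈ β.ker from hx)
      refine ⟨q, ?_⟩
      change emap Z e.inv (p + 1) (α q) = x
      rw [hq, hhom]
  · exact (hb _ n).trans (emap_comp Z _ _ _ x).symm

end Milnor

variable {A : Type u} [CommRing A] {I : Ideal A} {X : Scheme.{u}} [X.Over (Spec (CommRingCat.of A))]
  {G : ℕᵒᵖ ⥤ X.Modules}

theorem exists_milnor_formal (hG : Formal2.IsQCohFormal I G) (p : ℕ) :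
    ∃ (α : Formal2.limOne (fun n => Coh.HH X (G.obj (op n)) p) (Formal2.HHsysMap G p) →+
        Coh.HH X (limit G) (p + 1))
      (β : Coh.HH X (limit G) (p + 1) →+
        Formal2.limZero (fun n => Coh.HH X (G.obj (op n)) (p + 1)) (Formal2.HHsysMap G (p + 1))),
      Function.Injective α ∧ Function.Surjective β ∧ α.range = β.ker ∧
      ∀ (x : Coh.HH X (limit G) (p + 1)) (n : ℕ),
        (β x : ∀ n, Coh.HH X (G.obj (op n)) (p + 1)) n =
          Sheaf.H.map ((SheafOfModules.toSheaf _).map (limit.π G (op n))) (p + 1) x := by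
  obtain ⟨e, he⟩ := exists_iso_abTower_π (G := G)
  obtain ⟨α, β, h₁, h₂, h₃, h₄⟩ := (hasMilnor_goodTower (X := X.toPresheafedSpace.carrier) X.isBasis_affineOpens
    ((constantSheaf (Opens.grothendieckTopology X.toPresheafedSpace.carrier) AddCommGrpCat.{u}).obj
      (AddCommGrpCat.of (ULift.{u} ℤ))) p (abTower G) (goodTower_abTower hG)).transport e
  exact ⟨α, β, h₁, h₂, h₃, fun x n => (h₄ x n).trans (Milnor.emap_congr _ (he n) _ x)⟩

end Groth.Agent.FMod90
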