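import Groth.Agent.FMod90.TowerMilnor
import Groth.Agent.FMod90.TowerAcyclic

/-!
# The Milnor sequence for the limit of a good tower of abelian sheaves
-/

set_option autoImplicit false
set_option backward.isDefEq.respectTransparency false
set_option backward.isDefEq.respectTransparency.types false

universe u

open CategoryTheory CategoryTheory.Limits TopologicalSpace Opposite Abelian

namespace Groth.Agent.FMod90

variable {X : TopCat.{u}}

/-- The resolution of a tower by its injective tower. -/
noncomputable def injRes (F : ℕᵒᵖ ⥤ CohTop.Ab X) : Milnor.Res F (injTower F) (quotTower F) where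
  ι n := (injStep F n).ι
  π n := cokernel.π (injStep F n).ι
  zero n := cokernel.condition _
  shortExact := shortExact_injStep F
  inj n := (injStep F n).inj
  split n := IsSplitEpi.mk'
    { section_ := (biprod.inl : (injStep F n).obj ⟶ _ ⊞ Injective.under (F.obj (op (n + 1))))
      id := by
        change _ ≫ ttr (injTower F) n = _
        rw [ttr_injTower]
        exact biprod.inl_fst }
  ι_ttr := ι_ttr F
  π_ttr := ttr_quotTower F

theorem hasMilnor_goodTower {S : Set (Opens X)} (hS : Opens.IsBasis S) (Z : CohTop.Ab X) :
    ∀ (p : ℕ) (F : ℕᵒᵖ ⥤ CohTop.Ab X), GoodTower S F → Milnor.HasMilnor Z F p := by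
  intro p
  induction p with
  | zero =>
    intro F hF
    obtain ⟨f, g, w, hse, -, hf, hg⟩ := exists_ses_limit hF hS
    haveI := injective_limit_injTower F
    exact Milnor.hasMilnor_zero_of_ses (injRes F) hse hf hg
  | succ p ih =>
    intro F hF
    obtain ⟨f, g, w, hse, -, hf, hg⟩ := exists_ses_limit hF hS
    haveI := injective_limit_injTower F
    exact Milnor.hasMilnor_succ (injRes F) hse hf hg p (ih _ (goodTower_quot hF))

end Groth.Agent.FMod90
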