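import Groth.Agent.FMod90.Kernels

/-!
# Monomorphisms and epimorphisms of coherent modules form open sets
-/

set_option autoImplicit false

universe u

open CategoryTheory CategoryTheory.Limits AlgebraicGeometry TopologicalSpace Opposite

namespace Groth.Agent.FMod90

set_option allowUnsafeReducibility true in
attribute [local reducible] FSch.ModSys.realMod

variable {𝔛 : FSch.Sys.{u}} (h𝔛 : 𝔛.IsLocNoethFormal)

/-- Injectivity on an affine cover gives a monomorphism. -/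
theorem mono_of_injective_cover {𝔐 𝔑 : FSch.ModSys 𝔛} (h𝔐 : 𝔐.IsCoh) (h𝔑 : 𝔑.IsCoh)
    (φ : 𝔐.realMod h𝔛.1 ⟶ 𝔑.realMod h𝔛.1) {ι : Type*} (U : ι → (𝔛.X 0).Opens)
    (hU : ∀ i, IsAffineOpen (U i)) (hcov : ∀ x, ∃ i, x ∈ U i)
    (hinj : ∀ i, Function.Injective (appL φ (U i))) : Mono φ := by
  refine mono_of_injective _ fun W => (injective_iff_map_eq_zero _).2 fun y hy => ?_
  refine eq_zero_of_locally fun x hx => ?_
  obtain ⟨i, hi⟩ := hcov x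
  obtain ⟨f, hfW, hxf⟩ := exists_Dop_le h𝔛.1 (hU i) hi hx
  refine ⟨_, hfW, hxf, ?_⟩
  have h1 : appL φ (Dop h𝔛.1 f) (res _ hfW y) = 0 := by rw [← res_appL, hy, map_zero]
  have h2 := ker_le_span_Dop h𝔛 (hU i) h𝔐 h𝔑 φ
    (Fin.elim0 : Fin 0 → Sec (𝔐.realMod h𝔛.1) (U i))
    (by rw [LinearMap.ker_eq_bot.2 (hinj i)]; exact bot_le) f h1
  rw [Set.range_eq_empty, Submodule.span_empty, Submodule.mem_bot] at h2
  exact h2

/-- Injectivity over an affine open persists under small perturbations. -/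
theorem exists_injective_add_app {𝔐 𝔑 : FSch.ModSys 𝔛} (h𝔐 : 𝔐.IsCoh) (h𝔑 : 𝔑.IsCoh)
    (θ : 𝔐.realMod h𝔛.1 ⟶ 𝔑.realMod h𝔛.1) {U : (𝔛.X 0).Opens} (hU : IsAffineOpen U) :
    ∃ m : ℕ, ∀ n, m ≤ n → ∀ ψ : 𝔐.realMod h𝔛.1 ⟶ 𝔑.realMod h𝔛.1,
      ψ ≫ FSch.realProj 𝔛 h𝔛.1 𝔑.F 𝔑.toPush n = 0 →
      Function.Injective (appL θ U) → Function.Injective (appL (θ + ψ) U) := by
  obtain ⟨J, hR⟩ := exists_isAdicRing h𝔛 hU
  have hM := isAdicMod h𝔛.1 hU 𝔐 h𝔛.2.1 hR h𝔐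
  have hN := isAdicMod h𝔛.1 hU 𝔑 h𝔛.2.1 hR h𝔑
  have := hR.noetherian
  have := hR.complete
  have := hM.finite
  have := hN.finite
  by_cases hinj : Function.Injective (appL θ U)
  swap
  · exact ⟨0, fun n _ ψ _ h => absurd h hinj⟩
  obtain ⟨k, hk⟩ := Adic7.exists_injective_add J (appL θ U) hinj
  obtain ⟨m, hm⟩ := Adic7.exists_forall_range_le_imp (I := J)
    (M := Sec (𝔐.realMod h𝔛.1) U) (N := Sec (𝔑.realMod h𝔛.1) U) k
  refine ⟨m, fun n hn ψ hψ _ => ?_⟩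
  have h1 : appL (θ + ψ) U = appL θ U + appL ψ U := LinearMap.ext fun s => appL_add θ ψ U s
  rw [h1]
  refine hk _ (hm _ ?_)
  rintro _ ⟨s, rfl⟩
  refine Submodule.smul_mono_left (Ideal.pow_le_pow_right (le_trans hn (Nat.le_succ n))) ?_
  refine (hN.eq_zero_iff n _).1 ?_
  exact congrArg (fun f => appL f U s) hψ

/-- A perturbation vanishing to some order vanishes on every smaller level. -/
theorem comp_unit_eq_zero {M N : FSch.ModF 𝔛 h𝔛.1} (ψ : M ⟶ N) :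
    ∀ n, ψ ≫ (FSch.levelMor 𝔛 h𝔛.1 n).adj.unit.app N = 0 →
      ψ ≫ (FSch.levelMor 𝔛 h𝔛.1 0).adj.unit.app N = 0
  | 0, h => h
  | n + 1, h => comp_unit_eq_zero ψ n <| by
    rw [← FSch.unit_levelTrans 𝔛 h𝔛.1 N n]
    exact (Category.assoc _ _ _).symm.trans ((congrArg (· ≫ _) h).trans zero_comp)

/-- Monomorphisms and epimorphisms of coherent modules form open sets. -/
theorem exists_open_mono_epi [CompactSpace (𝔛.X 0)] {M N : FSch.ModF 𝔛 h𝔛.1}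
    (hM : FSch.IsCohF 𝔛 h𝔛.1 M) (hN : FSch.IsCohF 𝔛 h𝔛.1 N) (θ : M ⟶ N) :
    ∃ n : ℕ, ∀ ψ : M ⟶ N, ψ ≫ (FSch.levelMor 𝔛 h𝔛.1 n).adj.unit.app N = 0 →
      (Mono θ → Mono (θ + ψ)) ∧ (Epi θ → Epi (θ + ψ)) := by
  obtain ⟨𝔐, h𝔐, ⟨e⟩⟩ := exists_iso_realMod h𝔛 M hM
  obtain ⟨𝔑, h𝔑, ⟨e'⟩⟩ := exists_iso_realMod h𝔛 N hN
  choose U hU using exists_affine_nhd (𝔛 := 𝔛)
  obtain ⟨t, ht⟩ := (isCompact_univ (X := 𝔛.X 0)).elim_finite_subcover (fun x => ((U x).1 : Set (𝔛.X 0)))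
    (fun x => (U x).1.isOpen) fun x _ => Set.mem_iUnion.2 ⟨x, hU x⟩
  choose m hm using fun x : 𝔛.X 0 =>
    exists_injective_add_app h𝔛 h𝔐 h𝔑 (e.inv ≫ θ ≫ e'.hom) (U x).2
  refine ⟨t.sup m, fun ψ hψ => ⟨fun hθ => ?_, fun hθ => ?_⟩⟩
  · have hψ' : (e.inv ≫ ψ ≫ e'.hom) ≫ FSch.realProj 𝔛 h𝔛.1 𝔑.F 𝔑.toPush (t.sup m) = 0 := by
      rw [Category.assoc, Category.assoc, ← unit_push_adjunct h𝔛 𝔑 (t.sup m)]
      refine (congrArg (fun z => e.inv ≫ ψ ≫ z) (Category.assoc _ _ _).symm).trans ?_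
      refine (congrArg (fun z => e.inv ≫ ψ ≫ z ≫ _)
        ((FSch.levelMor 𝔛 h𝔛.1 (t.sup m)).adj.unit.naturality e'.hom)).trans ?_
      refine Eq.trans ?_ (comp_zero (f := e.inv))
      refine congrArg (e.inv ≫ ·) ?_
      refine (congrArg (ψ ≫ ·) (Category.assoc _ _ _)).trans ?_
      exact ((Category.assoc ψ _ _).symm.trans (congrArg (· ≫ _) hψ)).trans zero_comp
    have : Mono ((e.inv ≫ θ ≫ e'.hom) + (e.inv ≫ ψ ≫ e'.hom)) := by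
      refine mono_of_injective_cover h𝔛 h𝔐 h𝔑 _ (fun x : t => (U x.1).1) (fun x => (U x.1).2)
        (fun y => ?_) fun x => ?_
      · obtain ⟨x, hx, hy⟩ := Set.mem_iUnion₂.1 (ht (Set.mem_univ y))
        exact ⟨⟨x, hx⟩, hy⟩
      · exact hm x.1 _ (Finset.le_sup x.2) _ hψ' (injective_of_mono _ _)
    have h3 : θ + ψ = e.hom ≫ ((e.inv ≫ θ ≫ e'.hom) + (e.inv ≫ ψ ≫ e'.hom)) ≫ e'.inv := by simp
    rw [h3]
    infer_instance
  · have h0 := comp_unit_eq_zero h𝔛 ψ _ hψ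
    have hp : (FSch.levelMor 𝔛 h𝔛.1 0).pull.map (θ + ψ) = (FSch.levelMor 𝔛 h𝔛.1 0).pull.map θ := by
      have hg : ∀ χ : M ⟶ N, (FSch.levelMor 𝔛 h𝔛.1 0).adj.homEquiv _ _
          ((FSch.levelMor 𝔛 h𝔛.1 0).pull.map χ) = χ ≫ (FSch.levelMor 𝔛 h𝔛.1 0).adj.unit.app N :=
        fun χ => ((FSch.levelMor 𝔛 h𝔛.1 0).adj.homEquiv_unit _ _ _).trans
          ((FSch.levelMor 𝔛 h𝔛.1 0).adj.unit.naturality χ).symm
      apply ((FSch.levelMor 𝔛 h𝔛.1 0).adj.homEquiv _ _).injective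
      rw [hg, hg]
      exact (Preadditive.add_comp _ _ _ θ ψ _).trans ((congrArg (θ ≫ _ + ·) h0).trans (add_zero _))
    rw [epi_iff_epi_pull_zero h𝔛 hM hN, hp]
    exact (epi_iff_epi_pull_zero h𝔛 hM hN θ).1 hθ

end Groth.Agent.FMod90
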