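import Groth.Agent.FMod90.PrincipalQuot
import Groth.Agent.FMod90.Levels
import Groth.Agent.QCoh.Support

/-!
# The limit of a system of quasi-coherent modules with quotients by powers of an element
-/

set_option autoImplicit false
set_option backward.isDefEq.respectTransparency false
set_option backward.isDefEq.respectTransparency.types false
set_option maxHeartbeats 1000000

universe u

open CategoryTheory CategoryTheory.Limits AlgebraicGeometry TopologicalSpace Opposite

namespace Groth.Agent.FMod90.Principal

open Groth.Agent.FFun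

variable {A : Type u} [CommRing A] {X : Scheme.{u}} [X.Over (Spec (CommRingCat.of A))] (f : A)
  (G : ℕᵒᵖ ⥤ X.Modules)

/-- The transition maps of a system. -/
abbrev tS (n : ℕ) : G.obj (op (n + 1)) ⟶ G.obj (op n) := G.map (homOfLE (Nat.le_succ n)).op

/-- The map to the first term. -/
abbrev pS (n : ℕ) : G.obj (op n) ⟶ G.obj (op 0) := G.map (homOfLE (Nat.zero_le n)).op

/-- The conditions on the system. -/
structure IsStep (i : ∀ n : ℕ, G.obj (op n) ⟶ G.obj (op (n + 1))) : Prop where
  qcoh : ∀ n : ℕ, Coh.IsQCoh (G.obj (op n))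
  mono : ∀ n, Mono (i n)
  fac : ∀ n, tS G n ≫ i n = Formal.smulMod A (G.obj (op (n + 1))) f
  zero : ∀ n, i n ≫ pS G (n + 1) = 0
  short : ∀ n, (ShortComplex.mk (i n) (pS G (n + 1)) (zero n)).ShortExact

variable {f G} {i : ∀ n : ℕ, G.obj (op n) ⟶ G.obj (op (n + 1))} (H : IsStep f G i)

theorem tS_pS (n : ℕ) : tS G n ≫ pS G n = pS G (n + 1) := by
  rw [← G.map_comp]
  rfl

include H in
theorem killed : ∀ n, Formal.smulMod A (G.obj (op n)) (f ^ (n + 1)) = 0
  | 0 => by
    haveI := (H.short 0).epi_g
    rw [zero_add, pow_one, ← cancel_epi (pS G (0 + 1)), ← smulMod_naturality, ← H.fac 0, Category.assoc,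
      H.zero, comp_zero]
  | n + 1 => by
    rw [pow_succ, smulMod_mul, ← H.fac n, Category.assoc, ← smulMod_naturality (i n), killed n,
      zero_comp, comp_zero]

include H in
theorem epi_tS : ∀ n, Epi (tS G n)
  | 0 => (H.short 0).epi_g
  | n + 1 => by
    haveI := epi_tS n
    let q := cokernel.π (tS G (n + 1))
    let r := cokernel.π (Formal.smulMod A (cokernel (tS G (n + 1))) f)
    have h1 : i n ≫ q ≫ r = 0 := by
      rw [← cancel_epi (tS G n), reassoc_of% (H.fac n), comp_zero, reassoc_of% (smulMod_naturality q f),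
        show Formal.smulMod A (cokernel (tS G (n + 1))) f ≫ r = 0 from cokernel.condition _, comp_zero]
    haveI := (H.short n).epi_g
    obtain ⟨g, hg⟩ : ∃ g, pS G (n + 1) ≫ g = q ≫ r :=
      ⟨(H.short n).gIsCokernel.desc (CokernelCofork.ofπ (q ≫ r) h1),
        (H.short n).gIsCokernel.fac (CokernelCofork.ofπ (q ≫ r) h1) WalkingParallelPair.one⟩
    haveI := (H.short (n + 1)).epi_g
    have hg0 : g = 0 := by
      rw [← cancel_epi (pS G (n + 1 + 1)), comp_zero, ← tS_pS, Category.assoc, hg,
        show tS G (n + 1) ≫ q ≫ r = 0 by rw [← Category.assoc, cokernel.condition, zero_comp]]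
    have hr : r = 0 := by
      rw [← cancel_epi q, comp_zero, ← hg, hg0, comp_zero]
    haveI : Epi (Formal.smulMod A (cokernel (tS G (n + 1))) f) :=
      Preadditive.epi_of_cokernel_zero hr
    have hpow : ∀ k, Epi (Formal.smulMod A (cokernel (tS G (n + 1))) (f ^ k)) := fun k => by
      induction k with
      | zero => rw [pow_zero, smulMod_one]; infer_instance
      | succ k ih => rw [pow_succ, smulMod_mul]; exact epi_comp _ _
    refine Preadditive.epi_of_cokernel_zero ?_
    haveI := hpow (n + 2)
    change q = 0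
    refine (Category.comp_id q).symm.trans ?_
    have h2 : q ≫ Formal.smulMod A (cokernel (tS G (n + 1))) (f ^ (n + 2)) = 0 := by
      rw [← smulMod_naturality, killed H (n + 1), zero_comp]
    have h3 : Formal.smulMod A (cokernel (tS G (n + 1))) (f ^ (n + 2)) = 0 := by
      rw [← cancel_epi q, h2, comp_zero]
    rw [(cancel_epi (Formal.smulMod A (cokernel (tS G (n + 1))) (f ^ (n + 2)))).1
      (show Formal.smulMod A (cokernel (tS G (n + 1))) (f ^ (n + 2)) ≫ 𝟙 (cokernel (tS G (n + 1))) =
        Formal.smulMod A (cokernel (tS G (n + 1))) (f ^ (n + 2)) ≫ 0 by rw [h3, zero_comp, zero_comp]),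
      comp_zero]

include H in
theorem i_tS (n : ℕ) : i (n + 1) ≫ tS G (n + 1) = tS G n ≫ i n := by
  haveI := epi_tS H (n + 1)
  rw [← cancel_epi (tS G (n + 1)), reassoc_of% (H.fac (n + 1)), smulMod_naturality, H.fac n]

section sections

variable (U : X.Opens)

/-- Sections over an open. -/
noncomputable abbrev evF : SheafOfModules.{u} (ModSite.ringSh X.sheaf) ⥤ Type u :=
  SheafOfModules.evaluation (ModSite.ringSh X.sheaf) (op U) ⋙ CategoryTheory.forget (ModuleCat _)

/-- The system, as a system of sheaves of modules. -/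
abbrev sys (G : ℕᵒᵖ ⥤ X.Modules) : ℕᵒᵖ ⥤ SheafOfModules.{u} (ModSite.ringSh X.sheaf) := G

theorem app_zero' {M N : X.Modules} (x : Γ(M, U)) : (0 : M ⟶ N).app U x = 0 := rfl

theorem app_comp' {M N P : X.Modules} (φ : M ⟶ N) (ψ : N ⟶ P) (x : Γ(M, U)) :
    (φ ≫ ψ).app U x = ψ.app U (φ.app U x) := rfl

theorem app_injective' {M N : X.Modules} (φ : M ⟶ N) [Mono φ] : Function.Injective (φ.app U) :=
  FMod90.injective_of_mono (O := X.sheaf) φ U

theorem π_tS (n : ℕ) : limit.π G (op (n + 1)) ≫ tS G n = limit.π G (op n) := limit.w G _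

theorem lim_ext' {x y : Γ(limit G, U)}
    (h : ∀ n : ℕ, (limit.π G (op n)).app U x = (limit.π G (op n)).app U y) : x = y :=
  eq_of_proj (sys G) (evF U) h

theorem exists_lim' (y : ∀ n : ℕ, Γ(G.obj (op n), U)) (hy : ∀ n, (tS G n).app U (y (n + 1)) = y n) :
    ∃ x : Γ(limit G, U), ∀ n : ℕ, (limit.π G (op n)).app U x = y n :=
  exists_proj (sys G) (evF U) y hy

include H in
theorem app_π_surjective (hU : IsAffineOpen U) (n : ℕ) : Function.Surjective ((limit.π G (op n)).app U) := by
  intro y
  have hs : ∀ m, ∃ s : Γ(G.obj (op m), U) → Γ(G.obj (op (m + 1)), U), ∀ z, (tS G m).app U (s z) = z := fun m =>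
    haveI := epi_tS H m
    ⟨_, Function.surjInv_eq (QCoh.app_surjective_of_epi (H.qcoh (m + 1)) (H.qcoh m) (tS G m) hU)⟩
  choose s hs using hs
  let up : ∀ k, Γ(G.obj (op (n + k)), U) := fun k => Nat.rec y (fun j z => s (n + j) z) k
  let z : ∀ m : ℕ, Γ(G.obj (op m), U) := fun m =>
    (G.map (homOfLE (show m ≤ n + m by omega)).op).app U (up m)
  obtain ⟨x, hx⟩ := exists_lim' U z fun m => by
    change (tS G m).app U ((G.map _).app U (up (m + 1))) = (G.map _).app U (up m)
    rw [← app_comp', ← G.map_comp, show up m = (tS G (n + m)).app U (up (m + 1)) from (hs (n + m) (up m)).symm,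
      ← app_comp', ← G.map_comp]
    rfl
  refine ⟨x, (hx n).trans ?_⟩
  have hk : ∀ k, (G.map (homOfLE (show n ≤ n + k by omega)).op).app U (up k) = y := fun k => by
    induction k with
    | zero =>
      exact congrArg (fun φ => Scheme.Modules.Hom.app φ U y) (G.map_id (op n))
    | succ k ih =>
      refine Eq.trans ?_ ih
      rw [show up k = (tS G (n + k)).app U (up (k + 1)) from (hs (n + k) (up k)).symm, ← app_comp', ← G.map_comp]
      rfl
  exact hk n

include H in
theorem exists_smul_eq (hU : IsAffineOpen U) : ∀ (n : ℕ) (x : Γ(limit G, U)),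
    (limit.π G (op n)).app U x = 0 → ∃ y, (Formal.smulMod A (limit G) (f ^ (n + 1))).app U y = x := by
  have hnat : ∀ (m : ℕ) (a : A) (y : Γ(limit G, U)),
      (limit.π G (op m)).app U ((Formal.smulMod A (limit G) a).app U y) =
        (Formal.smulMod A (G.obj (op m)) a).app U ((limit.π G (op m)).app U y) := fun m a y => by
    rw [← app_comp', ← app_comp', smulMod_naturality]
  have hsucc : ∀ (m : ℕ) (y : Γ(limit G, U)),
      (limit.π G (op (m + 1))).app U ((Formal.smulMod A (limit G) f).app U y) =
        (i m).app U ((limit.π G (op m)).app U y) := fun m y => by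
    rw [hnat, ← H.fac m, app_comp', ← app_comp' U (limit.π G (op (m + 1))), π_tS]
  have h0 : ∀ x : Γ(limit G, U), (limit.π G (op 0)).app U x = 0 →
      ∃ y, (Formal.smulMod A (limit G) f).app U y = x := fun x hx => by
    have hz : ∀ m, ∃ z, (i m).app U z = (limit.π G (op (m + 1))).app U x := fun m => by
      haveI := (H.short m).mono_f
      obtain ⟨t, ht⟩ := FMod90.exists_kernel_lift (O := X.sheaf) (pS G (m + 1))
        ((limit.π G (op (m + 1))).app U x) (by
          change (pS G (m + 1)).app U ((limit.π G (op (m + 1))).app U x) = 0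
          rw [← app_comp', limit.w]
          exact hx)
      let φ := (IsLimit.conePointUniqueUpToIso (H.short m).fIsKernel (kernelIsKernel (pS G (m + 1)))).inv
      have hφ : φ ≫ i m = kernel.ι (pS G (m + 1)) :=
        IsLimit.conePointUniqueUpToIso_inv_comp (H.short m).fIsKernel (kernelIsKernel (pS G (m + 1)))
          WalkingParallelPair.zero
      refine ⟨φ.app U t, Eq.trans ?_ ht⟩
      exact congrArg (fun ψ => Scheme.Modules.Hom.app ψ U t) hφ
    choose z hz using hz
    obtain ⟨y, hy⟩ := exists_lim' U z fun m => by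
      haveI := H.mono m
      refine app_injective' U (i m) ?_
      rw [← app_comp', ← i_tS H m, app_comp', hz, hz, ← app_comp', π_tS]
    refine ⟨y, lim_ext' U fun m => ?_⟩
    rcases m with _ | m
    · rw [hnat, hx]
      have := killed H 0
      rw [zero_add, pow_one] at this
      rw [this, app_zero']
    · rw [hsucc, hy, hz]
  intro n
  induction n with
  | zero => simpa using h0
  | succ n ih =>
    intro x hx
    obtain ⟨y, rfl⟩ := h0 x (by
      rw [← limit.w G (homOfLE (Nat.zero_le (n + 1))).op, app_comp', hx]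
      exact map_zero _)
    obtain ⟨w, rfl⟩ := ih y (by
      haveI := H.mono n
      refine app_injective' U (i n) ?_
      rw [← hsucc, hx]
      exact (map_zero _).symm)
    exact ⟨w, by rw [← app_comp', ← smulMod_mul, ← pow_succ']⟩

include H in
theorem mono_smul_limit : Mono (Formal.smulMod A (limit G) f) := by
  refine Preadditive.mono_of_cancel_zero _ fun {T} x hx => limit.hom_ext fun ⟨n⟩ => ?_
  haveI := H.mono n
  rw [← cancel_mono (i n), zero_comp, zero_comp, ← π_tS, Category.assoc, Category.assoc, H.fac n,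
    ← smulMod_naturality, reassoc_of% hx, zero_comp]

end sections

include H in
theorem epi_π_limit (n : ℕ) : Epi (limit.π G (op n)) :=
  FMod90.epi_of_isBasis (O := X.sheaf) _ (Scheme.isBasis_affineOpens X) fun V hV =>
    app_π_surjective H V hV n

include H in
/-- The quotients of the limit are the terms of the system. -/
theorem exists_completion_iso :
    Nonempty (Formal.completion (Ideal.span ({f} : Set A)) (limit G) ≅ G) := by
  have hzero : ∀ n, Formal.smulMod A (limit G) (f ^ (n + 1)) ≫ limit.π G (op n) = 0 := fun n => by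
    rw [smulMod_naturality, killed H n, comp_zero]
  have hex : ∀ n, (ShortComplex.mk _ _ (hzero n)).Exact := fun n =>
    FMod90.exact_of_isBasis (O := X.sheaf) _ (Scheme.isBasis_affineOpens X)
      fun V hV s hs => exists_smul_eq H V hV n s hs
  have hfam : ∀ n, Formal.smulFamily (Ideal.span ({f} : Set A) ^ (n + 1)) (limit G) ≫ limit.π G (op n) = 0 :=
    fun n => by
      refine Sigma.hom_ext _ _ fun a => ?_
      obtain ⟨c, hc⟩ := Ideal.mem_span_singleton'.1 (Ideal.span_singleton_pow f (n + 1) ▸ a.2 :
        (a : A) ∈ Ideal.span {f ^ (n + 1)})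
      rw [← Category.assoc, comp_zero, show Sigma.ι (fun _ : (Ideal.span ({f} : Set A) ^ (n + 1) : Ideal A) => limit G) a ≫
        Formal.smulFamily (Ideal.span ({f} : Set A) ^ (n + 1)) (limit G) = Formal.smulMod A (limit G) (a : A) from
          by simp [Formal.smulFamily], ← hc, smulMod_mul, Category.assoc,
        smulMod_naturality (limit.π G (op n)) c, reassoc_of% (hzero n), zero_comp]
  let η : ∀ n, Formal.modPow (Ideal.span ({f} : Set A)) (n + 1) (limit G) ⟶ G.obj (op n) := fun n =>
    cokernel.desc _ (limit.π G (op n)) (hfam n)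
  have hη : ∀ n, Formal.modPowπ (Ideal.span ({f} : Set A)) (n + 1) (limit G) ≫ η n = limit.π G (op n) :=
    fun n => cokernel.π_desc _ _ _
  have hiso : ∀ n, IsIso (η n) := fun n => by
    haveI := epi_π_limit H n
    haveI := epi_π f (limit G) (n + 1)
    haveI : Epi (η n) := epi_of_epi_fac (hη n)
    haveI : Mono (η n) := by
      refine Preadditive.mono_of_cancel_zero _ fun {T} z hz => ?_
      obtain ⟨T', π, hπ, x, hx⟩ :=
        surjective_up_to_refinements_of_epi (Formal.modPowπ (Ideal.span ({f} : Set A)) (n + 1) (limit G)) z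
      obtain ⟨T'', π', hπ', y, hy⟩ := (hex n).exact_up_to_refinements x (by
        change x ≫ limit.π G (op n) = 0
        rw [← hη, ← reassoc_of% hx, hz, comp_zero])
      rw [← cancel_epi π, ← cancel_epi π', hx, reassoc_of% hy, smulMod_comp_π f (limit G) (pow_mem' f (n + 1)),
        comp_zero, comp_zero, comp_zero]
    exact isIso_of_mono_of_epi _
  let N : Formal.completion (Ideal.span ({f} : Set A)) (limit G) ⟶ G :=
    NatTrans.ofOpSequence η fun n => by
      haveI := epi_π f (limit G) (n + 1 + 1)
      rw [show (Formal.completion (Ideal.span ({f} : Set A)) (limit G)).map (homOfLE (Nat.le_add_right n 1)).op =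
          Formal.modPowTrans (Ideal.span ({f} : Set A)) (n + 1) (limit G) from
          Functor.ofOpSequence_map_homOfLE_succ _ n,
        ← cancel_epi (Formal.modPowπ (Ideal.span ({f} : Set A)) (n + 1 + 1) (limit G)), ← Category.assoc,
        π_trans, hη, ← Category.assoc, hη]
      exact (π_tS (G := G) n).symm
  haveI : IsIso N := @NatIso.isIso_of_isIso_app _ _ _ _ _ _ _ fun ⟨n⟩ => hiso n
  exact ⟨asIso N⟩

end Groth.Agent.FMod90.Principal
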