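import Groth.Prelude.Def_Formal2
import Groth.Agent.FFun.Basic
import Mathlib.CategoryTheory.Abelian.Refinements

/-!
# Quotients by the powers of an element acting injectively
-/

set_option autoImplicit false
set_option backward.isDefEq.respectTransparency false
set_option backward.isDefEq.respectTransparency.types false

universe u

open CategoryTheory CategoryTheory.Limits AlgebraicGeometry

namespace Groth.Agent.FMod90.Principal

open Groth.Agent.FFun

variable {A : Type u} [CommRing A] {X : Scheme.{u}} [X.Over (Spec (CommRingCat.of A))] (f : A)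
  (F : X.Modules)

theorem smulMod_comp_π {n : ℕ} {a : A} (ha : a ∈ (Ideal.span ({f} : Set A)) ^ n) :
    Formal.smulMod A F a ≫ Formal.modPowπ (Ideal.span ({f} : Set A)) n F = 0 := by
  have h : Formal.smulMod A F a =
      Sigma.ι (fun _ : ((Ideal.span ({f} : Set A)) ^ n : Ideal A) => F) ⟨a, ha⟩ ≫ Formal.smulFamily ((Ideal.span ({f} : Set A)) ^ n) F := by
    simp [Formal.smulFamily]
  rw [h, Category.assoc, show Formal.smulFamily ((Ideal.span ({f} : Set A)) ^ n) F ≫ Formal.modPowπ (Ideal.span ({f} : Set A)) n F = 0 from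
    cokernel.condition _, comp_zero]

theorem epi_π (n : ℕ) : Epi (Formal.modPowπ (Ideal.span ({f} : Set A)) n F) := inferInstanceAs (Epi (cokernel.π _))

theorem pow_mem' (n : ℕ) : f ^ n ∈ (Ideal.span ({f} : Set A)) ^ n := Ideal.pow_mem_pow (Ideal.mem_span_singleton_self f) n

theorem exact_π (n : ℕ) :
    (ShortComplex.mk (Formal.smulMod A F (f ^ n)) (Formal.modPowπ (Ideal.span ({f} : Set A)) n F)
      (smulMod_comp_π f F (pow_mem' f n))).Exact := by
  have hfam : ∀ {T : X.Modules} (g : F ⟶ T), Formal.smulMod A F (f ^ n) ≫ g = 0 →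
      Formal.smulFamily ((Ideal.span ({f} : Set A)) ^ n) F ≫ g = 0 := fun g hg => by
    refine Sigma.hom_ext _ _ fun a => ?_
    obtain ⟨c, hc⟩ := Ideal.mem_span_singleton'.1 (Ideal.span_singleton_pow f n ▸ a.2 :
      (a : A) ∈ Ideal.span {f ^ n})
    rw [← Category.assoc, comp_zero, show Sigma.ι (fun _ : ((Ideal.span ({f} : Set A)) ^ n : Ideal A) => F) a ≫
      Formal.smulFamily ((Ideal.span ({f} : Set A)) ^ n) F = Formal.smulMod A F (a : A) from by simp [Formal.smulFamily],
      ← hc, smulMod_mul, Category.assoc, smulMod_naturality g c, reassoc_of% hg, zero_comp]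
  refine ShortComplex.exact_of_g_is_cokernel _ (CokernelCofork.IsColimit.ofπ _ _
    (fun g hg => cokernel.desc _ g (hfam g hg)) (fun g hg => cokernel.π_desc _ _ _) fun g hg m hm => ?_)
  exact (cancel_epi (cokernel.π (Formal.smulFamily ((Ideal.span ({f} : Set A)) ^ n) F))).1 (hm.trans (cokernel.π_desc _ _ _).symm)

variable {f F}

theorem mono_pow (hF : Mono (Formal.smulMod A F f)) : ∀ n, Mono (Formal.smulMod A F (f ^ n))
  | 0 => by rw [pow_zero, smulMod_one]; infer_instance
  | n + 1 => by
    haveI := mono_pow hF n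
    rw [pow_succ, smulMod_mul]
    infer_instance

variable (f F) in
/-- Multiplication by a power of `f`, on the quotients. -/
noncomputable def inc (n : ℕ) : Formal.modPow (Ideal.span ({f} : Set A)) 1 F ⟶ Formal.modPow (Ideal.span ({f} : Set A)) (n + 1) F :=
  cokernel.desc _ (Formal.smulMod A F (f ^ n) ≫ Formal.modPowπ (Ideal.span ({f} : Set A)) (n + 1) F) (by
    refine Sigma.hom_ext _ _ fun a => ?_
    rw [← Category.assoc, comp_zero, show Sigma.ι (fun _ : ((Ideal.span ({f} : Set A)) ^ 1 : Ideal A) => F) a ≫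
      Formal.smulFamily ((Ideal.span ({f} : Set A)) ^ 1) F = Formal.smulMod A F (a : A) from by simp [Formal.smulFamily],
      ← Category.assoc, ← smulMod_mul]
    refine smulMod_comp_π f F ?_
    rw [pow_succ (Ideal.span ({f} : Set A)) n]
    exact Ideal.mul_mem_mul (pow_mem' f n) (by simpa using a.2))

theorem π_inc (n : ℕ) : Formal.modPowπ (Ideal.span ({f} : Set A)) 1 F ≫ inc f F n =
    Formal.smulMod A F (f ^ n) ≫ Formal.modPowπ (Ideal.span ({f} : Set A)) (n + 1) F := cokernel.π_desc _ _ _

theorem π_trans (n : ℕ) :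
    Formal.modPowπ (Ideal.span ({f} : Set A)) (n + 1) F ≫ Formal.modPowTrans (Ideal.span ({f} : Set A)) n F = Formal.modPowπ (Ideal.span ({f} : Set A)) n F := cokernel.π_desc _ _ _

theorem modPowLE_inc (n : ℕ) :
    Formal2.modPowLE (Ideal.span ({f} : Set A)) (Nat.le_add_left 1 n) F ≫ inc f F n =
      Formal.smulMod A (Formal.modPow (Ideal.span ({f} : Set A)) (n + 1) F) (f ^ n) := by
  haveI := epi_π f F (n + 1)
  rw [← cancel_epi (Formal.modPowπ (Ideal.span ({f} : Set A)) (n + 1) F), ← Category.assoc, Formal2.modPowπ_modPowLE, π_inc]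
  exact smulMod_naturality _ _

theorem inc_trans (n : ℕ) : inc f F n ≫ Formal.modPowTrans (Ideal.span ({f} : Set A)) n F = 0 := by
  haveI := epi_π f F 1
  rw [← cancel_epi (Formal.modPowπ (Ideal.span ({f} : Set A)) 1 F), ← Category.assoc, π_inc, Category.assoc, π_trans,
    smulMod_comp_π f F (pow_mem' f n), comp_zero]

theorem mono_inc (hF : Mono (Formal.smulMod A F f)) (n : ℕ) : Mono (inc f F n) := by
  refine Preadditive.mono_of_cancel_zero _ fun {T} z hz => ?_
  haveI := epi_π f F 1
  obtain ⟨T', π, hπ, x, hx⟩ := surjective_up_to_refinements_of_epi (Formal.modPowπ (Ideal.span ({f} : Set A)) 1 F) z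
  have h1 : (x ≫ Formal.smulMod A F (f ^ n)) ≫ Formal.modPowπ (Ideal.span ({f} : Set A)) (n + 1) F = 0 := by
    rw [Category.assoc, ← π_inc, ← reassoc_of% hx, hz, comp_zero]
  obtain ⟨T'', π', hπ', y, hy⟩ := (exact_π f F (n + 1)).exact_up_to_refinements _ h1
  haveI := mono_pow hF n
  have h2 : π' ≫ x = y ≫ Formal.smulMod A F f := by
    rw [← cancel_mono (Formal.smulMod A F (f ^ n)), Category.assoc, hy, Category.assoc, ← smulMod_mul]
    dsimp only
    rw [← pow_succ]
  rw [← cancel_epi π, ← cancel_epi π', hx, ← Category.assoc, h2, Category.assoc, comp_zero, comp_zero,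
    smulMod_comp_π f F (show f ∈ (Ideal.span ({f} : Set A)) ^ 1 by rw [pow_one]; exact Ideal.mem_span_singleton_self f), comp_zero]

theorem shortExact_inc (hF : Mono (Formal.smulMod A F f)) (n : ℕ) :
    (ShortComplex.mk (inc f F n) (Formal.modPowTrans (Ideal.span ({f} : Set A)) n F) (inc_trans n)).ShortExact where
  exact := by
    rw [ShortComplex.exact_iff_exact_up_to_refinements]
    intro T z hz
    haveI := epi_π f F (n + 1)
    obtain ⟨T', π, hπ, x, hx⟩ := surjective_up_to_refinements_of_epi (Formal.modPowπ (Ideal.span ({f} : Set A)) (n + 1) F) z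
    have h1 : x ≫ Formal.modPowπ (Ideal.span ({f} : Set A)) n F = 0 := by
      rw [← π_trans, ← reassoc_of% hx]
      exact (congrArg (π ≫ ·) hz).trans comp_zero
    obtain ⟨T'', π', hπ', y, hy⟩ := (exact_π f F n).exact_up_to_refinements x h1
    refine ⟨T'', π' ≫ π, epi_comp _ _, y ≫ Formal.modPowπ (Ideal.span ({f} : Set A)) 1 F, ?_⟩
    dsimp only
    rw [Category.assoc, Category.assoc, π_inc, hx, reassoc_of% hy]
  mono_f := mono_inc hF n
  epi_g := by
    haveI := epi_π f F n
    exact epi_of_epi_fac (π_trans (f := f) (F := F) n)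

end Groth.Agent.FMod90.Principal
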