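import Groth.Agent.FMod90.Levels
import Groth.Agent.FMod90.Pres
import Groth.Agent.QCoh.Local
import Groth.Agent.QCoh.Support
import Mathlib.Algebra.Category.ModuleCat.Sheaf.LocallyFree

/-!
# Inverse images of coherent modules to the levels of a formal scheme are coherent

If sections `s` and relations `r` present a module `𝔉` over an open `U` of a formal scheme, then the
restriction of `u_k^* 𝔉` to the open of the `k`-th level over `U` is the cokernel of the reduced relations.
-/

set_option autoImplicit false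
set_option backward.isDefEq.respectTransparency false
set_option backward.isDefEq.respectTransparency.types false

universe u

open CategoryTheory CategoryTheory.Limits AlgebraicGeometry TopologicalSpace Opposite

namespace Groth.Agent.FMod90

variable {X : Scheme.{u}}

/-- Restriction along an equality of opens is bijective. -/
theorem bijective_map_of_eq (M : X.Modules) {A B : X.Opens} (e : A = B) (le : A ≤ B) :
    Function.Bijective (M.presheaf.map (homOfLE le).op) := by
  subst e
  rw [show (homOfLE le).op = 𝟙 _ from rfl, CategoryTheory.Functor.map_id]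
  exact Function.bijective_id

theorem map_map_self (M : X.Modules) {A B : X.Opens} (i : op A ⟶ op B) (j : op B ⟶ op A) (x : Γ(M, A)) :
    M.presheaf.map j (M.presheaf.map i x) = x := by
  change (M.presheaf.map i ≫ M.presheaf.map j) x = x
  rw [← Functor.map_comp, Subsingleton.elim (i ≫ j) (𝟙 _), CategoryTheory.Functor.map_id]
  rfl

theorem map_map (M : X.Modules) {A B C : X.Opens} (i : op A ⟶ op B) (j : op B ⟶ op C) (k : op A ⟶ op C)
    (x : Γ(M, A)) : M.presheaf.map j (M.presheaf.map i x) = M.presheaf.map k x := by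
  change (M.presheaf.map i ≫ M.presheaf.map j) x = _
  rw [← Functor.map_comp, Subsingleton.elim (i ≫ j) k]

/-- Compatibility of the maps on sections with restriction. -/
theorem app_map {M N : X.Modules} (φ : M ⟶ N) {A B : X.Opens} (i : op A ⟶ op B) (x : Γ(M, A)) :
    φ.app B (M.presheaf.map i x) = N.presheaf.map i (φ.app A x) :=
  PresheafOfModules.naturality_apply φ.val i x

variable (V : X.Opens) {n m : ℕ}

/-- The image of an open of `V` is contained in `V`. -/
theorem image_le (Y : (V : Scheme.{u}).Opens) : V.ι ''ᵁ Y ≤ V := by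
  rintro _ ⟨y, -, rfl⟩
  exact y.2

/-- Restriction of a function on `V` to an open of the open subscheme. -/
noncomputable def subFun (a : Γ(X, V)) (Y : (V : Scheme.{u}).Opens) : Γ((V : Scheme.{u}), Y) :=
  X.presheaf.map (homOfLE (image_le V Y)).op a

theorem map_subFun (a : Γ(X, V)) {Y Y' : (V : Scheme.{u}).Opens} (i : op Y ⟶ op Y') :
    (V : Scheme.{u}).presheaf.map i (subFun V a Y) = subFun V a Y' := by
  rw [Scheme.Opens.toScheme_presheaf_map]
  change (X.presheaf.map _ ≫ X.presheaf.map _) a = _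
  rw [← Functor.map_comp]
  rfl

/-- The morphism of free modules on an open subscheme given by coefficient vectors. -/
noncomputable def subRel (a : Fin m → Fin n → Γ(X, V)) :
    (SheafOfModules.free (ULift.{u} (Fin m)) : ModSite.Mod (V : Scheme.{u}).sheaf) ⟶
      SheafOfModules.free (ULift.{u} (Fin n)) :=
  SheafOfModules.freeHomEquiv _ |>.symm fun l =>
    PresheafOfModules.sectionsMk
      (fun Y => ∑ i, (subFun V (a l.down i.down) Y.unop : Site.Scal (V : Scheme.{u}).sheaf Y.unop) •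
        Site.basisSec i Y.unop)
      fun Y Y' f => by
        refine (map_sum (Site.mapS _ f.unop) _ _).trans (Finset.sum_congr rfl fun i _ => ?_)
        rw [Site.map_smul_sect, Site.map_basisSec]
        congr 1
        exact map_subFun V _ f

theorem app_subRel_basisSec (a : Fin m → Fin n → Γ(X, V)) (l : ULift.{u} (Fin m))
    (Y : (V : Scheme.{u}).Opens) :
    Site.app (subRel V a) Y (Site.basisSec (O := (V : Scheme.{u}).sheaf) l Y) =
      ∑ i, (subFun V (a l.down i.down) Y : Site.Scal (V : Scheme.{u}).sheaf Y) •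
        Site.basisSec (O := (V : Scheme.{u}).sheaf) i Y := by
  rw [Site.app_basisSec, subRel, Equiv.apply_symm_apply]
  rfl

/-- The cokernel on an open subscheme of coefficient vectors. -/
noncomputable def subCoker (a : Fin m → Fin n → Γ(X, V)) : (V : Scheme.{u}).Modules :=
  cokernel (subRel V a)

/-- The projection to the cokernel. -/
noncomputable def subπ (a : Fin m → Fin n → Γ(X, V)) :
    (SheafOfModules.free (ULift.{u} (Fin n)) : ModSite.Mod (V : Scheme.{u}).sheaf) ⟶ subCoker V a :=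
  cokernel.π (subRel V a)

theorem subRel_subπ (a : Fin m → Fin n → Γ(X, V)) : subRel V a ≫ subπ V a = 0 :=
  cokernel.condition _

/-- The tautological sections of the cokernel. -/
noncomputable def cokerSec (a : Fin m → Fin n → Γ(X, V)) (i : Fin n) (Y : (V : Scheme.{u}).Opens) :
    Γ(subCoker V a, Y) :=
  Site.app (subπ V a) Y (Site.basisSec (O := (V : Scheme.{u}).sheaf) (⟨i⟩ : ULift.{u} (Fin n)) Y)

theorem map_cokerSec (a : Fin m → Fin n → Γ(X, V)) (i : Fin n) {Y Y' : (V : Scheme.{u}).Opens}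
    (le : Y' ≤ Y) : (subCoker V a).presheaf.map (homOfLE le).op (cokerSec V a i Y) = cokerSec V a i Y' :=
  (Site.map_app (subπ V a) (homOfLE le) _).trans
    (congrArg (Site.app (subπ V a) Y') (Site.map_basisSec _ (homOfLE le)))

theorem cokerSec_rel (a : Fin m → Fin n → Γ(X, V)) (l : Fin m) (Y : (V : Scheme.{u}).Opens) :
    ∑ i, subFun V (a l i) Y • cokerSec V a i Y = 0 := by
  have h1 : Site.app (subπ V a) Y (Site.app (subRel V a) Y
      (Site.basisSec (O := (V : Scheme.{u}).sheaf) (⟨l⟩ : ULift.{u} (Fin m)) Y)) = 0 := by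
    rw [← Site.app_comp, subRel_subπ, Site.app_zero]
  rw [app_subRel_basisSec, map_sum] at h1
  simp only [map_smul] at h1
  exact (Equiv.ulift.sum_comp (fun i => subFun V (a l i) Y • cokerSec V a i Y)).symm.trans h1

/-- A morphism out of a finite free module on an open subscheme, by sections. -/
theorem freeHom_ext {N : ModSite.Mod (V : Scheme.{u}).sheaf}
    {φ ψ : (SheafOfModules.free (ULift.{u} (Fin n)) : ModSite.Mod (V : Scheme.{u}).sheaf) ⟶ N}
    (h : ∀ (i : ULift.{u} (Fin n)) (Y : (V : Scheme.{u}).Opens),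
      Site.app φ Y (Site.basisSec (O := (V : Scheme.{u}).sheaf) i Y) =
        Site.app ψ Y (Site.basisSec (O := (V : Scheme.{u}).sheaf) i Y)) : φ = ψ := by
  apply (SheafOfModules.freeHomEquiv _).injective
  funext i
  apply PresheafOfModules.sections_ext
  intro Y
  exact h i Y.unop

/-- Morphisms out of the cokernel are determined by the tautological sections. -/
theorem subCoker_hom_ext (a : Fin m → Fin n → Γ(X, V)) {N : (V : Scheme.{u}).Modules}
    {φ ψ : subCoker V a ⟶ N} (h : ∀ i Y, φ.app Y (cokerSec V a i Y) = ψ.app Y (cokerSec V a i Y)) :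
    φ = ψ := by
  apply coequalizer.hom_ext
  exact freeHom_ext V fun i Y => h i.down Y

theorem exists_subCoker_desc (a : Fin m → Fin n → Γ(X, V)) (N : (V : Scheme.{u}).Modules)
    (t : Fin n → ∀ Y : (V : Scheme.{u}).Opens, Γ(N, Y))
    (hcomp : ∀ i {Y Y' : (V : Scheme.{u}).Opens} (f : op Y ⟶ op Y'), N.presheaf.map f (t i Y) = t i Y')
    (ht : ∀ l Y, ∑ i, subFun V (a l i) Y • t i Y = 0) :
    ∃ g : subCoker V a ⟶ N, ∀ i Y, g.app Y (cokerSec V a i Y) = t i Y := by
  let g₀ : (SheafOfModules.free (ULift.{u} (Fin n)) : ModSite.Mod (V : Scheme.{u}).sheaf) ⟶ N :=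
    SheafOfModules.freeHomEquiv _ |>.symm fun i =>
      PresheafOfModules.sectionsMk (fun Y => t i.down Y.unop) fun Y Y' f => hcomp i.down f
  have hg₀ : ∀ (i : ULift.{u} (Fin n)) (Y : (V : Scheme.{u}).Opens),
      Site.app g₀ Y (Site.basisSec (O := (V : Scheme.{u}).sheaf) i Y) = t i.down Y := fun i Y => by
    rw [Site.app_basisSec]
    simp only [g₀, Equiv.apply_symm_apply]
    rfl
  have hfg : subRel V a ≫ g₀ = 0 := freeHom_ext V fun l Y => by
    rw [Site.app_comp, app_subRel_basisSec, map_sum, Site.app_zero]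
    simp only [map_smul, hg₀]
    exact (Equiv.ulift.sum_comp (fun i => subFun V (a l.down i) Y • t i Y)).trans (ht l.down Y)
  refine ⟨cokernel.desc (subRel V a) g₀ hfg, fun i Y => ?_⟩
  refine Eq.trans ?_ (hg₀ ⟨i⟩ Y)
  exact congrArg (fun f => Site.app f Y (Site.basisSec (O := (V : Scheme.{u}).sheaf)
    (⟨i⟩ : ULift.{u} (Fin n)) Y)) (cokernel.π_desc (subRel V a) g₀ hfg)

theorem exists_presentation_subCoker (a : Fin m → Fin n → Γ(X, V)) :
    ∃ P : (subCoker V a).Presentation, P.IsFinite := by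
  let P₀ := SheafOfModules.presentationOfIsCokernelFree.{u, u, u}
    (subRel V a) (subπ V a) (subRel_subπ V a) (cokernelIsCokernel _)
  exact ⟨P₀, { isFiniteType_generators := ⟨inferInstanceAs (Finite (ULift.{u} (Fin n)))⟩
               isFiniteType_relations := ⟨inferInstanceAs (Finite (ULift.{u} (Fin m)))⟩ }⟩

/-- Relations between sections on an open persist on its opens, seen in the open subscheme. -/
theorem sum_subFun_smul_eq_zero (M : X.Modules) (a : Fin m → Fin n → Γ(X, V))
    (t : Fin n → Γ(M, V)) (ht : ∀ l, ∑ i, a l i • t i = 0) (l : Fin m) (Y : (V : Scheme.{u}).Opens) :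
    ∑ i, subFun V (a l i) Y •
      (show Γ(M.restrict V.ι, Y) from M.presheaf.map (homOfLE (image_le V Y)).op (t i)) = 0 := by
  have h2 := congrArg (M.presheaf.map (homOfLE (image_le V Y)).op) (ht l)
  rw [map_zero, map_sum] at h2
  refine Eq.trans (Finset.sum_congr rfl fun i _ => ?_) h2
  refine Eq.trans ?_ (Scheme.Modules.map_smul M _ _ _).symm
  change ((V.ι.appIso Y).inv (subFun V (a l i) Y)) • M.presheaf.map (homOfLE (image_le V Y)).op (t i) = _
  rw [Scheme.Opens.ι_appIso]
  rfl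

/-- A module with the universal property of a cokernel of a map of free modules on an open is
isomorphic to this cokernel there. -/
theorem exists_iso_of_univ (M : X.Modules) (a : Fin m → Fin n → Γ(X, V))
    (t : Fin n → Γ(M, V)) (ht : ∀ l, ∑ i, a l i • t i = 0)
    (hex : ∀ (N : (V : Scheme.{u}).Modules) (t' : Fin n → Γ(N, V.ι ⁻¹ᵁ V)),
      (∀ l, ∑ i, subFun V (a l i) (V.ι ⁻¹ᵁ V) • t' i = 0) →
      ∃ e : M.restrict V.ι ⟶ N, ∀ i,
        e.app (V.ι ⁻¹ᵁ V) (M.presheaf.map (homOfLE (image_le V _)).op (t i)) = t' i)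
    (huniq : ∀ (N : (V : Scheme.{u}).Modules) (e e' : M.restrict V.ι ⟶ N),
      (∀ i, e.app (V.ι ⁻¹ᵁ V) (M.presheaf.map (homOfLE (image_le V _)).op (t i)) =
        e'.app (V.ι ⁻¹ᵁ V) (M.presheaf.map (homOfLE (image_le V _)).op (t i))) → e = e') :
    ∃ g : subCoker V a ⟶ M.restrict V.ι, IsIso g ∧ ∀ i Y,
      g.app Y (cokerSec V a i Y) = M.presheaf.map (homOfLE (image_le V Y)).op (t i) := by
  obtain ⟨e, he⟩ := hex (subCoker V a) (fun i => cokerSec V a i _) fun l => cokerSec_rel V a l _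
  obtain ⟨g, hg⟩ := exists_subCoker_desc V a (M.restrict V.ι)
    (fun i Y => M.presheaf.map (homOfLE (image_le V Y)).op (t i)) (fun i _ _ f => map_map M _ _ _ _)
    (fun l Y => sum_subFun_smul_eq_zero V M a t ht l Y)
  have het : ∀ (Y : (V : Scheme.{u}).Opens) (i : Fin n),
      e.app Y (M.presheaf.map (homOfLE (image_le V Y)).op (t i)) = cokerSec V a i Y := fun Y i => by
    have hY : Y ≤ V.ι ⁻¹ᵁ V := fun y _ => y.2
    rw [← map_cokerSec V a i hY, ← he i, ← app_map e (homOfLE hY).op]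
    exact congrArg (e.app Y) (map_map M _ _ _ _).symm
  have hge : g ≫ e = 𝟙 (subCoker V a) := subCoker_hom_ext V a fun i Y => by
    change e.app Y (g.app Y (cokerSec V a i Y)) = cokerSec V a i Y
    rw [hg]
    exact het Y i
  have heg : e ≫ g = 𝟙 (M.restrict V.ι) := huniq _ _ _ fun i => by
    change g.app _ (e.app _ (M.presheaf.map (homOfLE (image_le V (V.ι ⁻¹ᵁ V))).op (t i))) = _
    rw [het, hg]
    rfl
  exact ⟨g, ⟨e, hge, heg⟩, hg⟩

/-- Functions on `V` and functions on the whole of the open subscheme. -/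
theorem bijective_subFun_top : Function.Bijective fun c : Γ(X, V) => subFun V c (V.ι ⁻¹ᵁ V) := by
  have e : V.ι ''ᵁ (V.ι ⁻¹ᵁ V) = V := by simp
  have : ∀ (A : X.Opens) (le : A ≤ V), A = V → Function.Bijective (X.presheaf.map (homOfLE le).op) := by
    rintro A le rfl
    rw [show (homOfLE le).op = 𝟙 _ from rfl, CategoryTheory.Functor.map_id]
    exact Function.bijective_id
  exact this _ _ e

/-- Restriction of a combination to the open subscheme. -/
theorem map_sum_smul (M : X.Modules) (c : Fin n → Γ(X, V)) (t : Fin n → Γ(M, V))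
    (Y : (V : Scheme.{u}).Opens) :
    (show Γ(M.restrict V.ι, Y) from M.presheaf.map (homOfLE (image_le V Y)).op (∑ i, c i • t i)) =
      ∑ i, subFun V (c i) Y •
        (show Γ(M.restrict V.ι, Y) from M.presheaf.map (homOfLE (image_le V Y)).op (t i)) := by
  refine (map_sum (M.presheaf.map (homOfLE (image_le V Y)).op).hom _ _).trans
    (Finset.sum_congr rfl fun i _ => ?_)
  refine (Scheme.Modules.map_smul M _ _ _).trans ?_
  change _ = ((V.ι.appIso Y).inv (subFun V (c i) Y)) • M.presheaf.map (homOfLE (image_le V Y)).op (t i)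
  rw [Scheme.Opens.ι_appIso]
  rfl

theorem isQCoh_free (ι : Type u) :
    Coh.IsQCoh (X := (V : Scheme.{u})) (SheafOfModules.free (R := (V : Scheme.{u}).ringCatSheaf) ι) :=
  (inferInstance : (SheafOfModules.free (R := (V : Scheme.{u}).ringCatSheaf) ι).IsQuasicoherent)

theorem isQCoh_subCoker (a : Fin m → Fin n → Γ(X, V)) : Coh.IsQCoh (subCoker V a) := by
  obtain ⟨P, -⟩ := exists_presentation_subCoker V a
  exact P.isQuasicoherent

/-- Sections of the cokernel over an affine open: generators. -/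
theorem exists_coker_coeff (hV : IsAffineOpen V) (a : Fin m → Fin n → Γ(X, V))
    (z : Γ(subCoker V a, V.ι ⁻¹ᵁ V)) :
    ∃ c : Fin n → Γ(X, V), ∑ i, subFun V (c i) (V.ι ⁻¹ᵁ V) • cokerSec V a i _ = z := by
  haveI : IsAffine (V : Scheme.{u}) := hV
  have hY : IsAffineOpen (V.ι ⁻¹ᵁ V) := by rw [Scheme.Opens.ι_preimage_self]; exact isAffineOpen_top _
  have : Epi (subπ V a) := coequalizer.π_epi
  obtain ⟨w, hw⟩ := QCoh.app_surjective_of_epi (isQCoh_free V (ULift.{u} (Fin n)))
    (isQCoh_subCoker V a) (subπ V a) hY z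
  choose c hc using fun i : Fin n => (bijective_subFun_top V).2
    (Site.coeff (O := (V : Scheme.{u}).sheaf) (⟨i⟩ : ULift.{u} (Fin n)) (V.ι ⁻¹ᵁ V) w)
  refine ⟨c, Eq.trans ?_ hw⟩
  change _ = Site.app (subπ V a) (V.ι ⁻¹ᵁ V) w
  rw [Site.eq_sum (O := (V : Scheme.{u}).sheaf) (V.ι ⁻¹ᵁ V) w, map_sum]
  simp only [map_smul]
  refine Eq.trans ?_ (Equiv.ulift.symm.sum_comp _)
  exact Finset.sum_congr rfl fun i _ => congrArg (· • cokerSec V a i (V.ι ⁻¹ᵁ V)) (hc i)

/-- Sections of the cokernel over an affine open: relations. -/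
theorem exists_coker_rel (hV : IsAffineOpen V) (a : Fin m → Fin n → Γ(X, V)) (c : Fin n → Γ(X, V))
    (hc : ∑ i, subFun V (c i) (V.ι ⁻¹ᵁ V) • cokerSec V a i (V.ι ⁻¹ᵁ V) = 0) :
    ∃ d : Fin m → Γ(X, V), ∀ i, c i = ∑ l, d l * a l i := by
  haveI : IsAffine (V : Scheme.{u}) := hV
  have hY : IsAffineOpen (V.ι ⁻¹ᵁ V) := by rw [Scheme.Opens.ι_preimage_self]; exact isAffineOpen_top _
  let Y := V.ι ⁻¹ᵁ V
  let z : ModSite.sect (SheafOfModules.free (ULift.{u} (Fin n)) : ModSite.Mod (V : Scheme.{u}).sheaf) Y :=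
    ∑ i : ULift.{u} (Fin n), (subFun V (c i.down) Y : Site.Scal (V : Scheme.{u}).sheaf Y) •
      Site.basisSec i Y
  have hz : Site.app (subπ V a) Y z = 0 := by
    simp only [z, map_sum, map_smul]
    exact (Equiv.ulift.sum_comp fun i => subFun V (c i) Y • cokerSec V a i Y).trans hc
  obtain ⟨k, hk⟩ := Site.exists_kernel_lift (subπ V a) z hz
  obtain ⟨w, hw⟩ := QCoh.app_surjective_of_epi (isQCoh_free V (ULift.{u} (Fin m)))
    (QCoh.isQCoh_kernel (isQCoh_free V (ULift.{u} (Fin n))) (isQCoh_subCoker V a) (subπ V a))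
    (Abelian.factorThruImage (subRel V a)) hY k
  have hfac : Site.app (subRel V a) Y w = z := by
    rw [← hk, ← hw]
    exact (congrArg (fun f => Site.app f Y w) (Abelian.image.fac (subRel V a))).symm
  choose d hd using fun l : Fin m => (bijective_subFun_top V).2
    (Site.coeff (O := (V : Scheme.{u}).sheaf) (⟨l⟩ : ULift.{u} (Fin m)) Y w)
  refine ⟨d, fun i => (bijective_subFun_top V).1 ?_⟩
  have h1 := Site.app_proj_app (subRel V a) Y w (⟨i⟩ : ULift.{u} (Fin n))
  rw [hfac] at h1
  simp only [z, app_subRel_basisSec, Site.coeff, Site.app_proj_sum] at h1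
  refine h1.trans ?_
  refine (Equiv.ulift.symm.sum_comp _).symm.trans ?_
  change _ = X.presheaf.map _ _
  rw [map_sum]
  refine Finset.sum_congr rfl fun l _ => ?_
  rw [map_mul]
  exact congrArg (· * subFun V (a l i) Y) (hd l).symm

/-- Sections over an affine open of a module isomorphic there to a cokernel: generators. -/
theorem exists_coeff_of_iso (hV : IsAffineOpen V) (M : X.Modules) (a : Fin m → Fin n → Γ(X, V))
    (t : Fin n → Γ(M, V)) (g : subCoker V a ⟶ M.restrict V.ι) [IsIso g]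
    (hg : ∀ i Y, g.app Y (cokerSec V a i Y) = M.presheaf.map (homOfLE (image_le V Y)).op (t i))
    (y : Γ(M, V)) : ∃ c : Fin n → Γ(X, V), ∑ i, c i • t i = y := by
  have hb : Function.Bijective (g.app (V.ι ⁻¹ᵁ V)) := by
    have : IsIso (g.app (V.ι ⁻¹ᵁ V)) := Scheme.Modules.Hom.isIso_iff_isIso_app.mp inferInstance _
    exact ConcreteCategory.bijective_of_isIso _
  obtain ⟨z, hz⟩ := hb.2 (M.presheaf.map (homOfLE (image_le V (V.ι ⁻¹ᵁ V))).op y)
  obtain ⟨c, rfl⟩ := exists_coker_coeff V hV a z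
  refine ⟨c, (bijective_map_of_eq M (A := V.ι ''ᵁ (V.ι ⁻¹ᵁ V)) (by simp) (image_le V _)).1 ?_⟩
  refine (map_sum_smul V M c t _).trans (Eq.trans ?_ hz)
  rw [map_sum]
  refine Finset.sum_congr rfl fun i _ => ?_
  rw [Scheme.Modules.Hom.app_smul, hg]

/-- Sections over an affine open of a module isomorphic there to a cokernel: relations. -/
theorem exists_rel_of_iso (hV : IsAffineOpen V) (M : X.Modules) (a : Fin m → Fin n → Γ(X, V))
    (t : Fin n → Γ(M, V)) (g : subCoker V a ⟶ M.restrict V.ι) [IsIso g]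
    (hg : ∀ i Y, g.app Y (cokerSec V a i Y) = M.presheaf.map (homOfLE (image_le V Y)).op (t i))
    (c : Fin n → Γ(X, V)) (hc : ∑ i, c i • t i = 0) :
    ∃ d : Fin m → Γ(X, V), ∀ i, c i = ∑ l, d l * a l i := by
  refine exists_coker_rel V hV a c ?_
  have : IsIso (g.app (V.ι ⁻¹ᵁ V)) := Scheme.Modules.Hom.isIso_iff_isIso_app.mp inferInstance _
  refine (ConcreteCategory.bijective_of_isIso (g.app (V.ι ⁻¹ᵁ V))).1 ?_
  rw [map_zero, map_sum]
  have h2 := map_sum_smul V M c t (V.ι ⁻¹ᵁ V)
  rw [hc] at h2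
  refine (Finset.sum_congr rfl fun i _ => ?_).trans (h2.symm.trans (map_zero _))
  rw [Scheme.Modules.Hom.app_smul, hg]

section level

variable {𝔛 : FSch.Sys.{u}} (h : 𝔛.IsFormal) {U : (𝔛.X 0).Opens} {𝔉 : FSch.ModF 𝔛 h}
  {s : Fin n → Sec 𝔉 U} {r : Fin m → Fin n → Ring (𝔛.Osh h) U}

/-- The inverse image of a module to a level, as a module on the level. -/
noncomputable abbrev pullM (k : ℕ) (𝔉 : FSch.ModF 𝔛 h) : (𝔛.X k).Modules :=
  (FSch.levelMor 𝔛 h k).pull.obj 𝔉

/-- The image of a section in the inverse image to a level. -/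
noncomputable def pullSec90 (k : ℕ) (y : Sec 𝔉 U) : Γ(pullM h k 𝔉, 𝔛.lvU h k U) :=
  appL ((FSch.levelMor 𝔛 h k).adj.unit.app 𝔉) U y

theorem sum_pullSec90_eq_zero (hp : IsPres 𝔉 s r) (k : ℕ) (l : Fin m) :
    ∑ i, pr h U k (r l i) • pullSec90 h k (s i) = 0 := by
  have h1 := congrArg (appL ((FSch.levelMor 𝔛 h k).adj.unit.app 𝔉) U) (hp.rel l)
  rw [map_zero, appL_comb] at h1
  refine Eq.trans (Finset.sum_congr rfl fun i _ => ?_) h1
  rw [res_refl]
  rfl

theorem isSuppOn_push_pushforward (k : ℕ) (N : (𝔛.lvU h k U : Scheme.{u}).Modules) :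
    IsSuppOn ((FSch.levelMor 𝔛 h k).push.obj
      ((Scheme.Modules.pushforward (𝔛.lvU h k U).ι).obj N)) U := fun W =>
  bijective_map_of_eq N (le_antisymm ((Opens.map (𝔛.lvU h k U).ι.base).monotone
    ((Opens.map (𝔛.gInv h k)).map (homOfLE inf_le_left)).le) fun y hy => ⟨hy, y.2⟩) _

/-- The inverse image of a presented module to a level is presented on the open over `U`. -/
theorem exists_iso_pull (hp : IsPres 𝔉 s r) (k : ℕ) :
    ∃ g : subCoker (𝔛.lvU h k U) (fun l i => pr h U k (r l i)) ⟶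
        (pullM h k 𝔉).restrict (𝔛.lvU h k U).ι, IsIso g ∧ ∀ i Y,
      g.app Y (cokerSec (𝔛.lvU h k U) (fun l i => pr h U k (r l i)) i Y) =
        (pullM h k 𝔉).presheaf.map (homOfLE (image_le _ Y)).op (pullSec90 h k (s i)) := by
  refine exists_iso_of_univ (𝔛.lvU h k U) (pullM h k 𝔉) (fun l i => pr h U k (r l i))
    (fun i => pullSec90 h k (s i)) (sum_pullSec90_eq_zero h hp k) (fun N t' ht' => ?_)
    fun N e e' hee' => ?_
  · have ht : ∀ l, comb (M := (FSch.levelMor 𝔛 h k).push.obj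
        ((Scheme.Modules.pushforward (𝔛.lvU h k U).ι).obj N)) (t' : Fin n → _) le_rfl (r l) = 0 := by
      intro l
      refine Eq.trans (Finset.sum_congr rfl fun i _ => ?_) (ht' l)
      rw [res_refl]
      refine congrArg (fun c : Γ((𝔛.lvU h k U : Scheme.{u}), (𝔛.lvU h k U).ι ⁻¹ᵁ 𝔛.lvU h k U) => c • t' i) ?_
      change (𝔛.lvU h k U).ι.app _ (pr h U k (r l i)) = _
      rw [Scheme.Opens.ι_app]
      rfl
    let φ : pullM h k 𝔉 ⟶ (Scheme.Modules.pushforward (𝔛.lvU h k U).ι).obj N :=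
      ((FSch.levelMor 𝔛 h k).adj.homEquiv 𝔉 _).symm
        (homOfPres hp (isSuppOn_push_pushforward h k N) ht)
    refine ⟨((Scheme.Modules.restrictAdjunction (𝔛.lvU h k U).ι).homEquiv _ _).symm φ, fun i => ?_⟩
    refine Eq.trans ?_ (appL_homOfPres hp (isSuppOn_push_pushforward h k N) ht i)
    rw [← ((FSch.levelMor 𝔛 h k).adj.homEquiv 𝔉 _).apply_symm_apply
      (homOfPres hp (isSuppOn_push_pushforward h k N) ht), Adjunction.homEquiv_unit, appL_comp,
      Adjunction.homEquiv_counit]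
    change N.presheaf.map (eqToHom ((𝔛.lvU h k U).ι.preimage_image_eq _).symm).op
      (φ.app ((𝔛.lvU h k U).ι ''ᵁ ((𝔛.lvU h k U).ι ⁻¹ᵁ 𝔛.lvU h k U))
        ((pullM h k 𝔉).presheaf.map (homOfLE (image_le _ _)).op (pullSec90 h k (s i)))) = _
    rw [app_map φ]
    exact map_map_self N _ _ _
  · apply ((Scheme.Modules.restrictAdjunction (𝔛.lvU h k U).ι).homEquiv _ _).injective
    apply ((FSch.levelMor 𝔛 h k).adj.homEquiv 𝔉 _).injective
    refine hom_ext_of_isGen hp.gen (isSuppOn_push_pushforward h k N) fun i => ?_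
    rw [Adjunction.homEquiv_unit, Adjunction.homEquiv_unit, Adjunction.homEquiv_unit,
      Adjunction.homEquiv_unit, appL_comp, appL_comp]
    exact hee' i

theorem exists_presentation_pull (hp : IsPres 𝔉 s r) (k : ℕ) :
    ∃ P : ((pullM h k 𝔉).restrict (𝔛.lvU h k U).ι).Presentation, P.IsFinite := by
  obtain ⟨g, hg, -⟩ := exists_iso_pull h hp k
  obtain ⟨P, hP⟩ := exists_presentation_subCoker (𝔛.lvU h k U) (fun l i => pr h U k (r l i))
  exact ⟨SheafOfModules.Presentation.ofIsIso.{u, u, u} g P, inferInstance⟩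

/-- Sections of the inverse image over an affine open with a presentation: generators. -/
theorem exists_pull_coeff (hU : IsAffineOpen U) (hp : IsPres 𝔉 s r) (k : ℕ)
    (y : Γ(pullM h k 𝔉, 𝔛.lvU h k U)) :
    ∃ c : Fin n → Rn h U k, ∑ i, c i • pullSec90 h k (s i) = y := by
  obtain ⟨g, hg, hgs⟩ := exists_iso_pull h hp k
  exact exists_coeff_of_iso _ (isAffineOpen_lvU h hU k) _ _ _ g hgs y

/-- Sections of the inverse image over an affine open with a presentation: relations. -/
theorem exists_pull_rel (hU : IsAffineOpen U) (hp : IsPres 𝔉 s r) (k : ℕ) (c : Fin n → Rn h U k)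
    (hc : ∑ i, c i • pullSec90 h k (s i) = 0) :
    ∃ d : Fin m → Rn h U k, ∀ i, c i = ∑ l, d l * pr h U k (r l i) := by
  obtain ⟨g, hg, hgs⟩ := exists_iso_pull h hp k
  exact exists_rel_of_iso _ (isAffineOpen_lvU h hU k) _ _ _ g hgs c hc

end level

/-- Inverse images of coherent modules to the levels are coherent. -/
theorem isCoh_pull {𝔛 : FSch.Sys.{u}} (h𝔛 : 𝔛.IsLocNoethFormal) (𝔉 : FSch.ModF 𝔛 h𝔛.1)
    (h𝔉 : FSch.IsCohF 𝔛 h𝔛.1 𝔉) (k : ℕ) : Coh.IsCoh (pullM h𝔛.1 k 𝔉) := by
  have := h𝔉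
  have := h𝔛.2.2 k
  choose U hx n m s r hp using exists_isPres 𝔉
  choose P hP using fun x : 𝔛.X 0 => exists_presentation_pull h𝔛.1 (hp x) k
  have hcov : ∀ y : 𝔛.X k, ∃ x, y ∈ 𝔛.lvU h𝔛.1 k (U x) := fun y => ⟨_, hx (𝔛.gInv h𝔛.1 k y)⟩
  rw [QCoh.isCoh_iff_isFP]
  refine isFinitePresentation_of_isPres (fun x : 𝔛.X 0 => 𝔛.lvU h𝔛.1 k (U x)) hcov fun x => ?_
  have := hP x
  have : (QCoh.presentationOver (M := pullM h𝔛.1 k 𝔉) (𝔛.lvU h𝔛.1 k (U x)) (P x)).IsFinite :=
    { isFiniteType_generators := ⟨inferInstanceAs (Finite (P x).generators.I)⟩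
      isFiniteType_relations := ⟨inferInstanceAs (Finite (P x).relations.I)⟩ }
  exact exists_isPres_of_presentation (QCoh.presentationOver _ (P x))

end Groth.Agent.FMod90
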