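import Groth.Agent.FMod90.Supp
import Mathlib.CategoryTheory.Sites.CoverPreserving

/-!
# Inverse images of presented modules are presented

If the sections `s` and the relations `r` present `M` over `U`, their inverse images present the
inverse image of `M` over the preimage of `U`.
-/

set_option autoImplicit false
set_option backward.isDefEq.respectTransparency false
set_option backward.isDefEq.respectTransparency.types false
set_option maxHeartbeats 1000000

universe u

open CategoryTheory CategoryTheory.Limits Opposite TopologicalSpace Topology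

namespace Groth.Agent.FMod90

section extOver

variable {T : TopCat.{u}} {O : Sheaf (Opens.grothendieckTopology T) CommRingCat.{u}} (V : Opens T)

/-- Intersection with an open, as a functor to the opens contained in it. -/
def capOverF : Opens T ⥤ Over V where
  obj W := Over.mk (homOfLE (inf_le_right : W ⊓ V ≤ V))
  map g := Over.homMk (homOfLE (inf_le_inf_right V (leOfHom g)))

instance isContinuous_capOverF :
    (capOverF V).IsContinuous (Opens.grothendieckTopology T) ((Opens.grothendieckTopology T).over V) := by
  refine Functor.isContinuous_of_coverPreserving ⟨?_⟩ ⟨fun {W S} hS => ?_⟩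
  · intro ℱ Z R x hx Y₁ Y₂ X f₁ f₂ g₁ g₂ hg₁ hg₂ _
    have h1 : X.left ≤ Y₁ ⊓ V := leOfHom f₁.left
    have h2 : X.left ≤ Y₂ ⊓ V := leOfHom f₂.left
    let k : X ⟶ (capOverF V).obj (Y₁ ⊓ Y₂) := Over.homMk (homOfLE
      (le_inf (le_inf (h1.trans inf_le_left) (h2.trans inf_le_left)) (h1.trans inf_le_right)))
    have e1 : f₁ = k ≫ (capOverF V).map (homOfLE inf_le_left) := Over.OverMorphism.ext (Subsingleton.elim _ _)
    have e2 : f₂ = k ≫ (capOverF V).map (homOfLE inf_le_right) := Over.OverMorphism.ext (Subsingleton.elim _ _)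
    rw [e1, e2, op_comp, op_comp, Functor.map_comp, Functor.map_comp]
    exact congrArg (ℱ.obj.map k.op) (hx (homOfLE inf_le_left) (homOfLE inf_le_right) hg₁ hg₂ (Subsingleton.elim _ _))
  · rw [GrothendieckTopology.mem_over_iff]
    intro x hx
    obtain ⟨W', f, hf, hxW⟩ := hS x hx.1
    refine ⟨W' ⊓ V, homOfLE (inf_le_inf_right V (leOfHom f)), ?_, hxW, hx.2⟩
    rw [Sieve.overEquiv_iff]
    exact ⟨W', f, Over.homMk (homOfLE le_rfl), hf, Over.OverMorphism.ext (Subsingleton.elim _ _)⟩

/-- Restriction of functions to the intersection with the open. -/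
noncomputable def capOverSharp : ModSite.ringSh O ⟶
    ((capOverF V).sheafPushforwardContinuous RingCat.{u} (Opens.grothendieckTopology T)
      ((Opens.grothendieckTopology T).over V)).obj (ModSite.ringSh (O.over V)) :=
  ⟨{ app := fun W => (ModSite.ringSh O).obj.map (homOfLE (inf_le_left : W.unop ⊓ V ≤ W.unop)).op
     naturality := fun W W' g => by
       change (ModSite.ringSh O).obj.map g ≫ (ModSite.ringSh O).obj.map _ =
         (ModSite.ringSh O).obj.map _ ≫ (ModSite.ringSh O).obj.map _
       rw [← Functor.map_comp, ← Functor.map_comp]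
       rfl }⟩

/-- A module on an open, extended by `W ↦ C(W ⊓ V)`. -/
noncomputable def extOver (C : ModSite.Mod (O.over V)) : ModSite.Mod O :=
  (SheafOfModules.pushforward.{u} (F := capOverF V) (capOverSharp V)).obj C

/-- Morphisms of extended modules. -/
noncomputable def extOverMap {C C' : ModSite.Mod (O.over V)} (χ : C ⟶ C') : extOver V C ⟶ extOver V C' :=
  (SheafOfModules.pushforward.{u} (F := capOverF V) (capOverSharp V)).map χ

theorem isSuppOn_extOver (C : ModSite.Mod (O.over V)) : IsSuppOn (extOver V C) V := fun W => by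
  let g : (capOverF V).obj (W ⊓ V) ⟶ (capOverF V).obj W := (capOverF V).map (homOfLE inf_le_left)
  have hiso : IsIso g := by
    refine ⟨Over.homMk (homOfLE (le_inf le_rfl inf_le_right)), ?_, ?_⟩ <;>
      exact Over.OverMorphism.ext (Subsingleton.elim _ _)
  haveI : IsIso g.op := inferInstance
  exact ConcreteCategory.bijective_of_isIso ((ModSite.toAb C).obj.map g.op)

/-- The map to the extension of the restriction. -/
noncomputable def toExtOver (M : ModSite.Mod O) : M ⟶ extOver V (M.over V) :=
  mkHom
    (fun W =>
      { toFun := fun s => res M (inf_le_left : W ⊓ V ≤ W) s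
        map_add' := fun s t => map_add _ s t
        map_smul' := fun a s => res_smul _ a s })
    fun W W' h s =>
      (res_res (inf_le_left : W ⊓ V ≤ W) (inf_le_inf_right V h) s).trans
        (res_res h (inf_le_left : W' ⊓ V ≤ W') s).symm

theorem appL_toExtOver_injective (M : ModSite.Mod O) {W : Opens T} (h : W ≤ V) :
    Function.Injective (appL (toExtOver V M) W) :=
  (bijective_res_of_eq (inf_eq_left.2 h) (inf_le_left : W ⊓ V ≤ W)).1

end extOver

section pull

variable {T T' : TopCat.{u}} {O : Sheaf (Opens.grothendieckTopology T) CommRingCat.{u}}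
  {O' : Sheaf (Opens.grothendieckTopology T') CommRingCat.{u}} (f : T' ⟶ T)
  (sharp : O ⟶ ((Opens.map f).sheafPushforwardContinuous CommRingCat.{u} (Opens.grothendieckTopology T)
      (Opens.grothendieckTopology T')).obj O')

local notation "αf" => ModSite.RMor.ofFlat (Opens.map f) sharp

/-- The inverse image of a function. -/
noncomputable def shF (U : Opens T) : Ring O U →+* Ring O' ((Opens.map f).obj U) :=
  (sharp.hom.app (op U)).hom

/-- The inverse image of a section. -/
noncomputable def pullS (M : ModSite.Mod O) (U : Opens T) (x : Sec M U) :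
    Sec ((αf).pull.obj M) ((Opens.map f).obj U) :=
  appL (O := O) ((αf).adj.unit.app M) U x

variable {f sharp} {M : ModSite.Mod O} {U : Opens T} {n m : ℕ} {s : Fin n → Sec M U}
  {r : Fin m → Fin n → Ring O U}

theorem isSuppOn_push {N : ModSite.Mod O'} (hN : IsSuppOn N ((Opens.map f).obj U)) :
    IsSuppOn ((αf).push.obj N) U := fun W => hN ((Opens.map f).obj W)

theorem comb_pullS_eq_zero (hp : IsPres M s r) (l : Fin m) :
    comb (fun i => pullS f sharp M U (s i)) le_rfl (fun i => shF f sharp U (r l i)) = 0 := by
  let L := appL (O := O) ((αf).adj.unit.app M) U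
  have h1 : ∑ i, L (r l i • s i) = 0 := by
    rw [← map_sum]
    have h2 : ∑ i, r l i • s i = 0 := by
      refine Eq.trans (Finset.sum_congr rfl fun i _ => ?_) (hp.rel l)
      rw [res_refl]
    rw [h2, map_zero]
  refine Eq.trans (Finset.sum_congr rfl fun i _ => ?_) h1
  rw [res_refl]
  exact (map_smul (appL (O := O) ((αf).adj.unit.app M) U) (r l i) (s i)).symm

/-- Inverse images of presentations are presentations. -/
theorem IsPres.pull (hp : IsPres M s r) :
    IsPres ((αf).pull.obj M) (fun i => pullS f sharp M U (s i)) (fun l i => shF f sharp U (r l i)) := by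
  set V := (Opens.map f).obj U with hV
  let r' : Fin m → Fin n → Ring O' V := fun l i => shF f sharp U (r l i)
  let s' : Fin n → Sec ((αf).pull.obj M) V := fun i => pullS f sharp M U (s i)
  have hrel : ∀ l, comb s' le_rfl (r' l) = 0 := comb_pullS_eq_zero hp
  let R := relMap O' r'
  let C : ModSite.Mod (O'.over V) := cokernel R
  let π := cokernel.π R
  let Y₀ : Over V := (capOverF V).obj V
  let e : Fin n → Sec (extOver V C) V := fun i =>
    Site.app π Y₀ (Site.basisSec (O := O'.over V) (⟨i⟩ : ULift.{u} (Fin n)) Y₀)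
  have hcomb : ∀ (W : Opens T') (hW : W ≤ V) (a : Fin n → Ring O' W),
      comb e hW a = Site.app π ((capOverF V).obj W) (∑ i : ULift.{u} (Fin n),
        (rres O' (inf_le_left : W ⊓ V ≤ W) (a i.down) : Site.Scal (O'.over V) ((capOverF V).obj W)) •
          Site.basisSec (O := O'.over V) i ((capOverF V).obj W)) := by
    intro W hW a
    rw [map_sum]
    refine Eq.trans ?_ (Equiv.ulift.symm.sum_comp _)
    refine Finset.sum_congr rfl fun i _ => ?_
    rw [map_smul]
    refine congrArg (HSMul.hSMul _) ?_
    refine (Site.map_app π ((capOverF V).map (homOfLE hW)) _).trans ?_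
    rw [Site.map_basisSec]
    rfl
  have hR : ∀ (Y : Over V) (c : ULift.{u} (Fin m) → Ring O' Y.left), Site.app π Y (Site.app R Y
      (∑ l, (c l : Site.Scal (O'.over V) Y) • Site.basisSec (O := O'.over V) l Y)) = 0 := fun Y c => by
    rw [← Site.app_comp, cokernel.condition]
    exact Site.app_zero _ _
  have hte : ∀ l, comb (M := (αf).push.obj (extOver V C)) e le_rfl (r l) = 0 := by
    intro l
    have h0 : comb e le_rfl (r' l) = 0 := by
      rw [hcomb]
      refine Eq.trans (congrArg (Site.app π _) ?_) (hR ((capOverF V).obj V)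
        fun l' => if l' = ⟨l⟩ then 1 else 0)
      apply Site.ext_proj
      intro i
      rw [app_relMap, Site.app_proj_sum]
      simp
      rfl
    refine Eq.trans (Finset.sum_congr rfl fun i _ => ?_) h0
    rw [res_refl, res_refl]
    rfl
  let ψ : (αf).pull.obj M ⟶ extOver V C :=
    ((αf).adj.homEquiv M _).symm (homOfPres hp (isSuppOn_push (isSuppOn_extOver V C)) hte)
  have hψs : ∀ i, appL ψ V (s' i) = e i := fun i => by
    have h := ((αf).adj.homEquiv M _).apply_symm_apply
      (homOfPres hp (isSuppOn_push (isSuppOn_extOver V C)) hte)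
    rw [Adjunction.homEquiv_unit] at h
    exact (congrArg (fun φ => appL (O := O) φ U (s i)) h).trans (appL_homOfPres hp _ hte i)
  have hRfree : R ≫ freeToOver ((αf).pull.obj M) s' = 0 := by
    apply (SheafOfModules.freeHomEquiv _).injective
    funext l
    apply PresheafOfModules.sections_ext
    intro Y
    refine Eq.trans ?_ (Site.app_zero (M := SheafOfModules.free (ULift.{u} (Fin m))) _
      (Site.basisSec (O := O'.over V) l Y.unop)).symm
    change Site.app (freeToOver _ s') Y.unop (Site.app R Y.unop (Site.basisSec (O := O'.over V) l Y.unop)) = 0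
    rw [Site.app_basisSec R, show R = relMap O' r' from rfl, relMap, Equiv.apply_symm_apply]
    refine (app_freeToOver s' _ fun i => rres O' (leOfHom Y.unop.hom) (r' l.down i)).trans ?_
    rw [← res_comb s' le_rfl, hrel, map_zero]
  let χ : C ⟶ ((αf).pull.obj M).over V := cokernel.desc R (freeToOver _ s') hRfree
  have hχ : ψ ≫ extOverMap V χ = toExtOver V ((αf).pull.obj M) := by
    apply ((αf).adj.homEquiv M _).injective
    refine hom_ext_of_isGen hp.gen (isSuppOn_push (isSuppOn_extOver V _)) fun i => ?_
    rw [Adjunction.homEquiv_unit, Adjunction.homEquiv_unit]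
    change appL (extOverMap V χ) V (appL ψ V (s' i)) = appL (toExtOver V ((αf).pull.obj M)) V (s' i)
    rw [hψs]
    change Site.app χ Y₀ (Site.app π Y₀ (Site.basisSec (O := O'.over V) (⟨i⟩ : ULift.{u} (Fin n)) Y₀)) = _
    rw [← Site.app_comp, cokernel.π_desc, Site.app_basisSec, freeToOver, Equiv.apply_symm_apply]
    rfl
  have hinj : ∀ {W : Opens T'}, W ≤ V → Function.Injective (appL ψ W) := fun {W} hW a b hab => by
    refine appL_toExtOver_injective V _ hW ?_
    rw [← hχ, appL_comp, appL_comp, hab]
  have hψcomb : ∀ (W : Opens T') (hW : W ≤ V) (a : Fin n → Ring O' W),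
      appL ψ W (comb s' hW a) = comb e hW a := fun W hW a => by
    rw [appL_comb]
    exact congrArg (fun t => comb t hW a) (funext hψs)
  refine ⟨fun W hW y x hx => ?_, hrel, fun W hW a ha x hx => ?_⟩
  · obtain ⟨S, hS, hlift⟩ := Site.exists_cover_lift π (W := (capOverF V).obj W) (appL ψ W y)
    obtain ⟨W', hW', hxW', hSW⟩ := exists_mem_of_cover hS (Y := (capOverF V).obj W) ⟨hx, hW hx⟩
    obtain ⟨z, hz⟩ := hlift _ hSW
    have hWW : W' ≤ W := hW'.trans inf_le_left
    let g : (capOverF V).obj W' ⟶ Over.mk (homOfLE hW' ≫ ((capOverF V).obj W).hom) :=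
      Over.homMk (homOfLE inf_le_left)
    have hz' : Site.app π ((capOverF V).obj W') (Site.mapS _ g z) = res (extOver V C) hWW (appL ψ W y) := by
      rw [← Site.map_app, hz, Site.mapS_comp]
      rfl
    let a : Fin n → Ring O' W' := fun i => rres O' (le_inf le_rfl (hWW.trans hW))
      (Site.coeff (O := O'.over V) (⟨i⟩ : ULift.{u} (Fin n)) ((capOverF V).obj W') (Site.mapS _ g z))
    refine ⟨W', hWW, a, hxW', hinj (hWW.trans hW) ?_⟩
    rw [hψcomb, ← res_appL, ← hz', hcomb]
    refine congrArg (Site.app π ((capOverF V).obj W')) (Site.ext_proj fun i => ?_)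
    rw [Site.app_proj_sum]
    exact (rres_rres _ _ _).trans (rres_refl _ _)
  · have h0 : Site.app π ((capOverF V).obj W) (∑ i : ULift.{u} (Fin n),
        (rres O' (inf_le_left : W ⊓ V ≤ W) (a i.down) : Site.Scal (O'.over V) ((capOverF V).obj W)) •
          Site.basisSec (O := O'.over V) i ((capOverF V).obj W)) = 0 := by
      rw [← hcomb W hW a, ← hψcomb W hW a, ha, map_zero]
    obtain ⟨k, hk⟩ := Site.exists_kernel_lift π _ h0
    haveI : Epi (kernel.lift π R (cokernel.condition R)) :=
      inferInstanceAs (Epi (Abelian.factorThruImage R))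
    obtain ⟨S, hS, hlift⟩ := Site.exists_cover_lift (kernel.lift π R (cokernel.condition R)) k
    obtain ⟨W', hW', hxW', hSW⟩ := exists_mem_of_cover hS (Y := (capOverF V).obj W) ⟨hx, hW hx⟩
    obtain ⟨z, hz⟩ := hlift _ hSW
    let Y' : Over V := Over.mk (homOfLE hW' ≫ ((capOverF V).obj W).hom)
    have h2 : Site.app R Y' z = Site.mapS _ (Over.homMk (homOfLE hW') : Y' ⟶ (capOverF V).obj W)
        (∑ i : ULift.{u} (Fin n),
          (rres O' (inf_le_left : W ⊓ V ≤ W) (a i.down) : Site.Scal (O'.over V) ((capOverF V).obj W)) •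
            Site.basisSec (O := O'.over V) i ((capOverF V).obj W)) := by
      rw [← hk, Site.map_app, ← hz, ← Site.app_comp, kernel.lift_ι]
    refine ⟨W', hW'.trans inf_le_left, fun l => Site.coeff (O := O'.over V) (⟨l⟩ : ULift.{u} (Fin m)) Y' z,
      hxW', fun i => ?_⟩
    have h3 := congrArg (Site.app (Site.proj (O := O'.over V) (⟨i⟩ : ULift.{u} (Fin n))) Y') h2
    rw [Site.eq_sum _ z, app_relMap, ← Site.map_app, Site.app_proj_sum] at h3
    refine (rres_rres (inf_le_left : W ⊓ V ≤ W) hW' (a i)).symm.trans (h3.symm.trans ?_)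
    exact Equiv.ulift.sum_comp fun l => (show Ring O' W' from Site.coeff (O := O'.over V) (⟨l⟩ : ULift.{u} (Fin m)) Y' z) *
      rres O' ((hW'.trans inf_le_left).trans hW) (r' l i)

/-- Inverse images of finitely presented modules are finitely presented. -/
theorem isFinitePresentation_pull [M.IsFinitePresentation] : ((αf).pull.obj M).IsFinitePresentation := by
  choose U hU n m s r hp using exists_isPres M
  exact isFinitePresentation_of_isPres (fun x : T' => (Opens.map f).obj (U (f x)))
    (fun x => ⟨x, hU (f x)⟩) fun x => ⟨_, _, _, _, (hp (f x)).pull⟩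

end pull

end Groth.Agent.FMod90
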