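import Groth.Agent.FMod90.PullPres
import Groth.Agent.FMod90.Recon
import Groth.Agent.FMod90.Coh
import Groth.Agent.ExistEasy.PP.PullSec
import Groth.Prelude.Def_FSch6

/-!
# Inverse images of coherent modules on formal schemes

The inverse image of the realisation of a coherent system is the realisation of the levelwise inverse
image system.
-/

set_option autoImplicit false
set_option maxHeartbeats 1000000

universe u

open CategoryTheory CategoryTheory.Limits AlgebraicGeometry TopologicalSpace Opposite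

namespace Groth.Agent.FMod90

set_option allowUnsafeReducibility true in
attribute [local reducible] FSch.ModSys.realMod

section Transition

variable {X Y : Scheme.{u}}

/-- An adjunct of a morphism on sections. -/
theorem map_homEquiv_app (i : X ⟶ Y) {M : Y.Modules} {N : X.Modules}
    (φ : (Scheme.Modules.pullback i).obj M ⟶ N) {V : Y.Opens} {W : X.Opens} (hle : W ≤ i ⁻¹ᵁ V)
    (z : Γ(M, V)) :
    N.presheaf.map (homOfLE hle).op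
        ((((Scheme.Modules.pullbackPushforwardAdjunction i).homEquiv M N) φ).app V z) =
      φ.app W (QCoh.pullSec i M hle z) := by
  rw [Adjunction.homEquiv_unit]
  exact (QCoh.map_app_comm φ (homOfLE hle) _).symm

/-- Pulled back sections along the two ways around a commutative square. -/
theorem square_pullSec {P Q R S : Scheme.{u}} {p : P ⟶ Q} {q : Q ⟶ S} {r : P ⟶ R} {s : R ⟶ S}
    (w : p ≫ q = r ≫ s) (G : S.Modules) {W : P.Opens} {U : Q.Opens} {U' : R.Opens} {V : S.Opens}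
    (h₁ : U ≤ q ⁻¹ᵁ V) (h₂ : W ≤ p ⁻¹ᵁ U) (h₁' : U' ≤ s ⁻¹ᵁ V) (h₂' : W ≤ r ⁻¹ᵁ U') (x : Γ(G, V)) :
    ((Scheme.Modules.pullbackComp p q).app G ≪≫ (Scheme.Modules.pullbackCongr w).app G ≪≫
        (Scheme.Modules.pullbackComp r s).symm.app G).hom.app W
        (QCoh.pullSec p ((Scheme.Modules.pullback q).obj G) h₂ (QCoh.pullSec q G h₁ x)) =
      QCoh.pullSec r ((Scheme.Modules.pullback s).obj G) h₂' (QCoh.pullSec s G h₁' x) := by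
  refine (congrArg (fun z => ((Scheme.Modules.pullbackComp r s).inv.app G).app W
    (((Scheme.Modules.pullbackCongr w).hom.app G).app W z))
      (ExistEasy.pullSec_comp p q G h₁ h₂ x)).trans ?_
  refine (congrArg (((Scheme.Modules.pullbackComp r s).inv.app G).app W)
    (ExistEasy.pullSec_congr w G (h₂.trans ((Opens.map p.base).monotone h₁)) x)).trans ?_
  refine (congrArg (((Scheme.Modules.pullbackComp r s).inv.app G).app W)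
    (ExistEasy.pullSec_comp r s G h₁' h₂' x).symm).trans ?_
  exact congr(($((Scheme.Modules.pullbackComp r s).hom_inv_id_app G)).app W _)

variable {𝔛 𝔜 : FSch.Sys.{u}} (φ : 𝔛 ⟶ 𝔜) (h𝔛 : 𝔛.IsFormal) (h𝔜 : 𝔜.IsFormal) (𝔐 : FSch.ModSys 𝔜)

/-- The transition maps of the levelwise inverse image on pulled back sections. -/
theorem τ_pullback (k : ℕ) (U : (𝔜.X 0).Opens) (z : Ln h𝔜 U 𝔐.F (k + 1)) :
    τ h𝔛 ((Opens.map ((φ : FSch.Hom 𝔛 𝔜).app 0).base).obj U) (FSch.ModSys.pullback φ 𝔐).F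
        (FSch.ModSys.pullback φ 𝔐).toPush k
        (QCoh.pullSec ((φ : FSch.Hom 𝔛 𝔜).app (k + 1)) (𝔐.F (k + 1))
          (FSch.Hom.lvU_preimage φ h𝔛 h𝔜 (k + 1) U).ge z) =
      QCoh.pullSec ((φ : FSch.Hom 𝔛 𝔜).app k) (𝔐.F k)
        (FSch.Hom.lvU_preimage φ h𝔛 h𝔜 k U).ge (τ h𝔜 U 𝔐.F 𝔐.toPush k z) := by
  let f₀ := (φ : FSch.Hom 𝔛 𝔜).app k
  let f₁ := (φ : FSch.Hom 𝔛 𝔜).app (k + 1)
  let W := 𝔛.lvU h𝔛 k ((Opens.map ((φ : FSch.Hom 𝔛 𝔜).app 0).base).obj U)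
  have h1 : τ h𝔜 U 𝔐.F 𝔐.toPush k z =
      (𝔐.e k).hom.app (𝔜.lvU h𝔜 k U) (QCoh.pullSec (𝔜.ι k) (𝔐.F (k + 1)) (𝔜.lvU_le h𝔜 k U) z) :=
    map_homEquiv_app (𝔜.ι k) (𝔐.e k).hom (𝔜.lvU_le h𝔜 k U) z
  refine (map_homEquiv_app (𝔛.ι k) ((FSch.ModSys.pullback φ 𝔐).e k).hom (𝔛.lvU_le h𝔛 k _) _).trans ?_
  rw [h1]
  refine Eq.trans ?_ (ExistEasy.pullSec_natural f₀ (𝔐.e k).hom
    (FSch.Hom.lvU_preimage φ h𝔛 h𝔜 k U).ge _)
  exact congrArg (((Scheme.Modules.pullback f₀).map (𝔐.e k).hom).app W)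
    (square_pullSec ((φ : FSch.Hom 𝔛 𝔜).comm k).symm (𝔐.F (k + 1))
      (FSch.Hom.lvU_preimage φ h𝔛 h𝔜 (k + 1) U).ge (𝔛.lvU_le h𝔛 k _) (𝔜.lvU_le h𝔜 k U)
      (FSch.Hom.lvU_preimage φ h𝔛 h𝔜 k U).ge z)

/-- The morphism of the inverse image of the realisation to a level of the inverse image system. -/
noncomputable def pullProj (k : ℕ) :
    (FSch.pullF φ h𝔛 h𝔜).obj (𝔐.realMod h𝔜) ⟶
      (FSch.levelMor 𝔛 h𝔛 k).push.obj ((FSch.ModSys.pullback φ 𝔐).F k) :=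
  ((FSch.homMor φ h𝔛 h𝔜).adj.homEquiv _ _).symm
    (FSch.realProj 𝔜 h𝔜 _ _ k ≫
      (FSch.levelMor 𝔜 h𝔜 k).push.map
        ((ModSite.RMor.ofScheme ((φ : FSch.Hom 𝔛 𝔜).app k)).adj.unit.app (𝔐.F k)) ≫
      (FSch.lvPushSq φ h𝔛 h𝔜 k).inv.app ((FSch.ModSys.pullback φ 𝔐).F k))

theorem homEquiv_pullProj_lvPushSq (k : ℕ) :
    (FSch.homMor φ h𝔛 h𝔜).adj.homEquiv _ _ (pullProj φ h𝔛 h𝔜 𝔐 k) ≫
        (FSch.lvPushSq φ h𝔛 h𝔜 k).hom.app ((FSch.ModSys.pullback φ 𝔐).F k) =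
      FSch.realProj 𝔜 h𝔜 _ _ k ≫ (FSch.levelMor 𝔜 h𝔜 k).push.map
        ((ModSite.RMor.ofScheme ((φ : FSch.Hom 𝔛 𝔜).app k)).adj.unit.app (𝔐.F k)) := by
  rw [pullProj, Equiv.apply_symm_apply]
  refine (Category.assoc _ _ _).trans (congrArg (FSch.realProj 𝔜 h𝔜 _ _ k ≫ ·) ?_)
  exact (Category.assoc _ _ _).trans ((congrArg (_ ≫ ·)
    ((FSch.lvPushSq φ h𝔛 h𝔜 k).inv_hom_id_app ((FSch.ModSys.pullback φ 𝔐).F k))).trans (Category.comp_id _))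

theorem appL_homEquiv_pullProj (k : ℕ) (U : (𝔜.X 0).Opens) (x : Sec (𝔐.realMod h𝔜) U) :
    appL ((FSch.homMor φ h𝔛 h𝔜).adj.homEquiv _ _ (pullProj φ h𝔛 h𝔜 𝔐 k)) U x =
      QCoh.pullSec ((φ : FSch.Hom 𝔛 𝔜).app k) (𝔐.F k)
        (FSch.Hom.lvU_preimage φ h𝔛 h𝔜 k U).ge (rproj h𝔜 U 𝔐.F 𝔐.toPush k x) := by
  rw [pullProj, Equiv.apply_symm_apply]
  rfl

theorem pullProj_map (k : ℕ) :
    pullProj φ h𝔛 h𝔜 𝔐 (k + 1) ≫
        ((FSch.levelMor 𝔛 h𝔛 (k + 1)).push.map ((FSch.ModSys.pullback φ 𝔐).toPush k) ≫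
          (FSch.pushCompare 𝔛 h𝔛 k).app ((FSch.ModSys.pullback φ 𝔐).F k)) =
      pullProj φ h𝔛 h𝔜 𝔐 k := by
  apply ((FSch.homMor φ h𝔛 h𝔜).adj.homEquiv _ _).injective
  rw [Adjunction.homEquiv_naturality_right]
  refine hom_ext fun U x => ?_
  change τ h𝔛 ((Opens.map ((φ : FSch.Hom 𝔛 𝔜).app 0).base).obj U) (FSch.ModSys.pullback φ 𝔐).F
      (FSch.ModSys.pullback φ 𝔐).toPush k
      (appL ((FSch.homMor φ h𝔛 h𝔜).adj.homEquiv _ _ (pullProj φ h𝔛 h𝔜 𝔐 (k + 1))) U x) = _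
  rw [appL_homEquiv_pullProj, appL_homEquiv_pullProj]
  exact (τ_pullback φ h𝔛 h𝔜 𝔐 k U _).trans
    (congrArg (QCoh.pullSec ((φ : FSch.Hom 𝔛 𝔜).app k) (𝔐.F k) _) (τ_rproj h𝔜 U 𝔐.F 𝔐.toPush k x))

/-- The comparison of the inverse image of a realisation with the realisation of the inverse image system. -/
noncomputable def pullRealHom :
    (FSch.pullF φ h𝔛 h𝔜).obj (𝔐.realMod h𝔜) ⟶ (FSch.ModSys.pullback φ 𝔐).realMod h𝔛 :=
  limit.lift (FSch.levelSysOf 𝔛 h𝔛 (FSch.ModSys.pullback φ 𝔐).F (FSch.ModSys.pullback φ 𝔐).toPush)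
    { pt := (FSch.pullF φ h𝔛 h𝔜).obj (𝔐.realMod h𝔜)
      π := NatTrans.ofOpSequence (fun k => pullProj φ h𝔛 h𝔜 𝔐 k) fun k => by
        simp only [Functor.const_obj_obj, Functor.const_obj_map, FSch.levelSysOf_map_succ]
        exact (Category.id_comp _).trans (pullProj_map φ h𝔛 h𝔜 𝔐 k).symm }

theorem pullRealHom_realProj (k : ℕ) :
    pullRealHom φ h𝔛 h𝔜 𝔐 ≫ FSch.realProj 𝔛 h𝔛 _ _ k = pullProj φ h𝔛 h𝔜 𝔐 k :=
  limit.lift_π _ (op k)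

/-- The pinning of the comparison. -/
theorem homEquiv_pullRealHom (k : ℕ) :
    (FSch.homMor φ h𝔛 h𝔜).adj.homEquiv _ _ (pullRealHom φ h𝔛 h𝔜 𝔐) ≫
        (FSch.pushF φ h𝔛 h𝔜).map (FSch.realProj 𝔛 h𝔛 _ _ k) ≫
        (FSch.lvPushSq φ h𝔛 h𝔜 k).hom.app ((FSch.ModSys.pullback φ 𝔐).F k) =
      FSch.realProj 𝔜 h𝔜 _ _ k ≫ (FSch.levelMor 𝔜 h𝔜 k).push.map
        ((ModSite.RMor.ofScheme ((φ : FSch.Hom 𝔛 𝔜).app k)).adj.unit.app (𝔐.F k)) := by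
  refine Eq.trans ?_ (homEquiv_pullProj_lvPushSq φ h𝔛 h𝔜 𝔐 k)
  refine (Category.assoc _ _ _).symm.trans (congrArg (· ≫ (FSch.lvPushSq φ h𝔛 h𝔜 k).hom.app _) ?_)
  exact ((FSch.homMor φ h𝔛 h𝔜).adj.homEquiv_naturality_right _ _).symm.trans
    (congrArg _ (pullRealHom_realProj φ h𝔛 h𝔜 𝔐 k))

end Transition

section Iso

variable {𝔛 𝔜 : FSch.Sys.{u}} (φ : 𝔛 ⟶ 𝔜) (h𝔛 : 𝔛.IsLocNoethFormal) (h𝔜 : 𝔜.IsLocNoethFormal)
  {𝔐 : FSch.ModSys 𝔜} (h𝔐 : 𝔐.IsCoh)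

include h𝔜 h𝔐 in
/-- On every level the comparison is the inverse image of the level comparison. -/
theorem isIso_adjunct_pullProj (k : ℕ) :
    IsIso (((FSch.levelMor 𝔛 h𝔛.1 k).adj.homEquiv _ _).symm (pullProj φ h𝔛.1 h𝔜.1 𝔐 k)) := by
  let c := ModSite.RMor.ofScheme ((φ : FSch.Hom 𝔛 𝔜).app k)
  let d := FSch.levelMor 𝔜 h𝔜.1 k
  let a := FSch.levelMor 𝔛 h𝔛.1 k
  let b := FSch.homMor φ h𝔛.1 h𝔜.1
  let M := 𝔐.realMod h𝔜.1
  let N := (FSch.ModSys.pullback φ 𝔐).F k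
  set ψ := (a.adj.homEquiv _ _).symm (pullProj φ h𝔛.1 h𝔜.1 𝔐 k) with hψ
  let g := (d.adj.homEquiv _ _).symm (FSch.realProj 𝔜 h𝔜.1 𝔐.F 𝔐.toPush k)
  haveI : IsIso g := isIso_adjunct_realProj h𝔜 h𝔐 k
  let S := FSch.lvPullSq φ h𝔛.1 h𝔜.1 k
  let σ := FSch.lvPushSq φ h𝔛.1 h𝔜.1 k
  suffices hS : S.hom.app M ≫ ψ = c.pull.map g by
    haveI h1 : IsIso (S.hom.app M ≫ ψ) := hS ▸ Functor.map_isIso c.pull g
    exact IsIso.of_isIso_comp_left (S.hom.app M) ψ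
  apply ((d.adj.comp c.adj).homEquiv M N).injective
  have hc : conjugateEquiv (b.adj.comp a.adj) (d.adj.comp c.adj) S.hom = σ.hom :=
    congrArg Iso.hom ((conjugateIsoEquiv (b.adj.comp a.adj) (d.adj.comp c.adj)).apply_symm_apply σ)
  have h2 := unit_conjugateEquiv (b.adj.comp a.adj) (d.adj.comp c.adj) S.hom M
  rw [hc] at h2
  have hL : ((d.adj.comp c.adj).homEquiv M N) (S.hom.app M ≫ ψ) =
      ((b.adj.comp a.adj).homEquiv M N) ψ ≫ σ.hom.app N := by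
    refine ((d.adj.comp c.adj).homEquiv_unit _ _ _).trans ?_
    refine Eq.trans ?_ (congrArg (· ≫ σ.hom.app N) ((b.adj.comp a.adj).homEquiv_unit M N ψ).symm)
    refine (congrArg (_ ≫ ·) ((c.push ⋙ d.push).map_comp (S.hom.app M) ψ)).trans ?_
    refine (Category.assoc _ _ _).symm.trans ((congrArg (· ≫ _) h2.symm).trans ?_)
    refine (Category.assoc _ _ _).trans (Eq.trans ?_ (Category.assoc _ _ _).symm)
    exact congrArg (_ ≫ ·) (σ.hom.naturality ψ).symm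
  refine hL.trans ?_
  rw [Adjunction.comp_homEquiv, Adjunction.comp_homEquiv]
  refine (congrArg (fun t => b.adj.homEquiv _ _ t ≫ σ.hom.app N) ((a.adj.homEquiv _ _).apply_symm_apply
    (pullProj φ h𝔛.1 h𝔜.1 𝔐 k))).trans ((homEquiv_pullProj_lvPushSq φ h𝔛.1 h𝔜.1 𝔐 k).trans ?_)
  refine Eq.trans ?_ (congrArg (d.adj.homEquiv _ _) ((c.adj.homEquiv_unit _ _ (c.pull.map g)).trans
    (c.adj.unit.naturality g).symm)).symm
  exact ((d.adj.homEquiv_naturality_right g _).trans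
    (congrArg (· ≫ _) ((d.adj.homEquiv _ _).apply_symm_apply _))).symm

include h𝔛 h𝔜 h𝔐 in
/-- The inverse image of a coherent realisation is coherent. -/
theorem isCohF_pullF_realMod :
    FSch.IsCohF 𝔛 h𝔛.1 ((FSch.pullF φ h𝔛.1 h𝔜.1).obj (𝔐.realMod h𝔜.1)) :=
  haveI := isCohF_realMod 𝔐 h𝔜 h𝔐
  isFinitePresentation_pull (T := (𝔜.X 0).carrier) (T' := (𝔛.X 0).carrier)
    (f := ((φ : FSch.Hom 𝔛 𝔜).app 0).base) (sharp := FSch.Hom.sharp φ h𝔛.1 h𝔜.1)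
    (M := 𝔐.realMod h𝔜.1)

include h𝔛 h𝔜 h𝔐 in
/-- The inverse image of the realisation is the realisation of the inverse image system. -/
theorem isIso_pullRealHom : IsIso (pullRealHom φ h𝔛.1 h𝔜.1 𝔐) := by
  let P := (FSch.pullF φ h𝔛.1 h𝔜.1).obj (𝔐.realMod h𝔜.1)
  have hP := isCohF_pullF_realMod φ h𝔛 h𝔜 h𝔐
  haveI := isIso_toRealMod h𝔛 hP
  have hcoh : (pullSys h𝔛.1 P).IsCoh := fun k => isCoh_pull h𝔛 P hP k
  obtain ⟨Ψ, hΨ⟩ := (bijective_realModMap h𝔛 hcoh (FSch.ModSys.pullback φ 𝔐)).2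
    (inv (toRealMod h𝔛.1 P) ≫ pullRealHom φ h𝔛.1 h𝔜.1 𝔐)
  have hfac : pullRealHom φ h𝔛.1 h𝔜.1 𝔐 = toRealMod h𝔛.1 P ≫ FSch.ModSys.realModMap h𝔛.1 Ψ := by
    rw [show FSch.ModSys.realModMap h𝔛.1 Ψ = _ from hΨ, IsIso.hom_inv_id_assoc]
  have hΨi : ∀ k, IsIso (Ψ.app k) := fun k => by
    have h1 : (FSch.levelMor 𝔛 h𝔛.1 k).adj.homEquiv _ _ (Ψ.app k) = pullProj φ h𝔛.1 h𝔜.1 𝔐 k := by
      refine Eq.trans ?_ (pullRealHom_realProj φ h𝔛.1 h𝔜.1 𝔐 k)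
      rw [hfac]
      refine ((FSch.levelMor 𝔛 h𝔛.1 k).adj.homEquiv_unit _ _ _).trans ?_
      refine Eq.trans ?_ (Category.assoc _ _ _).symm
      refine Eq.trans ?_ (congrArg (_ ≫ ·) (FSch.realLimMap_realProj 𝔛 h𝔛.1 _ _ k)).symm
      refine Eq.trans ?_ (Category.assoc _ _ _)
      exact congrArg (· ≫ (FSch.levelMor 𝔛 h𝔛.1 k).push.map (Ψ.app k)) (toRealMod_realProj h𝔛.1 P k).symm
    rw [← ((FSch.levelMor 𝔛 h𝔛.1 k).adj.homEquiv _ _).symm_apply_apply (Ψ.app k), h1]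
    exact isIso_adjunct_pullProj φ h𝔛 h𝔜 h𝔐 k
  haveI : IsIso (FSch.ModSys.realModMap h𝔛.1 Ψ) := by
    unfold FSch.ModSys.realModMap FSch.realLimMap
    refine @isIso_limMap _ _ _ _ _ _ _ _ _ (@NatIso.isIso_of_isIso_app _ _ _ _ _ _ _ fun ⟨j⟩ => ?_)
    exact @Functor.map_isIso _ _ _ _ _ _ (FSch.levelMor 𝔛 h𝔛.1 j).push (Ψ.app j) (hΨi j)
  rw [hfac]
  exact inferInstanceAs (IsIso (_ ≫ _))

end Iso

end Groth.Agent.FMod90
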