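import Groth.Agent.FMod90.QARetract
import Groth.Agent.SheafHomX.Main
import Groth.Agent.QCoh.Support
import Groth.Prelude.Def_Formal

/-!
# Formal sections of locally free modules on quasi-affine schemes
-/

set_option autoImplicit false
set_option maxHeartbeats 1000000
set_option backward.isDefEq.respectTransparency false
set_option backward.isDefEq.respectTransparency.types false

universe u

open CategoryTheory CategoryTheory.Limits AlgebraicGeometry TopologicalSpace Opposite

namespace Groth.Agent.FMod90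

variable {A : Type u} [CommRing A] {X : Scheme.{u}} [X.Over (Spec (CommRingCat.of A))] (I : Ideal A)
  {M N : X.Modules}

/-- Global sections as classes of degree zero. -/
noncomputable def γ0 (F : X.Modules) : Coh.HH X F 0 ≃+ Γ(F, ⊤) :=
  Sheaf.H.equiv₀ (Coh.toAb F) isTerminalTop

theorem γ0_map (φ : M ⟶ N) (x : Coh.HH X M 0) :
    γ0 N (Sheaf.H.map ((SheafOfModules.toSheaf _).map φ) 0 x) = φ.app ⊤ (γ0 M x) :=
  (Sheaf.H.equiv₀_naturality isTerminalTop ((SheafOfModules.toSheaf _).map φ) x).symm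

/-- Injectivity of the comparison with formal sections, on sections. -/
def SecInj (F : X.Modules) : Prop :=
  ∀ s : Γ(F, ⊤), (∀ n, (Formal.modPowπ I (n + 1) F).app ⊤ s = 0) → s = 0

/-- Surjectivity of the comparison with formal sections, on sections. -/
def SecSurj (F : X.Modules) : Prop :=
  ∀ y : ∀ n, Γ(Formal.modPow I (n + 1) F, ⊤), (∀ n, (Formal.modPowTrans I (n + 1) F).app ⊤ (y (n + 1)) = y n) →
    ∃ s : Γ(F, ⊤), ∀ n, (Formal.modPowπ I (n + 1) F).app ⊤ s = y n

theorem bijective_toHHlim_zero_iff (F : X.Modules) :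
    Function.Bijective (Formal.toHHlim I F 0) ↔ SecInj I F ∧ SecSurj I F := by
  refine ⟨fun h => ⟨fun s hs => ?_, fun y hy => ?_⟩, fun h => ⟨(injective_iff_map_eq_zero _).2 fun x hx => ?_, fun y => ?_⟩⟩
  · have h1 : (γ0 F).symm s = 0 := (injective_iff_map_eq_zero _).1 h.1 _ (Subtype.ext (funext fun n =>
      (γ0 _).injective ((γ0_map _ _).trans (by rw [AddEquiv.apply_symm_apply]; exact (hs n).trans (map_zero _).symm))))
    simpa using congrArg (γ0 F) h1
  · obtain ⟨x, hx⟩ := h.2 ⟨fun n => (γ0 _).symm (y n), fun n => (γ0 _).injective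
      ((γ0_map _ _).trans (by rw [AddEquiv.apply_symm_apply, AddEquiv.apply_symm_apply]; exact hy n))⟩
    refine ⟨γ0 F x, fun n => ?_⟩
    have h1 := congrArg (γ0 _) (congrFun (congrArg Subtype.val hx) n)
    rw [AddEquiv.apply_symm_apply] at h1
    exact (γ0_map _ _).symm.trans h1
  · refine (γ0 F).injective ((h.1 _ fun n => ?_).trans (map_zero _).symm)
    exact (γ0_map _ _).symm.trans
      ((congrArg (γ0 _) (congrFun (congrArg Subtype.val hx) n)).trans (map_zero _))
  · obtain ⟨s, hs⟩ := h.2 (fun n => γ0 _ (y.1 n)) fun n => (γ0_map _ _).symm.trans (congrArg _ (y.2 n))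
    exact ⟨(γ0 F).symm s, Subtype.ext (funext fun n => (γ0 _).injective
      ((γ0_map _ _).trans (by rw [AddEquiv.apply_symm_apply]; exact hs n)))⟩

theorem smulFamily_comp_π (φ : M ⟶ N) (n : ℕ) :
    Formal.smulFamily (I ^ n) M ≫ φ ≫ Formal.modPowπ I n N = 0 := by
  apply Sigma.hom_ext
  intro a
  rw [comp_zero, ← Category.assoc, Formal.smulFamily, Sigma.ι_desc, ← Category.assoc, FFun.smulMod_naturality,
    Category.assoc]
  have e : Formal.smulMod A N (a : A) =
      Sigma.ι (fun _ : (I ^ n : Ideal A) => N) a ≫ Formal.smulFamily (I ^ n) N := by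
    rw [Formal.smulFamily, Sigma.ι_desc]
  rw [e, Category.assoc, Formal.modPowπ, cokernel.condition, comp_zero, comp_zero]

/-- A morphism modulo a power. -/
noncomputable def modMap (φ : M ⟶ N) (n : ℕ) : Formal.modPow I n M ⟶ Formal.modPow I n N :=
  cokernel.desc _ (φ ≫ Formal.modPowπ I n N) (smulFamily_comp_π I φ n)

theorem π_modMap (φ : M ⟶ N) (n : ℕ) :
    Formal.modPowπ I n M ≫ modMap I φ n = φ ≫ Formal.modPowπ I n N :=
  cokernel.π_desc _ _ _

theorem modMap_trans (φ : M ⟶ N) (n : ℕ) :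
    modMap I φ (n + 1) ≫ Formal.modPowTrans I n N = Formal.modPowTrans I n M ≫ modMap I φ n := by
  haveI : Epi (Formal.modPowπ I (n + 1) M) := inferInstanceAs (Epi (cokernel.π _))
  rw [← cancel_epi (Formal.modPowπ I (n + 1) M), ← Category.assoc, π_modMap, Category.assoc,
    Formal.modPowπ_trans, ← Category.assoc, Formal.modPowπ_trans, π_modMap]

theorem smulModΓ_comp (φ : M ⟶ N) (r : Γ(X, ⊤)) :
    Formal.smulModΓ M r ≫ φ = φ ≫ Formal.smulModΓ N r := by
  refine Scheme.Modules.hom_ext _ _ fun U => ?_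
  ext m
  exact Scheme.Modules.Hom.app_smul φ _ m

theorem modMap_retract {n : ℕ} (θ : Fin n → (M ⟶ N)) (e : Fin n → (N ⟶ M)) (r : Γ(X, ⊤))
    (h : ∑ k, θ k ≫ e k = Formal.smulModΓ M r) (m : ℕ) :
    ∑ k, modMap I (θ k) m ≫ modMap I (e k) m = Formal.smulModΓ (Formal.modPow I m M) r := by
  haveI : Epi (Formal.modPowπ I m M) := inferInstanceAs (Epi (cokernel.π _))
  rw [← cancel_epi (Formal.modPowπ I m M), ← smulModΓ_comp, ← h, Preadditive.sum_comp, Preadditive.comp_sum]
  refine Finset.sum_congr rfl fun k _ => ?_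
  rw [← Category.assoc, π_modMap, Category.assoc, π_modMap, Category.assoc]

theorem eq_zero_of_smul_cover {ι : Type*} (f : ι → Γ(X, ⊤)) (hf : ∀ x : X, ∃ i, x ∈ X.basicOpen (f i))
    (s : Γ(M, ⊤)) (hs : ∀ i, f i • s = 0) : s = 0 := by
  refine ZClosLib.section_ext M _ _ fun x _ => ?_
  obtain ⟨i, hi⟩ := hf x
  rw [map_zero, ← RefX.germ_res M (X.basicOpen_le (f i)) hi s,
    show AModX.res M (X.basicOpen_le (f i)) s = 0 from QCoh.res_eq_zero_of_smul_eq_zero _ (f i) le_rfl s (hs i),
    map_zero]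

section

variable {ι : Type u} (f : ι → Γ(X, ⊤)) (hf : ∀ x : X, ∃ i, x ∈ X.basicOpen (f i)) {E : X.Modules}
  (n : ι → ℕ) (θ : ∀ i, Fin (n i) → (E ⟶ Coh.structureModule X)) (e : ∀ i, Fin (n i) → (Coh.structureModule X ⟶ E))
  (h : ∀ i, ∑ k, θ i k ≫ e i k = Formal.smulModΓ E (f i))

include hf h in
theorem secInj_of_retract (hO : SecInj I (Coh.structureModule X)) : SecInj I E := by
  intro s hs
  refine eq_zero_of_smul_cover f hf s fun i => ?_
  have h1 : (Formal.smulModΓ E (f i)).app ⊤ s = 0 := by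
    rw [← h i, app_sum]
    refine Finset.sum_eq_zero fun k _ => ?_
    change (e i k).app ⊤ ((θ i k).app ⊤ s) = 0
    rw [hO ((θ i k).app ⊤ s) fun m => ?_, map_zero]
    have h2 := congrArg (fun φ => Scheme.Modules.Hom.app φ ⊤ s) (π_modMap I (θ i k) (m + 1))
    refine h2.symm.trans ?_
    change (modMap I (θ i k) (m + 1)).app ⊤ ((Formal.modPowπ I (m + 1) E).app ⊤ s) = 0
    rw [hs m, map_zero]
  rwa [smulModΓ_app, AModX.resR_self] at h1

theorem π_modMap_app (φ : M ⟶ N) (m : ℕ) (s : Γ(M, ⊤)) :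
    (modMap I φ m).app ⊤ ((Formal.modPowπ I m M).app ⊤ s) = (Formal.modPowπ I m N).app ⊤ (φ.app ⊤ s) := by
  have e : Scheme.Modules.Hom.app (Formal.modPowπ I m M ≫ modMap I φ m) ⊤ =
      Scheme.Modules.Hom.app (φ ≫ Formal.modPowπ I m N) ⊤ := by rw [π_modMap]
  exact congr($e s)

theorem modMap_trans_app (φ : M ⟶ N) (m : ℕ) (z : Γ(Formal.modPow I (m + 1) M, ⊤)) :
    (Formal.modPowTrans I m N).app ⊤ ((modMap I φ (m + 1)).app ⊤ z) =
      (modMap I φ m).app ⊤ ((Formal.modPowTrans I m M).app ⊤ z) := by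
  have e : Scheme.Modules.Hom.app (modMap I φ (m + 1) ≫ Formal.modPowTrans I m N) ⊤ =
      Scheme.Modules.Hom.app (Formal.modPowTrans I m M ≫ modMap I φ m) ⊤ := by rw [modMap_trans]
  exact congr($e z)

include hf in
theorem exists_divide (s : ι → Γ(E, ⊤)) (hcomm : ∀ i j, f j • s i = f i • s j) :
    ∃ t : Γ(E, ⊤), ∀ i, f i • t = s i := by
  let r : ∀ i, Γ(X, X.basicOpen (f i)) := fun i => AModX.resR (le_top : X.basicOpen (f i) ≤ ⊤) (f i)
  have hr : ∀ i, IsUnit (r i) := fun i => AModX.isUnit_resR _ _ le_rfl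
  choose w hw using fun i => (show ∃ w : Γ(E, X.basicOpen (f i)), r i • w = AModX.res E le_top (s i) from
    ⟨(↑(hr i).unit⁻¹ : Γ(X, X.basicOpen (f i))) • AModX.res E le_top (s i),
      by rw [smul_smul, IsUnit.mul_val_inv, one_smul]⟩)
  have key : ∀ i {W : X.Opens} (hW : W ≤ X.basicOpen (f i)),
      AModX.resR (le_top : W ≤ ⊤) (f i) • AModX.res E hW (w i) = AModX.res E le_top (s i) := fun i W hW => by
    have h1 := congrArg (AModX.res E hW) (hw i)
    rwa [AModX.res_smul, AModX.res_res, AModX.resR_resR] at h1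
  obtain ⟨t, ht, -⟩ := AModX.existsUnique_glue (M := E) (V := (⊤ : X.Opens)) (fun i => X.basicOpen (f i))
    (fun i => le_top) (fun p _ => hf p) w fun i j => by
      have hu : IsUnit (AModX.resR (le_top : X.basicOpen (f i) ⊓ X.basicOpen (f j) ≤ ⊤) (f i * f j)) := by
        rw [map_mul]
        exact (AModX.isUnit_resR _ _ inf_le_left).mul (AModX.isUnit_resR _ _ inf_le_right)
      apply hu.smul_left_cancel.1
      rw [map_mul]
      conv_rhs => rw [mul_smul, key j inf_le_right, ← AModX.res_smul, ← hcomm]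
      rw [mul_comm, mul_smul, key i inf_le_left, ← AModX.res_smul]
  refine ⟨t, fun i => sub_eq_zero.1 ?_⟩
  refine ZClosLib.section_ext E _ _ fun x _ => ?_
  obtain ⟨j, hj⟩ := hf x
  rw [map_zero, ← RefX.germ_res E (le_top : X.basicOpen (f j) ≤ ⊤) hj, show
    AModX.res E (le_top : X.basicOpen (f j) ≤ ⊤) (f i • t - s i) = 0 from ?_, map_zero]
  refine ((hr j).smul_eq_zero).1 ?_
  rw [← AModX.res_smul, smul_sub, smul_comm, hcomm i j, ← smul_sub, AModX.res_smul, map_sub, AModX.res_smul,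
    ht j]
  change _ • (r j • w j - _) = 0
  rw [hw j, sub_self, smul_zero]

include hf h in
theorem secSurj_of_retract (hinj : SecInj I E) (hO : SecSurj I (Coh.structureModule X)) : SecSurj I E := by
  intro y hy
  have hfam : ∀ i k m, (Formal.modPowTrans I (m + 1) (Coh.structureModule X)).app ⊤
      ((modMap I (θ i k) (m + 1 + 1)).app ⊤ (y (m + 1))) = (modMap I (θ i k) (m + 1)).app ⊤ (y m) :=
    fun i k m => (modMap_trans_app I (θ i k) (m + 1) _).trans (congrArg _ (hy m))
  choose a ha using fun i k => hO (fun m => (modMap I (θ i k) (m + 1)).app ⊤ (y m)) (hfam i k)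
  let s : ι → Γ(E, ⊤) := fun i => ∑ k, (e i k).app ⊤ (a i k)
  have hs : ∀ i m, (Formal.modPowπ I (m + 1) E).app ⊤ (s i) = f i • y m := fun i m => by
    have h1 := app_sum (fun k => modMap I (θ i k) (m + 1) ≫ modMap I (e i k) (m + 1)) ⊤ (y m)
    rw [modMap_retract I (θ i) (e i) (f i) (h i) (m + 1), smulModΓ_app, AModX.resR_self] at h1
    refine (map_sum ((Formal.modPowπ I (m + 1) E).app ⊤).hom _ _).trans (Eq.trans ?_ h1.symm)
    refine Finset.sum_congr rfl fun k _ => ?_
    exact (π_modMap_app I (e i k) (m + 1) (a i k)).symm.trans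
      (congrArg ((modMap I (e i k) (m + 1)).app ⊤) (ha i k m))
  have hcomm : ∀ i j, f j • s i = f i • s j := fun i j => sub_eq_zero.1 (hinj _ fun m => by
    rw [map_sub, Scheme.Modules.Hom.app_smul, Scheme.Modules.Hom.app_smul, hs, hs, smul_comm, sub_self])
  obtain ⟨t, ht⟩ := exists_divide f hf s hcomm
  refine ⟨t, fun m => sub_eq_zero.1 (eq_zero_of_smul_cover f hf _ fun i => ?_)⟩
  rw [smul_sub, ← Scheme.Modules.Hom.app_smul, ht, hs, sub_self]

end

/-- Formal sections of locally free modules on a quasi-affine scheme. -/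
theorem bijective_toHHlim_of_isQuasiAffine [IsNoetherian X] [X.IsQuasiAffine]
    (h : Function.Bijective (Formal.toHHlim I (Coh.structureModule X) 0)) {E : X.Modules}
    (hE : FlatMod.IsFinLocFree E) : Function.Bijective (Formal.toHHlim I E 0) := by
  choose f hf n θ e he using exists_retract (E := E) hE
  have hO := (bijective_toHHlim_zero_iff I _).1 h
  have hcov : ∀ x : X, ∃ i : X, x ∈ X.basicOpen (f i) := fun x => ⟨x, hf x⟩
  have hinj := secInj_of_retract I f hcov n θ e he hO.1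
  exact (bijective_toHHlim_zero_iff I _).2 ⟨hinj, secSurj_of_retract I f hcov n θ e he hinj hO.2⟩

end Groth.Agent.FMod90
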