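import Groth.Agent.RefX.QCoh
import Groth.Agent.InvX.GenEpi
import Groth.Agent.QCoh.LocFree
import Groth.Agent.QCoh.Qcqs
import Groth.Agent.FFun.Basic
import Mathlib.AlgebraicGeometry.QuasiAffine

/-!
# Locally free modules on quasi-affine schemes are locally retracts of free modules

Near every point some multiple of the identity of a finite locally free module factors globally through a finite
free module.
-/

set_option autoImplicit false
set_option maxHeartbeats 1000000
set_option backward.isDefEq.respectTransparency false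
set_option backward.isDefEq.respectTransparency.types false

universe u

open CategoryTheory CategoryTheory.Limits AlgebraicGeometry TopologicalSpace Opposite

namespace Groth.Agent.FMod90

variable {X : Scheme.{u}} {E G : X.Modules}

/-- The morphism of a global section of the sheaf Hom. -/
noncomputable def homOfSect (t : Γ(RefHull.homSh E G, ⊤)) : E ⟶ G :=
  ⟨PresheafOfModules.homMk
    { app := fun U => AddCommGrpCat.ofHom
        (AddMonoidHom.mk' (fun m : Γ(E, U.unop) => RefX.app (le_top : U.unop ≤ ⊤) t m)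
          (RefX.app_add le_top t))
      naturality := fun {U V} i => by
        ext m
        exact (RefX.res_app (le_top : U.unop ≤ ⊤) i.unop.le t m).symm }
    fun U r m => RefX.app_smul (le_top : U.unop ≤ ⊤) t r m⟩

theorem homOfSect_app (t : Γ(RefHull.homSh E G, ⊤)) (U : X.Opens) (m : Γ(E, U)) :
    (homOfSect t).app U m = RefX.app (le_top : U ≤ ⊤) t m := rfl

theorem app_sum {n : ℕ} (φ : Fin n → (E ⟶ G)) (U : X.Opens) (m : Γ(E, U)) :
    (∑ k, φ k).app U m = ∑ k, (φ k).app U m :=
  map_sum (AddMonoidHom.mk' (fun ψ : E ⟶ G => ψ.app U m) (fun _ _ => rfl)) φ Finset.univ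

theorem smulModΓ_app (M : X.Modules) (r : Γ(X, ⊤)) (U : X.Opens) (m : Γ(M, U)) :
    (Formal.smulModΓ M r).app U m = AModX.resR (le_top : U ≤ ⊤) r • m := rfl

theorem ofSect_app (t : Γ(G, ⊤)) (U : X.Opens) (r : Γ(X, U)) :
    (InvX.ofSect t).app U (show Γ(Coh.structureModule X, U) from r) = r • AModX.res G (le_top : U ≤ ⊤) t :=
  (InvX.app_eq_smul (InvX.ofSect t) r).trans (congrArg (fun z => r • AModX.res G (le_top : U ≤ ⊤) z) (InvX.one_ofSect t))

/-- A global morphism vanishing on a basic open is killed by a power. -/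
theorem exists_pow_comp_eq_zero [CompactSpace X] (hE : CohB1.IsFP E) (hG : Coh.IsQCoh G) (f : Γ(X, ⊤))
    (hW : IsAffineOpen (X.basicOpen f)) (δ : E ⟶ G)
    (h : ∀ m, δ.app (X.basicOpen f) m = 0) : ∃ M : ℕ, δ ≫ Formal.smulModΓ G (f ^ M) = 0 := by
  have h0 : AModX.res (RefHull.homSh E G) (X.basicOpen_le f) (RefHull.ofHom δ ⊤) = 0 :=
    RefX.sect_ext_affine (QCoh.isQCoh_of_isFP hE) hW le_rfl fun y m => by
      rw [RefX.res_val, RefHull.ofHom_apply, RefHull.stalkMapₗ_germ, h, map_zero]
      rfl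
  obtain ⟨M, hM⟩ := QCoh.exists_pow_smul_eq_zero_of_isCompact (RefX.isQCoh_homSh hE hG) isCompact_univ f
    (RefHull.ofHom δ ⊤) h0
  refine ⟨M, Scheme.Modules.hom_ext _ _ fun U => ?_⟩
  ext m
  refine ZClosLib.section_ext G _ _ fun y hy => ?_
  have h1 := congrArg (fun g : Γ(RefHull.homSh E G, ⊤) => g.1 ⟨y, trivial⟩ (E.presheaf.germ U y hy m)) hM
  change (f ^ M • RefHull.ofHom δ ⊤).1 ⟨y, trivial⟩ (E.presheaf.germ U y hy m) = 0 at h1
  rw [RefX.smul_val, LinearMap.smul_apply, RefHull.ofHom_apply, RefHull.stalkMapₗ_germ] at h1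
  change G.presheaf.germ U y hy (AModX.resR (le_top : U ≤ ⊤) (f ^ M) • δ.app U m) = G.presheaf.germ U y hy 0
  rw [QCoh.germ_smul', RefX.germ_resR, map_zero]
  exact h1

/-- Near every point a multiple of the identity of a finite locally free module factors through a free module. -/
theorem exists_retract [IsNoetherian X] [X.IsQuasiAffine] (hlf : FlatMod.IsFinLocFree E) (x : X) :
    ∃ (f : Γ(X, ⊤)) (_ : x ∈ X.basicOpen f) (n : ℕ) (θ : Fin n → (E ⟶ Coh.structureModule X))
      (e : Fin n → (Coh.structureModule X ⟶ E)), ∑ k, θ k ≫ e k = Formal.smulModΓ E f := by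
  obtain ⟨_, ⟨_, ⟨f, hW, rfl⟩, rfl⟩, hxf, -⟩ :=
    (Scheme.IsQuasiAffine.isBasis_basicOpen X).exists_subset_of_mem_open (Set.mem_univ x) isOpen_univ
  have hfp := QCoh.isFP_of_isFinLocFree hlf
  have hq := QCoh.isQCoh_of_isFinLocFree hlf
  haveI := QCoh.finitePresentation_of_isFP hfp hW
  haveI : Module.Flat Γ(X, X.basicOpen f) Γ(E, X.basicOpen f) :=
    (QCoh.flat_sections_iff hq hW).2 fun w _ => (QCoh.isFlat_and_isFP_iff.2 hlf).1 w
  haveI : Module.Projective Γ(X, X.basicOpen f) Γ(E, X.basicOpen f) := Module.Flat.projective_of_finitePresentation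
  obtain ⟨n, p, hp⟩ := Module.Finite.exists_fin' Γ(X, X.basicOpen f) Γ(E, X.basicOpen f)
  obtain ⟨s, hs⟩ := Module.projective_lifting_property p LinearMap.id hp
  have hsum : ∀ v, ∑ k, s v k • p (Pi.single k 1) = v := fun v => by
    simp only [← map_smul, ← map_sum]
    refine (congrArg p ?_).trans (LinearMap.congr_fun hs v)
    exact funext fun j => by simp [Finset.sum_apply, Pi.single_apply]
  letI := RefX.resModule (Coh.structureModule X) (le_refl (X.basicOpen f))
  let ε : Fin n → (Γ(E, X.basicOpen f) →ₗ[Γ(X, X.basicOpen f)] Γ(Coh.structureModule X, X.basicOpen f)) := fun k =>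
    { toFun := fun v => (show Γ(Coh.structureModule X, X.basicOpen f) from (s v k : Γ(X, X.basicOpen f)))
      map_add' := fun v w => congrFun (map_add s v w) k
      map_smul' := fun r v => by
        change s (r • v) k = AModX.resR (le_refl (X.basicOpen f)) r * s v k
        rw [map_smul, AModX.resR_self]
        rfl }
  choose N₁ t ht using fun k => QCoh.exists_pow_smul_eq_map_of_isQuasiSeparated
    (RefX.isQCoh_homSh (G := Coh.structureModule X) hfp QCoh.isQCoh_structureModule) isCompact_univ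
    isQuasiSeparated_univ f (RefX.ofLin hq hW le_rfl (ε k))
  choose N₂ t' ht' using fun k => QCoh.exists_pow_smul_eq_map_of_isQuasiSeparated hq isCompact_univ
    isQuasiSeparated_univ f (p (Pi.single k 1))
  let N : ℕ := (Finset.univ.sup N₁) + (Finset.univ.sup N₂)
  have hN : ∀ k, N₁ k + N₂ k ≤ N := fun k =>
    Nat.add_le_add (Finset.le_sup (Finset.mem_univ k)) (Finset.le_sup (Finset.mem_univ k))
  let θ : Fin n → (E ⟶ Coh.structureModule X) := fun k => homOfSect (t k)
  let e : Fin n → (Coh.structureModule X ⟶ E) := fun k =>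
    InvX.ofSect (t' k) ≫ Formal.smulModΓ E (f ^ (N - (N₁ k + N₂ k)))
  have hW0 : ∀ m, (∑ k, θ k ≫ e k - Formal.smulModΓ E (f ^ N)).app (X.basicOpen f) m = 0 := by
    intro m
    change (∑ k, θ k ≫ e k).app (X.basicOpen f) m - (Formal.smulModΓ E (f ^ N)).app (X.basicOpen f) m = 0
    rw [sub_eq_zero, app_sum, smulModΓ_app]
    conv_rhs => rw [← hsum m, Finset.smul_sum]
    refine Finset.sum_congr rfl fun k _ => ?_
    let F : Γ(X, X.basicOpen f) := AModX.resR (le_top : X.basicOpen f ≤ ⊤) f
    have hθ : (θ k).app (X.basicOpen f) m =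
        (show Γ(Coh.structureModule X, X.basicOpen f) from F ^ N₁ k * s m k) := by
      refine ZClosLib.section_ext _ _ _ fun y hy => ?_
      rw [homOfSect_app, RefX.germ_app]
      have h1 := congrArg (fun g : Γ(RefHull.homSh E (Coh.structureModule X), X.basicOpen f) =>
        g.1 ⟨y, hy⟩ (E.presheaf.germ (X.basicOpen f) y hy m)) (ht k)
      refine h1.trans ?_
      change (F ^ N₁ k • RefX.ofLin hq hW le_rfl (ε k)).1 ⟨y, hy⟩ _ = _
      rw [RefX.smul_val, LinearMap.smul_apply, RefX.ofLin_germ, ← QCoh.germ_smul']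
      rfl
    change (Formal.smulModΓ E _).app (X.basicOpen f) ((InvX.ofSect (t' k)).app (X.basicOpen f) ((θ k).app (X.basicOpen f) m)) = _
    rw [hθ, ofSect_app, smulModΓ_app, show AModX.res E _ (t' k) = F ^ N₂ k • p (Pi.single k 1) from ht' k,
      map_pow, map_pow, smul_smul, smul_smul, smul_smul]
    congr 1
    obtain ⟨d, hd⟩ := Nat.exists_eq_add_of_le (hN k)
    rw [hd, Nat.add_sub_cancel_left]
    ring
  obtain ⟨M, hM⟩ := exists_pow_comp_eq_zero hfp hq f hW _ hW0
  refine ⟨f ^ (N + M), QCoh.basicOpen_pow_of_mem f trivial hxf _, n, θ,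
    fun k => e k ≫ Formal.smulModΓ E (f ^ M), ?_⟩
  rw [Preadditive.sub_comp, sub_eq_zero, Preadditive.sum_comp] at hM
  simp only [Category.assoc] at hM
  refine hM.trans (Scheme.Modules.hom_ext _ _ fun U => ?_)
  ext m
  change (Formal.smulModΓ E _).app U ((Formal.smulModΓ E _).app U m) = _
  rw [smulModΓ_app, smulModΓ_app, smulModΓ_app, smul_smul, ← map_mul, ← pow_add, add_comm]

end Groth.Agent.FMod90
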