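import Groth.Agent.FMod90.Levels
import Groth.Agent.SheafHomX.Smul
import Groth.Agent.Algz7.CohFormal
import Groth.Agent.Algz7.Restrict
import Groth.Agent.QCoh.Support
import Groth.Agent.Adic7.Limit
import Groth.Agent.FMod90.Basic
import Groth.Prelude.Def_Formal2

/-!
# Limits of quasi-coherent formal systems
-/

set_option autoImplicit false
set_option maxHeartbeats 1000000
set_option backward.isDefEq.respectTransparency false
set_option backward.isDefEq.respectTransparency.types false

universe u

open CategoryTheory CategoryTheory.Limits AlgebraicGeometry TopologicalSpace Opposite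

namespace Groth.Agent.FMod90

variable {A : Type u} [CommRing A] {I : Ideal A} {X : Scheme.{u}} [X.Over (Spec (CommRingCat.of A))]
  {G : ℕᵒᵖ ⥤ X.Modules}

/-- The transition of a system. -/
noncomputable abbrev qtr (G : ℕᵒᵖ ⥤ X.Modules) (n : ℕ) : G.obj (op (n + 1)) ⟶ G.obj (op n) :=
  G.map (homOfLE (Nat.le_succ n)).op

/-- Sections over an open as a functor on modules. -/
noncomputable abbrev secX (U : X.Opens) : X.Modules ⥤ Type u :=
  Scheme.Modules.toPresheaf X ⋙ (evaluation (X.Opens)ᵒᵖ Ab.{u}).obj (op U) ⋙ CategoryTheory.forget Ab.{u}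

instance preservesLimit_secX (U : X.Opens) : PreservesLimit G (secX U) := by
  haveI : PreservesLimitsOfSize.{0, 0} (Scheme.Modules.toPresheaf X) := preservesSmallestLimits_of_preservesLimits _
  haveI : PreservesLimitsOfSize.{0, 0} ((evaluation (X.Opens)ᵒᵖ Ab.{u}).obj (op U)) :=
    preservesSmallestLimits_of_preservesLimits _
  haveI : PreservesLimitsOfSize.{0, 0} (CategoryTheory.forget Ab.{u}) := preservesSmallestLimits_of_preservesLimits _
  infer_instance

theorem limit_sec_ext (U : X.Opens) {s t : Γ(limit G, U)}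
    (h : ∀ n, (limit.π G (op n)).app U s = (limit.π G (op n)).app U t) : s = t :=
  eq_of_proj G (secX U) h

theorem exists_limit_sec (U : X.Opens) (y : ∀ n, Γ(G.obj (op n), U))
    (hy : ∀ n, (qtr G n).app U (y (n + 1)) = y n) :
    ∃ s : Γ(limit G, U), ∀ n, (limit.π G (op n)).app U s = y n :=
  exists_proj G (secX U) y hy

theorem π_qtr (n : ℕ) : limit.π G (op (n + 1)) ≫ qtr G n = limit.π G (op n) :=
  limit.w G (homOfLE (Nat.le_succ n)).op

variable (A) in
/-- The action of the base on sections. -/
@[reducible] noncomputable def secA (M : X.Modules) (U : X.Opens) : Module A Γ(M, U) :=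
  QCoh.secModule (Coh.toGlobal (X ↘ Spec (CommRingCat.of A))) M U

variable (A) in
/-- A morphism as a linear map on sections. -/
noncomputable def appA {M N : X.Modules} (φ : M ⟶ N) (U : X.Opens) :
    letI := secA A M U; letI := secA A N U; Γ(M, U) →ₗ[A] Γ(N, U) :=
  letI := secA A M U; letI := secA A N U
  { toFun := φ.app U
    map_add' := map_add _
    map_smul' := fun _ x => Scheme.Modules.Hom.app_smul φ _ x }

theorem smul_eq_zero_of_killed {J : Ideal A} {N : X.Modules} (hN : Formal.KilledBy J N) {a : A} (ha : a ∈ J)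
    (U : X.Opens) (x : Γ(N, U)) : letI := secA A N U; a • x = 0 := by
  letI := secA A N U
  have h := congrArg (fun φ : N ⟶ N => Scheme.Modules.Hom.app φ U) (hN a ha)
  exact congr($h x)

theorem mem_smul_of_app_eq_zero {J : Ideal A} {M N : X.Modules} (hM : Coh.IsQCoh M) (φ : M ⟶ N)
    (hφ : Formal.smulFamily J M ≫ φ = 0) [IsIso (cokernel.desc _ _ hφ)] {U : X.Opens} (hU : IsAffineOpen U)
    (x : Γ(M, U)) (hx : φ.app U x = 0) : letI := secA A M U; x ∈ J • (⊤ : Submodule A Γ(M, U)) := by
  letI := secA A M U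
  refine SheafHomX.app_cokernel_eq_zero hM J hU x ?_
  have e : cokernel.π (Formal.smulFamily J M) = φ ≫ inv (cokernel.desc _ _ hφ) := by
    rw [IsIso.eq_comp_inv, cokernel.π_desc]
  rw [e]
  change (inv (cokernel.desc _ _ hφ)).app U (φ.app U x) = 0
  rw [hx, map_zero]

variable (hG : Formal2.IsQCohFormal I G)
include hG

theorem qtr_surjective (n : ℕ) {U : X.Opens} (hU : IsAffineOpen U) : Function.Surjective ((qtr G n).app U) := by
  obtain ⟨h0, hiso⟩ := hG.2.2 n
  haveI : Epi (qtr G n) := by
    rw [show qtr G n = cokernel.π _ ≫ cokernel.desc _ _ h0 from (cokernel.π_desc _ _ h0).symm]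
    exact @epi_comp _ _ _ _ _ _ coequalizer.π_epi _ (@IsIso.epi_of_iso _ _ _ _ _ hiso)
  exact QCoh.app_surjective_of_epi (hG.1 (n + 1)) (hG.1 n) (qtr G n) hU

theorem limit_quotient_affine (hI : I.FG) {U : X.Opens} (hU : IsAffineOpen U) (n : ℕ) :
    letI := secA A (limit G) U
    Function.Surjective ((limit.π G (op n)).app U) ∧
      ∀ x, (limit.π G (op n)).app U x = 0 ↔ x ∈ I ^ (n + 1) • (⊤ : Submodule A Γ(limit G, U)) := by
  letI := secA A (limit G) U
  letI : ∀ k, Module A Γ(G.obj (op k), U) := fun k => secA A (G.obj (op k)) U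
  obtain ⟨-, h, -⟩ := Adic7.limit_quotient_system A I hI (fun k => Γ(G.obj (op k), U))
    (fun k => appA A (qtr G k) U) (fun k => qtr_surjective hG k hU)
    (fun k => by
      refine le_antisymm (fun x hx => ?_) (Submodule.smul_le.2 fun a ha x _ => ?_)
      · obtain ⟨h0, hiso⟩ := hG.2.2 k
        haveI := hiso
        exact mem_smul_of_app_eq_zero (hG.1 (k + 1)) _ h0 hU x hx
      · rw [LinearMap.mem_ker, map_smul]
        exact smul_eq_zero_of_killed (hG.2.1 k) ha U _)
    Γ(limit G, U) (fun k => appA A (limit.π G (op k)) U)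
    (fun k => LinearMap.ext fun x => congr($(congrArg (fun φ => Scheme.Modules.Hom.app φ U) (π_qtr (G := G) k)) x))
    (fun x hx => limit_sec_ext U fun k => (hx k).trans (map_zero _).symm)
    (fun y hy => exists_limit_sec U y hy)
  exact ⟨(h n).1, fun x => SetLike.ext_iff.1 (h n).2 x⟩

theorem smulFamily_π_eq_zero (n : ℕ) : Formal.smulFamily (I ^ (n + 1)) (limit G) ≫ limit.π G (op n) = 0 :=
  Algz7.smulFamily_comp_eq_zero (hG.2.1 n) _

/-- The levels of a formal system are the quotients of its limit. -/
theorem isIso_desc_limit (hI : I.FG) (n : ℕ) :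
    IsIso (cokernel.desc _ _ (smulFamily_π_eq_zero hG n)) := by
  let p := cokernel.π (Formal.smulFamily (I ^ (n + 1)) (limit G))
  let d := cokernel.desc _ _ (smulFamily_π_eq_zero hG n)
  have hB : Opens.IsBasis X.affineOpens := X.isBasis_affineOpens
  have hπepi : Epi (limit.π G (op n)) :=
    epi_of_isBasis (O := X.sheaf) (limit.π G (op n)) hB fun V hV => (limit_quotient_affine hG hI hV n).1
  haveI : Epi d := @epi_of_epi _ _ _ _ _ p d ((cokernel.π_desc _ _ (smulFamily_π_eq_zero hG n)).symm ▸ hπepi)
  haveI : Epi p := coequalizer.π_epi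
  have : Mono d := by
    refine mono_of_injective (O := X.sheaf) d fun V => (injective_iff_map_eq_zero _).2 fun z hz => ?_
    refine eq_zero_of_locally (O := X.sheaf) fun x hx => ?_
    obtain ⟨W, hW, s, hxW, hs⟩ := locLift_of_epi (O := X.sheaf) p z x hx
    obtain ⟨V', hV', hxV', hV'W⟩ := Opens.isBasis_iff_nbhd.1 hB hxW
    refine ⟨V', hV'W.trans hW, hxV', ?_⟩
    have hs' : res (O := X.sheaf) _ (hV'W.trans hW) z = appL (O := X.sheaf) p V' (res (O := X.sheaf) _ hV'W s) := by
      exact (res_res (O := X.sheaf) hW hV'W z).symm.trans ((congrArg (res (O := X.sheaf) _ hV'W) hs.symm).trans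
        (res_appL (O := X.sheaf) p hV'W s))
    rw [hs']
    letI := secA A (limit G) V'
    have hmem : (res (O := X.sheaf) (limit G) hV'W s : Γ(limit G, V')) ∈
        I ^ (n + 1) • (⊤ : Submodule A Γ(limit G, V')) := by
      refine ((limit_quotient_affine hG hI hV' n).2 _).1 ?_
      have h1 : appL (O := X.sheaf) d V' (res (O := X.sheaf) _ (hV'W.trans hW) z) = 0 := by
        exact ((res_appL (O := X.sheaf) d (hV'W.trans hW) z).symm.trans ((congrArg (res (O := X.sheaf) _ (hV'W.trans hW)) hz).trans (map_zero _)))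
      rw [hs'] at h1
      refine Eq.trans ?_ h1
      exact congr($(congrArg (fun φ => Scheme.Modules.Hom.app φ V')
        (cokernel.π_desc _ _ (smulFamily_π_eq_zero hG n)).symm) _)
    refine Submodule.smul_induction_on (p := fun m => (p.app V' m = 0)) hmem (fun a ha m _ => ?_) fun a b ha hb => ?_
    · exact congr($(congrArg (fun φ => Scheme.Modules.Hom.app φ V')
        (Algz7.smulMod_comp_eq_zero (cokernel.condition (Formal.smulFamily (I ^ (n + 1)) (limit G))) ha)) m)
    · rw [map_add, ha, hb, add_zero]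
  exact isIso_of_mono_of_epi d

end Groth.Agent.FMod90
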