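import Groth.Agent.FMod90.HV0
import Groth.Agent.FComplLib.AffSysSec
import Groth.Agent.QCoh.Tilde
import Groth.Agent.QCoh.Extension
import Groth.Agent.QCoh.Qcqs
import Groth.Agent.QCoh.Localize
import Groth.Agent.QCoh.Support
import Groth.Prelude.Def_Formal2

/-!
# Sections of the modules on a spectrum attached to modules
-/

set_option autoImplicit false
set_option maxHeartbeats 1000000
set_option backward.isDefEq.respectTransparency false
set_option backward.isDefEq.respectTransparency.types false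

universe u

open CategoryTheory CategoryTheory.Limits AlgebraicGeometry TopologicalSpace Opposite

namespace Groth.Agent.FMod90

open Formal2

variable {A : Type u} [CommRing A]
  {M N P : Type u} [AddCommGroup M] [Module A M] [AddCommGroup N] [Module A N] [AddCommGroup P] [Module A P]
  {V W : (Spec (CommRingCat.of A)).Opens}

/-- An element of the ring as a function on an open. -/
noncomputable def sc (V : (Spec (CommRingCat.of A)).Opens) : A →+* Γ(Spec (CommRingCat.of A), V) :=
  ((Spec (CommRingCat.of A)).presheaf.map (homOfLE (le_top : V ≤ ⊤)).op).hom.comp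
    (Scheme.ΓSpecIso (CommRingCat.of A)).inv.hom

/-- Restriction of sections. -/
noncomputable def sres (h : W ≤ V) : Γ(tmod A M, V) →+ Γ(tmod A M, W) :=
  ((tmod A M).presheaf.map (homOfLE h).op).hom

theorem sres_sres {W' : (Spec (CommRingCat.of A)).Opens} (h : W ≤ V) (h' : W' ≤ W) (s : Γ(tmod A M, V)) :
    sres h' (sres h s) = sres (h'.trans h) s :=
  congr($(((tmod A M).presheaf.map_comp (homOfLE h).op (homOfLE h').op).symm) s)

theorem sres_refl (h : V ≤ V) (s : Γ(tmod A M, V)) : sres h s = s :=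
  congr($((tmod A M).presheaf.map_id (op V)) s)

theorem sc_res (h : W ≤ V) (a : A) :
    (Spec (CommRingCat.of A)).presheaf.map (homOfLE h).op (sc V a) = sc W a :=
  congr($(((Spec (CommRingCat.of A)).presheaf.map_comp (homOfLE (le_top : V ≤ ⊤)).op (homOfLE h).op).symm)
    ((Scheme.ΓSpecIso (CommRingCat.of A)).inv a))

theorem sres_smul (h : W ≤ V) (a : A) (s : Γ(tmod A M, V)) :
    sres h (sc V a • s) = sc W a • sres h s :=
  (Scheme.Modules.map_smul (tmod A M) (homOfLE h) (sc V a) s).trans (congrArg (· • sres h s) (sc_res h a))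

/-- The morphism induced by a linear map, on sections. -/
noncomputable def tm (φ : M →ₗ[A] N) (V : (Spec (CommRingCat.of A)).Opens) :
    Γ(tmod A M, V) →+ Γ(tmod A N, V) :=
  ((tmodMap A φ).app V).hom

theorem tm_sres (φ : M →ₗ[A] N) (h : W ≤ V) (s : Γ(tmod A M, V)) :
    tm φ W (sres h s) = sres h (tm φ V s) :=
  congr($((tmodMap A φ).mapPresheaf.naturality (homOfLE h).op) s)

theorem tm_smul (φ : M →ₗ[A] N) (r : Γ(Spec (CommRingCat.of A), V)) (s : Γ(tmod A M, V)) :
    tm φ V (r • s) = r • tm φ V s :=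
  Scheme.Modules.Hom.app_smul _ r s

theorem tm_comp (φ : M →ₗ[A] N) (ψ : N →ₗ[A] P) (s : Γ(tmod A M, V)) :
    tm (ψ.comp φ) V s = tm ψ V (tm φ V s) := by
  have h : tmodMap A (ψ.comp φ) = tmodMap A φ ≫ tmodMap A ψ :=
    (tilde.functor (CommRingCat.of A)).map_comp (ModuleCat.ofHom φ) (ModuleCat.ofHom ψ)
  exact congr($(congrArg (fun f => Scheme.Modules.Hom.app f V) h) s)

theorem tm_zero (s : Γ(tmod A M, V)) : tm (0 : M →ₗ[A] N) V s = 0 := by
  have h : tmodMap A (0 : M →ₗ[A] N) = 0 :=
    tilde.map_zero (R := CommRingCat.of A) (M := ModuleCat.of A M) (N := ModuleCat.of A N)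
  exact congr($(congrArg (fun f => Scheme.Modules.Hom.app f V) h) s)

theorem tm_id (s : Γ(tmod A M, V)) : tm (LinearMap.id : M →ₗ[A] M) V s = s := by
  have h : tmodMap A (LinearMap.id : M →ₗ[A] M) = 𝟙 _ :=
    (tilde.functor (CommRingCat.of A)).map_id (ModuleCat.of A M)
  exact congr($(congrArg (fun f => Scheme.Modules.Hom.app f V) h) s)

/-- The section of an element. -/
noncomputable def σM (V : (Spec (CommRingCat.of A)).Opens) : M →+ Γ(tmod A M, V) :=
  (sres (le_top : V ≤ ⊤)).comp (FComplLib.θ (ModuleCat.of A M))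

theorem sres_σM (h : W ≤ V) (x : M) : sres h (σM V x) = σM W x :=
  sres_sres (le_top : V ≤ ⊤) h _

theorem σM_smul (a : A) (x : M) : σM V (a • x) = sc V a • σM V x :=
  (congrArg (sres (le_top : V ≤ ⊤)) (FComplLib.θ_smul (ModuleCat.of A M) a x)).trans
    (Scheme.Modules.map_smul (tmod A M) (homOfLE (le_top : V ≤ ⊤)) _ _)

theorem tm_σM (φ : M →ₗ[A] N) (x : M) : tm φ V (σM V x) = σM V (φ x) :=
  (tm_sres φ (le_top : V ≤ ⊤) _).trans
    (congrArg (sres (le_top : V ≤ ⊤)) (FComplLib.θ_naturality (ModuleCat.ofHom φ) x))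

/-- The basic open of an element. -/
noncomputable def Db (c : A) : (Spec (CommRingCat.of A)).Opens :=
  (Spec (CommRingCat.of A)).basicOpen ((Scheme.ΓSpecIso (CommRingCat.of A)).inv c)

theorem isUnit_sc {c : A} (h : W ≤ Db c) : IsUnit (sc W c) := by
  have h1 := (RingedSpace.isUnit_res_basicOpen (Spec (CommRingCat.of A)).toRingedSpace
    ((Scheme.ΓSpecIso (CommRingCat.of A)).inv c)).map
      ((Spec (CommRingCat.of A)).presheaf.map (homOfLE h).op).hom
  exact (congrArg IsUnit (congr($(((Spec (CommRingCat.of A)).presheaf.map_comp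
    (homOfLE (le_top : Db c ≤ ⊤)).op (homOfLE h).op).symm) ((Scheme.ΓSpecIso (CommRingCat.of A)).inv c)))).mp h1

theorem exists_Db_le {x : Spec (CommRingCat.of A)} (hx : x ∈ V) : ∃ c, x ∈ Db c ∧ Db c ≤ V := by
  obtain ⟨g, hgV, hxg⟩ := (isAffineOpen_top (Spec (CommRingCat.of A))).exists_basicOpen_le ⟨x, hx⟩ trivial
  obtain ⟨c, rfl⟩ := (ConcreteCategory.bijective_of_isIso (Scheme.ΓSpecIso (CommRingCat.of A)).inv).2 g
  exact ⟨c, hxg, hgV⟩

/-- Sections are locally fractions. -/
theorem exists_frac (s : Γ(tmod A M, V)) {c : A} (h : Db c ≤ V) :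
    ∃ (l : ℕ) (m : M), sc (Db c) c ^ l • sres h s = σM (Db c) m := by
  obtain ⟨l, t, ht⟩ := QCoh.exists_pow_smul_eq_map (FComplLib.isQCoh_tilde (ModuleCat.of A M))
    (isAffineOpen_top (Spec (CommRingCat.of A))) ((Scheme.ΓSpecIso (CommRingCat.of A)).inv c) (sres h s)
  obtain ⟨m, rfl⟩ := (FComplLib.bijective_θ (ModuleCat.of A M)).2 t
  exact ⟨l, m, ht.symm⟩

theorem tsec_eq_of_locally {s t : Γ(tmod A M, V)}
    (h : ∀ x ∈ V, ∃ (W : (Spec (CommRingCat.of A)).Opens) (hW : W ≤ V), x ∈ W ∧ sres hW s = sres hW t) :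
    s = t := by
  choose W hW hx he using h
  exact TopCat.Sheaf.eq_of_locally_eq' ((SheafOfModules.toSheaf _).obj (tmod A M))
    (fun x : V => W x.1 x.2) V (fun x => homOfLE (hW x.1 x.2))
    (fun x hxV => Opens.mem_iSup.2 ⟨⟨x, hxV⟩, hx x hxV⟩) s t fun x => he x.1 x.2

theorem tsec_eq_zero_of_locally {s : Γ(tmod A M, V)}
    (h : ∀ x ∈ V, ∃ (W : (Spec (CommRingCat.of A)).Opens) (hW : W ≤ V), x ∈ W ∧ sres hW s = 0) : s = 0 :=
  tsec_eq_of_locally fun x hx => by
    obtain ⟨W, hW, hxW, he⟩ := h x hx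
    exact ⟨W, hW, hxW, he.trans (map_zero _).symm⟩

/-- A scalar killing the module kills the sections. -/
theorem sc_smul_eq_zero {a : A} (ha : ∀ m : M, a • m = 0) (s : Γ(tmod A M, V)) : sc V a • s = 0 := by
  refine tsec_eq_zero_of_locally fun x hx => ?_
  obtain ⟨c, hxc, hc⟩ := exists_Db_le hx
  obtain ⟨l, m, hm⟩ := exists_frac s hc
  refine ⟨Db c, hc, hxc, ((isUnit_sc (le_refl (Db c))).pow l).smul_eq_zero.1 ?_⟩
  rw [sres_smul, smul_comm, hm, ← σM_smul, ha, map_zero]

/-- A section vanishing on a basic open is killed by a power. -/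
theorem exists_pow_smul_eq_zero_sec [IsNoetherianRing A] (s : Γ(tmod A M, V)) (c : A)
    (h : sres (inf_le_left : V ⊓ Db c ≤ V) s = 0) : ∃ n : ℕ, sc V c ^ n • s = 0 := by
  refine QCoh.exists_pow_smul_eq_zero_of_isCompact (FComplLib.isQCoh_tilde (ModuleCat.of A M))
    (TopologicalSpace.NoetherianSpace.isCompact _) (sc V c) s ?_
  have e : (Spec (CommRingCat.of A)).basicOpen (sc V c) = V ⊓ Db c :=
    Scheme.basicOpen_res _ _ _
  have key : ∀ (W₀ : (Spec (CommRingCat.of A)).Opens) (hW₀ : V ⊓ Db c = W₀) (hle : W₀ ≤ V),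
      sres hle s = 0 := by
    rintro _ rfl hle
    exact h
  exact key _ e.symm _

section exact

variable (f : M →ₗ[A] N) (g : N →ₗ[A] P)

theorem tm_injective (hf : Function.Injective f) : Function.Injective (tm f V) :=
  haveI : Mono (ModuleCat.ofHom f) := (ModuleCat.mono_iff_injective _).2 hf
  haveI : Mono (tmodMap A f) := QCoh.tildeMap_mono (R := CommRingCat.of A) (ModuleCat.ofHom f)
  QCoh.app_injective (tmodMap A f) V

theorem exists_tm_eq (hf : Function.Injective f) (hfg : LinearMap.range f = LinearMap.ker g)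
    (s : Γ(tmod A N, V)) (hs : tm g V s = 0) : ∃ t, tm f V t = s := by
  let g' : N →ₗ[A] LinearMap.range g := g.rangeRestrict
  have hs' : tm g' V s = 0 := by
    apply tm_injective (LinearMap.range g).subtype Subtype.val_injective
    rw [← tm_comp, map_zero]
    exact hs
  have w : ModuleCat.ofHom f ≫ ModuleCat.ofHom g' = 0 := ModuleCat.hom_ext (LinearMap.ext fun x =>
    Subtype.ext (show f x ∈ LinearMap.ker g from hfg ▸ LinearMap.mem_range_self f x))
  let S : ShortComplex (ModuleCat.{u} A) := ShortComplex.mk (ModuleCat.ofHom f) (ModuleCat.ofHom g') w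
  have hS : S.ShortExact :=
    { exact := (ShortComplex.moduleCat_exact_iff _).2 fun x hx =>
        (hfg.ge (show x ∈ LinearMap.ker g from congrArg Subtype.val hx) : x ∈ LinearMap.range f)
      mono_f := (ModuleCat.mono_iff_injective _).2 hf
      epi_g := (ModuleCat.epi_iff_surjective _).2 g.surjective_rangeRestrict }
  haveI : (tilde.functor (CommRingCat.of A)).PreservesZeroMorphisms := ⟨fun _ _ => tilde.map_zero⟩
  haveI : (tilde.functor (CommRingCat.of A)).Additive := ⟨fun {_ _} {_ _} => tilde.map_add _ _⟩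
  haveI := QCoh.tilde_preservesFiniteLimits (R := CommRingCat.of A)
  haveI : PreservesFiniteColimits (tilde.functor (CommRingCat.of A)) :=
    haveI := (tilde.adjunction (R := CommRingCat.of A)).leftAdjoint_preservesColimits
    inferInstance
  exact QCoh.exists_app_f_eq (hS.map_of_exact (tilde.functor (CommRingCat.of A))) V s hs'

end exact

end Groth.Agent.FMod90
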