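import Groth.Agent.FMod90.AffCompl
import Mathlib.RingTheory.RingHom.FiniteType

/-!
# Completed finite modules over algebras topologically of finite type
-/

set_option autoImplicit false
set_option maxHeartbeats 1000000

universe u

open CategoryTheory CategoryTheory.Limits AlgebraicGeometry TopologicalSpace Opposite

namespace Groth.Agent.FMod90

open AdicRing

variable {R : Type u} [CommRing R] {I : Ideal R} (hR : IsBase R I) {A : Type u} [CommRing A] [Algebra R A]
  (hA : TopFiniteType R I A)

include hR hA in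
theorem isAdicComplete_finite (M : Type u) [AddCommGroup M] [Module A M] [Module.Finite A M] :
    IsAdicComplete (I.map (algebraMap R A)) M := by
  letI : Module R M := Module.compHom M (algebraMap R A)
  haveI : IsScalarTower R A M := IsScalarTower.of_algebraMap_smul fun _ _ => rfl
  exact (IsAdicComplete.map_algebraMap_iff I M).mpr (Frg7.isAdicComplete hR hA M)

variable (h : (FSch.completionAlong (Spec (CommRingCat.of A))
  (FSch.idealSpec A (I.map (algebraMap R A)))).IsFormal)

include hR hA in
/-- Artin-Rees for finite modules over algebras of finite type. -/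
theorem hasAR_of_finiteType {C : Type u} [CommRing C] (φ : A →+* C) (hφ : φ.FiniteType) {N : Type u}
    [AddCommGroup N] [Module C N] [Module.Finite C N] (P : Submodule C N) :
    HasAR ((I.map (algebraMap R A)).map φ) P := by
  letI : Algebra A C := φ.toAlgebra
  letI : Algebra R C := (φ.comp (algebraMap R A)).toAlgebra
  haveI : IsScalarTower R A C := IsScalarTower.of_algebraMap_eq fun _ => rfl
  haveI : Algebra.FiniteType A C := hφ
  letI : Module R N := Module.compHom N (algebraMap R C)
  haveI : IsScalarTower R C N := IsScalarTower.of_algebraMap_smul fun _ _ => rfl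
  obtain ⟨c, hc⟩ := (Frg7.nice_of_finiteType hR hA C).artinRees (M := N) P
  have hres : ∀ (k : ℕ) (Q : Submodule C N) (x : N),
      x ∈ ((I.map (algebraMap R A)).map φ) ^ k • Q ↔ x ∈ I ^ k • Q.restrictScalars R := fun k Q x => by
    rw [Ideal.map_map, ← Ideal.map_pow, ← Submodule.restrictScalars_mem R]
    exact SetLike.ext_iff.1 (Ideal.smul_restrictScalars (S := C) (I ^ k) Q) x
  refine ⟨c, fun k x hx => (hres k P x).2 (hc k ⟨?_, hx.2⟩)⟩
  have h1 := (hres (k + c) ⊤ x).1 hx.1
  rwa [Submodule.restrictScalars_top] at h1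

include hR hA in
/-- Artin-Rees on the basic opens of the spectrum. -/
theorem hasAR_basicOpen {F G : (Spec (CommRingCat.of A)).Modules} (g : Γ(Spec (CommRingCat.of A), ⊤))
    [Module.Finite Γ(Spec (CommRingCat.of A), ((Spec (CommRingCat.of A)).affineBasicOpen (U := ⟨⊤, isAffineOpen_top _⟩) g).1)
      Γ(G, ((Spec (CommRingCat.of A)).affineBasicOpen (U := ⟨⊤, isAffineOpen_top _⟩) g).1)]
    (l : Γ(F, ((Spec (CommRingCat.of A)).affineBasicOpen (U := ⟨⊤, isAffineOpen_top _⟩) g).1) →ₗ[Γ(Spec (CommRingCat.of A),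
      ((Spec (CommRingCat.of A)).affineBasicOpen (U := ⟨⊤, isAffineOpen_top _⟩) g).1)]
        Γ(G, ((Spec (CommRingCat.of A)).affineBasicOpen (U := ⟨⊤, isAffineOpen_top _⟩) g).1)) :
    HasAR ((FSch.idealSpec A (I.map (algebraMap R A))).ideal
        ((Spec (CommRingCat.of A)).affineBasicOpen (U := ⟨⊤, isAffineOpen_top _⟩) g))
      (LinearMap.range l) := by
  let D := (Spec (CommRingCat.of A)).affineBasicOpen (U := ⟨⊤, isAffineOpen_top _⟩) g
  let φ : A →+* Γ(Spec (CommRingCat.of A), D.1) :=
    ((Spec (CommRingCat.of A)).presheaf.map (homOfLE ((Spec (CommRingCat.of A)).basicOpen_le g)).op).hom.comp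
      (Scheme.ΓSpecIso (CommRingCat.of A)).inv.hom
  have hφ : φ.FiniteType := by
    haveI := (isAffineOpen_top (Spec (CommRingCat.of A))).isLocalization_basicOpen g
    have h1 : (algebraMap Γ(Spec (CommRingCat.of A), ⊤) Γ(Spec (CommRingCat.of A), (Spec (CommRingCat.of A)).basicOpen g)).FiniteType :=
      (RingHom.finiteType_algebraMap).2 (IsLocalization.finiteType_of_monoid_fg (Submonoid.powers g) _)
    exact h1.comp (RingHom.FiniteType.of_surjective _
      (ConcreteCategory.bijective_of_isIso (Scheme.ΓSpecIso (CommRingCat.of A)).inv).2)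
  have hid : (FSch.idealSpec A (I.map (algebraMap R A))).ideal D =
      (I.map (algebraMap R A)).map φ := by
    refine ((FSch.idealSpec A (I.map (algebraMap R A))).map_ideal_basicOpen ⟨⊤, isAffineOpen_top _⟩ g).symm.trans ?_
    rw [FComplLib.AffData.idealSpec_ideal_top, Ideal.map_map]
    rfl
  rw [hid]
  exact hasAR_of_finiteType hR hA φ hφ (LinearMap.range l)

include hR hA in
/-- Completion is exact on finite modules. -/
theorem shortExact_tilde (S : ShortComplex (ModuleCat.{u} (CommRingCat.of A))) (hS : S.ShortExact)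
    [Module.Finite A S.X₁] [Module.Finite A S.X₂] [Module.Finite A S.X₃] :
    ∃ w : FSch.ModSys.realModMap h (FSch.complModMap (FSch.idealSpec A (I.map (algebraMap R A))) ((tilde.functor (CommRingCat.of A)).map S.f)) ≫
        FSch.ModSys.realModMap h (FSch.complModMap (FSch.idealSpec A (I.map (algebraMap R A))) ((tilde.functor (CommRingCat.of A)).map S.g)) = 0,
      (ShortComplex.mk _ _ w).ShortExact := by
  haveI : (tilde.functor (CommRingCat.of A)).PreservesZeroMorphisms := ⟨fun _ _ => tilde.map_zero⟩
  haveI : (tilde.functor (CommRingCat.of A)).Additive := ⟨fun {_ _} {_ _} => tilde.map_add _ _⟩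
  haveI := QCoh.tilde_preservesFiniteLimits (R := CommRingCat.of A)
  haveI : PreservesFiniteColimits (tilde.functor (CommRingCat.of A)) :=
    haveI := (tilde.adjunction (R := CommRingCat.of A)).leftAdjoint_preservesColimits
    inferInstance
  have hw : (tilde.functor (CommRingCat.of A)).map S.f ≫ (tilde.functor (CommRingCat.of A)).map S.g = 0 := by rw [← (tilde.functor (CommRingCat.of A)).map_comp, S.zero, (tilde.functor (CommRingCat.of A)).map_zero]
  refine ⟨realModMap_comp_eq_zero h _ _ hw, ?_⟩
  let B : Set (Spec (CommRingCat.of A)).affineOpens :=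
    Set.range fun g => (Spec (CommRingCat.of A)).affineBasicOpen (U := ⟨⊤, isAffineOpen_top _⟩) g
  refine shortExact_complMod_of_hasAR h (S.map (tilde.functor (CommRingCat.of A))) (hS.map_of_exact (tilde.functor (CommRingCat.of A)))
    (FComplLib.isQCoh_tilde _) (FComplLib.isQCoh_tilde _) (FComplLib.isQCoh_tilde _) B ?_ ?_ _
  · rw [Opens.isBasis_iff_nbhd]
    intro V x hx
    obtain ⟨g, hgV, hxg⟩ := exists_basic_trO (⟨⊤, isAffineOpen_top _⟩ : (Spec (CommRingCat.of A)).affineOpens)
      (show V ≤ _ from fun y _ => trivial) hx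
    exact ⟨_, ⟨_, ⟨g, rfl⟩, rfl⟩, hxg, hgV⟩
  · rintro _ ⟨g, rfl⟩ l -
    obtain ⟨n, t, ht⟩ := Module.Finite.exists_fin (R := A) (M := S.X₂)
    have hs : ∀ y, ∃ a : Fin n → Γ(Spec (CommRingCat.of A), ⊤),
        ∑ i, a i • FComplLib.θ S.X₂ (t i) = y := fun y => by
      obtain ⟨x, rfl⟩ := (FComplLib.bijective_θ S.X₂).2 y
      obtain ⟨a, ha⟩ := (Submodule.mem_span_range_iff_exists_fun A).1
        (ht ▸ Submodule.mem_top : x ∈ Submodule.span A (Set.range t))
      refine ⟨fun i => (Scheme.ΓSpecIso (CommRingCat.of A)).inv (a i), ?_⟩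
      rw [← ha, map_sum]
      exact Finset.sum_congr rfl fun i _ => (FComplLib.θ_smul S.X₂ (a i) (t i)).symm
    haveI : Module.Finite Γ(Spec (CommRingCat.of A), ((Spec (CommRingCat.of A)).affineBasicOpen (U := ⟨⊤, isAffineOpen_top _⟩) g).1)
        Γ((S.map (tilde.functor (CommRingCat.of A))).X₂, ((Spec (CommRingCat.of A)).affineBasicOpen (U := ⟨⊤, isAffineOpen_top _⟩) g).1) := by
      refine Module.Finite.of_surjective (Fintype.linearCombination _ fun i =>
        (tilde (R := CommRingCat.of A) S.X₂).presheaf.map (homOfLE ((Spec (CommRingCat.of A)).basicOpen_le g)).op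
          (FComplLib.θ S.X₂ (t i))) fun y => ?_
      obtain ⟨a, ha⟩ := exists_comb_basicOpen (isAffineOpen_top _) g _ (FComplLib.isQCoh_tilde S.X₂) rfl
        ((Spec (CommRingCat.of A)).basicOpen_le g) hs y
      exact ⟨a, (Fintype.linearCombination_apply _ _ _).trans ha⟩
    exact hasAR_basicOpen hR hA g l

end Groth.Agent.FMod90
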