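import Mathlib.Algebra.Homology.DerivedCategory.Ext.ExactSequences
import Mathlib.Algebra.Homology.DerivedCategory.Ext.EnoughInjectives
import Mathlib.CategoryTheory.Functor.OfSequence
import Groth.Prelude.Def_Formal2

/-!
# The Milnor sequence for Ext groups into the limit of a tower

Given a termwise short exact sequence of towers with injective middle term and split transitions there, whose
limit is again short exact, the Ext groups into the limit sit in a Milnor sequence.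
-/

set_option autoImplicit false

universe u w v

open CategoryTheory CategoryTheory.Limits Opposite Abelian

namespace Groth.Agent.FMod90.Milnor

variable {C : Type v} [Category.{u} C] [Abelian C] [HasExt.{u} C] (Z : C)

/-- The transition of a tower. -/
abbrev ttr (F : ℕᵒᵖ ⥤ C) (n : ℕ) : F.obj (op (n + 1)) ⟶ F.obj (op n) :=
  F.map (homOfLE (Nat.le_succ n)).op

/-- Ext groups out of a fixed object. -/
abbrev EG (F : C) (p : ℕ) : Type u := Ext Z F p

/-- Functoriality of `EG`. -/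
noncomputable abbrev emap {F G : C} (φ : F ⟶ G) (p : ℕ) : EG Z F p →+ EG Z G p :=
  (Ext.mk₀ φ).postcomp Z (add_zero p)

theorem emap_comp {F G H : C} (φ : F ⟶ G) (ψ : G ⟶ H) (p : ℕ) (x : EG Z F p) :
    emap Z (φ ≫ ψ) p x = emap Z ψ p (emap Z φ p x) := by
  change x.comp (Ext.mk₀ (φ ≫ ψ)) (add_zero p) = (x.comp (Ext.mk₀ φ) (add_zero p)).comp (Ext.mk₀ ψ) (add_zero p)
  rw [Ext.comp_assoc_of_second_deg_zero, Ext.mk₀_comp_mk₀]

theorem emap_congr {F G : C} {φ ψ : F ⟶ G} (h : φ = ψ) (p : ℕ) (x : EG Z F p) :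
    emap Z φ p x = emap Z ψ p x := h ▸ rfl

/-- The connecting map. -/
noncomputable abbrev edel {S : ShortComplex C} (hS : S.ShortExact) (p : ℕ) :
    EG Z S.X₃ p →+ EG Z S.X₁ (p + 1) :=
  hS.extClass.postcomp Z rfl

theorem edel_naturality {S S' : ShortComplex C} (hS : S.ShortExact) (hS' : S'.ShortExact)
    (φ : S ⟶ S') (p : ℕ) (x : EG Z S.X₃ p) :
    emap Z φ.τ₁ (p + 1) (edel Z hS p x) = edel Z hS' p (emap Z φ.τ₃ p x) := by
  change (x.comp hS.extClass rfl).comp (Ext.mk₀ φ.τ₁) (add_zero _) =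
    (x.comp (Ext.mk₀ φ.τ₃) (add_zero _)).comp hS'.extClass rfl
  rw [Ext.comp_assoc_of_third_deg_zero, ShortComplex.ShortExact.extClass_naturality hS hS' φ,
    Ext.comp_assoc_of_second_deg_zero]

theorem edel_comp_g {S : ShortComplex C} (hS : S.ShortExact) (p : ℕ) (x : EG Z S.X₂ p) :
    edel Z hS p (emap Z S.g p x) = 0 := by
  change (x.comp (Ext.mk₀ S.g) (add_zero _)).comp hS.extClass rfl = 0
  rw [Ext.comp_assoc_of_second_deg_zero, hS.comp_extClass, Ext.comp_zero]

theorem emap_zero_comp {S : ShortComplex C} (p : ℕ) (x : EG Z S.X₁ p) :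
    emap Z S.g p (emap Z S.f p x) = 0 := by
  rw [← emap_comp, emap_congr Z S.zero]
  change x.comp (Ext.mk₀ (0 : S.X₁ ⟶ S.X₃)) (add_zero p) = 0
  rw [Ext.mk₀_zero, Ext.comp_zero]

theorem edel_surjective {S : ShortComplex C} (hS : S.ShortExact) [Injective S.X₂] (p : ℕ) :
    Function.Surjective (edel Z hS p) := fun x =>
  Ext.covariant_sequence_exact₁ Z hS x (Ext.eq_zero_of_injective _) rfl

theorem exists_of_edel_eq_zero {S : ShortComplex C} (hS : S.ShortExact) (p : ℕ) (x : EG Z S.X₃ p)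
    (hx : edel Z hS p x = 0) : ∃ y, emap Z S.g p y = x :=
  Ext.covariant_sequence_exact₃ Z hS x rfl hx

theorem exists_of_emap_eq_zero {S : ShortComplex C} (hS : S.ShortExact) (p : ℕ) (x : EG Z S.X₂ p)
    (hx : emap Z S.g p x = 0) : ∃ y, emap Z S.f p y = x :=
  Ext.covariant_sequence_exact₂ Z hS x hx

theorem emap_f_injective {S : ShortComplex C} (hS : S.ShortExact) :
    Function.Injective (emap Z S.f 0) := fun a b h => by
  obtain ⟨a, rfl⟩ := (Ext.mk₀_bijective Z S.X₁).2 a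
  obtain ⟨b, rfl⟩ := (Ext.mk₀_bijective Z S.X₁).2 b
  haveI := hS.mono_f
  change (Ext.mk₀ a).comp (Ext.mk₀ S.f) (add_zero 0) = (Ext.mk₀ b).comp (Ext.mk₀ S.f) (add_zero 0) at h
  rw [Ext.mk₀_comp_mk₀, Ext.mk₀_comp_mk₀] at h
  exact congrArg _ ((cancel_mono S.f).1 ((Ext.mk₀_bijective Z S.X₂).1 h))

section tower

variable (F : ℕᵒᵖ ⥤ C)

/-- The transition of the tower of Ext groups. -/
noncomputable abbrev etr (p n : ℕ) : EG Z (F.obj (op (n + 1))) p →+ EG Z (F.obj (op n)) p :=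
  emap Z (ttr F n) p

variable [HasLimit F]

theorem π_ttr (n : ℕ) : limit.π F (op (n + 1)) ≫ ttr F n = limit.π F (op n) :=
  limit.w F (homOfLE (Nat.le_succ n)).op

theorem exists_lift_tower {T : C} (a : ∀ n, T ⟶ F.obj (op n))
    (ha : ∀ n, a (n + 1) ≫ ttr F n = a n) : ∃ l : T ⟶ limit F, ∀ n, l ≫ limit.π F (op n) = a n := by
  let c : Cone F :=
    { pt := T
      π := NatTrans.ofOpSequence a fun n => by
        simp only [Functor.const_obj_obj, Functor.const_obj_map]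
        exact (Category.id_comp _).trans (ha n).symm }
  exact ⟨limit.lift F c, fun n => limit.lift_π c (op n)⟩

theorem emap_π_ttr (p n : ℕ) (x : EG Z (limit F) p) :
    etr Z F p n (emap Z (limit.π F (op (n + 1))) p x) = emap Z (limit.π F (op n)) p x :=
  (emap_comp Z _ _ p x).symm.trans (emap_congr Z (π_ttr F n) p x)

theorem elim_ext {x y : EG Z (limit F) 0}
    (h : ∀ n, emap Z (limit.π F (op n)) 0 x = emap Z (limit.π F (op n)) 0 y) : x = y := by
  obtain ⟨a, rfl⟩ := (Ext.mk₀_bijective Z (limit F)).2 x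
  obtain ⟨b, rfl⟩ := (Ext.mk₀_bijective Z (limit F)).2 y
  refine congrArg _ (limit.hom_ext fun j => ?_)
  have h1 : (Ext.mk₀ a).comp (Ext.mk₀ (limit.π F j)) (add_zero 0) =
      (Ext.mk₀ b).comp (Ext.mk₀ (limit.π F j)) (add_zero 0) := h j.unop
  rw [Ext.mk₀_comp_mk₀, Ext.mk₀_comp_mk₀] at h1
  exact (Ext.mk₀_bijective Z (F.obj j)).1 h1

theorem exists_elim (y : ∀ n, EG Z (F.obj (op n)) 0) (hy : ∀ n, etr Z F 0 n (y (n + 1)) = y n) :
    ∃ x : EG Z (limit F) 0, ∀ n, emap Z (limit.π F (op n)) 0 x = y n := by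
  choose a ha using fun n => (Ext.mk₀_bijective Z (F.obj (op n))).2 (y n)
  obtain ⟨l, hl⟩ := exists_lift_tower F a fun n => by
    refine (Ext.mk₀_bijective Z (F.obj (op n))).1 ?_
    rw [ha, ← Ext.mk₀_comp_mk₀, ha]
    exact hy n
  refine ⟨Ext.mk₀ l, fun n => ?_⟩
  change (Ext.mk₀ l).comp (Ext.mk₀ (limit.π F (op n))) (add_zero 0) = _
  rw [Ext.mk₀_comp_mk₀, hl, ha]

end tower

/-- A termwise short exact sequence of towers with injective middle term and split transitions. -/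
structure Res (F I Q : ℕᵒᵖ ⥤ C) where
  /-- The inclusions. -/
  ι : ∀ n, F.obj (op n) ⟶ I.obj (op n)
  /-- The quotient maps. -/
  π : ∀ n, I.obj (op n) ⟶ Q.obj (op n)
  zero : ∀ n, ι n ≫ π n = 0
  shortExact : ∀ n, (ShortComplex.mk (ι n) (π n) (zero n)).ShortExact
  inj : ∀ n, Injective (I.obj (op n))
  split : ∀ n, IsSplitEpi (ttr I n)
  ι_ttr : ∀ n, ι (n + 1) ≫ ttr I n = ttr F n ≫ ι n
  π_ttr : ∀ n, π (n + 1) ≫ ttr Q n = ttr I n ≫ π n

namespace Res

variable {Z} {F I Q : ℕᵒᵖ ⥤ C} (R : Res F I Q)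

include R in
theorem exists_diff (p : ℕ) (y : ∀ n, EG Z (I.obj (op n)) p) :
    ∃ i : ∀ n, EG Z (I.obj (op n)) p, ∀ n, i n - etr Z I p n (i (n + 1)) = y n := by
  have hsurj : ∀ n, Function.Surjective (etr Z I p n) := fun n y => by
    haveI := R.split n
    refine ⟨emap Z (section_ (ttr I n)) p y, ?_⟩
    refine (emap_comp Z _ _ p y).symm.trans ((emap_congr Z (IsSplitEpi.id (ttr I n)) p y).trans ?_)
    exact Ext.comp_mk₀_id y
  choose s hs using hsurj
  let i : ∀ n, EG Z (I.obj (op n)) p := fun n => Nat.rec 0 (fun m im => s m (im - y m)) n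
  refine ⟨i, fun n => ?_⟩
  change i n - etr Z I p n (s n (i n - y n)) = y n
  rw [hs, sub_sub_cancel]

/-- The connecting maps of the levels. -/
noncomputable abbrev ldel (p n : ℕ) : EG Z (Q.obj (op n)) p →+ EG Z (F.obj (op n)) (p + 1) :=
  edel Z (R.shortExact n) p

/-- The quotient maps of the levels. -/
noncomputable abbrev lq (p n : ℕ) : EG Z (I.obj (op n)) p →+ EG Z (Q.obj (op n)) p :=
  emap Z (R.π n) p

/-- The inclusions of the levels. -/
noncomputable abbrev lι (p n : ℕ) : EG Z (F.obj (op n)) p →+ EG Z (I.obj (op n)) p :=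
  emap Z (R.ι n) p

theorem etr_ldel (p n : ℕ) (x : EG Z (Q.obj (op (n + 1))) p) :
    etr Z F (p + 1) n (R.ldel p (n + 1) x) = R.ldel p n (etr Z Q p n x) :=
  edel_naturality Z (R.shortExact (n + 1)) (R.shortExact n)
    { τ₁ := ttr F n
      τ₂ := ttr I n
      τ₃ := ttr Q n
      comm₁₂ := (R.ι_ttr n).symm
      comm₂₃ := (R.π_ttr n).symm } p x

theorem etr_lq (p n : ℕ) (x : EG Z (I.obj (op (n + 1))) p) :
    etr Z Q p n (R.lq p (n + 1) x) = R.lq p n (etr Z I p n x) :=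
  ((emap_comp Z _ _ p x).symm.trans (emap_congr Z (R.π_ttr n) p x)).trans (emap_comp Z _ _ p x)

theorem etr_ι (p n : ℕ) (x : EG Z (F.obj (op (n + 1))) p) :
    etr Z I p n (R.lι p (n + 1) x) = R.lι p n (etr Z F p n x) :=
  ((emap_comp Z _ _ p x).symm.trans (emap_congr Z (R.ι_ttr n) p x)).trans (emap_comp Z _ _ p x)

theorem lq_lι (p n : ℕ) (x : EG Z (F.obj (op n)) p) : R.lq p n (R.lι p n x) = 0 :=
  emap_zero_comp Z (S := ShortComplex.mk _ _ (R.zero n)) p x

theorem exists_of_lq_eq_zero (p n : ℕ) (x : EG Z (I.obj (op n)) p) (hx : R.lq p n x = 0) :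
    ∃ y, R.lι p n y = x :=
  exists_of_emap_eq_zero Z (R.shortExact n) p x hx

theorem exists_of_ldel_eq_zero (p n : ℕ) (x : EG Z (Q.obj (op n)) p) (hx : R.ldel p n x = 0) :
    ∃ y, R.lq p n y = x :=
  exists_of_edel_eq_zero Z (R.shortExact n) p x hx

theorem ldel_lq (p n : ℕ) (x : EG Z (I.obj (op n)) p) : R.ldel p n (R.lq p n x) = 0 :=
  edel_comp_g Z (R.shortExact n) p x

theorem ldel_surjective (p n : ℕ) : Function.Surjective (R.ldel (Z := Z) p n) :=
  haveI : Injective (ShortComplex.mk (R.ι n) (R.π n) (R.zero n)).X₂ := R.inj n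
  edel_surjective Z (R.shortExact n) p

theorem lι_injective (n : ℕ) : Function.Injective (R.lι (Z := Z) 0 n) :=
  emap_f_injective Z (S := ShortComplex.mk (R.ι n) (R.π n) (R.zero n)) (R.shortExact n)

end Res

/-- The first derived limit of a tower of Ext groups. -/
abbrev L1 (F : ℕᵒᵖ ⥤ C) (p : ℕ) : Type u :=
  Formal2.limOne (fun n => EG Z (F.obj (op n)) p) (etr Z F p)

/-- The limit of a tower of Ext groups. -/
abbrev L0 (F : ℕᵒᵖ ⥤ C) (p : ℕ) : Type u :=
  Formal2.limZero (fun n => EG Z (F.obj (op n)) p) (etr Z F p)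

/-- The shape of the Milnor sequence. -/
def HasMilnor (F : ℕᵒᵖ ⥤ C) [HasLimit F] (p : ℕ) : Prop :=
  ∃ (α : L1 Z F p →+ EG Z (limit F) (p + 1)) (β : EG Z (limit F) (p + 1) →+ L0 Z F (p + 1)),
    Function.Injective α ∧ Function.Surjective β ∧ α.range = β.ker ∧
    ∀ x n, (β x : ∀ n, EG Z (F.obj (op n)) (p + 1)) n = emap Z (limit.π F (op n)) (p + 1) x

/-- The projections to the tower of Ext groups. -/
noncomputable def betaHom (F : ℕᵒᵖ ⥤ C) [HasLimit F] (p : ℕ) : EG Z (limit F) p →+ L0 Z F p :=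
  AddMonoidHom.codRestrict (AddMonoidHom.pi fun n => emap Z (limit.π F (op n)) p) _ fun x =>
    funext fun n => sub_eq_zero.2 (emap_π_ttr Z F p n x).symm

theorem mem_ker_betaHom {F : ℕᵒᵖ ⥤ C} [HasLimit F] {p : ℕ} {x : EG Z (limit F) p} :
    x ∈ (betaHom Z F p).ker ↔ ∀ n, emap Z (limit.π F (op n)) p x = 0 :=
  ⟨fun h n => congrFun (congrArg Subtype.val (AddMonoidHom.mem_ker.1 h)) n,
    fun h => AddMonoidHom.mem_ker.2 (Subtype.ext (funext h))⟩

section base

variable {Z} {F I Q : ℕᵒᵖ ⥤ C} [HasLimit F] [HasLimit I] [HasLimit Q] (R : Res F I Q)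
  {f : limit F ⟶ limit I} {g : limit I ⟶ limit Q}
  {w : f ≫ g = 0} (hse : (ShortComplex.mk f g w).ShortExact)
  (hf : ∀ n, f ≫ limit.π I (op n) = limit.π F (op n) ≫ R.ι n)
  (hg : ∀ n, g ≫ limit.π Q (op n) = limit.π I (op n) ≫ R.π n)

include hf hg in
theorem π_edel (p n : ℕ) (z : EG Z (limit Q) p) : emap Z (limit.π F (op n)) (p + 1) (edel Z hse p z) =
    R.ldel p n (emap Z (limit.π Q (op n)) p z) :=
  edel_naturality Z hse (R.shortExact n)
    { τ₁ := limit.π F (op n)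
      τ₂ := limit.π I (op n)
      τ₃ := limit.π Q (op n)
      comm₁₂ := (hf n).symm
      comm₂₃ := (hg n).symm } p z

include hg in
theorem π_emap_g (p n : ℕ) (x : EG Z (limit I) p) :
    emap Z (limit.π Q (op n)) p (emap Z g p x) =
      R.lq p n (emap Z (limit.π I (op n)) p x) :=
  ((emap_comp Z _ _ p x).symm.trans (emap_congr Z (hg n) p x)).trans (emap_comp Z _ _ p x)

/-- The relation defining the first map of the sequence. -/
def MRel (y : ∀ n, EG Z (F.obj (op n)) 0) (e : EG Z (limit F) 1) : Prop :=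
  ∃ (i : ∀ n, EG Z (I.obj (op n)) 0) (z : EG Z (limit Q) 0),
    (∀ n, i n - etr Z I 0 n (i (n + 1)) = R.lι 0 n (y n)) ∧
    (∀ n, emap Z (limit.π Q (op n)) 0 z = R.lq 0 n (i n)) ∧ edel Z hse 0 z = e

theorem exists_mrel (y : ∀ n, EG Z (F.obj (op n)) 0) : ∃ e, MRel R hse y e := by
  obtain ⟨i, hi⟩ := R.exists_diff 0 fun n => R.lι 0 n (y n)
  obtain ⟨z, hz⟩ := exists_elim Z Q (fun n => R.lq 0 n (i n)) fun n => by
    have h1 := congrArg (R.lq 0 n) (hi n)
    rw [map_sub, ← R.etr_lq, R.lq_lι, sub_eq_zero] at h1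
    exact h1.symm
  exact ⟨_, i, z, hi, hz, rfl⟩

theorem mrel_sub {y y' : ∀ n, EG Z (F.obj (op n)) 0} {e e' : EG Z (limit F) 1} (h : MRel R hse y e)
    (h' : MRel R hse y' e') : MRel R hse (y - y') (e - e') := by
  obtain ⟨i, z, hi, hz, rfl⟩ := h
  obtain ⟨i', z', hi', hz', rfl⟩ := h'
  refine ⟨fun n => i n - i' n, z - z', fun n => ?_, fun n => ?_, map_sub (edel Z hse 0) z z'⟩
  · change _ = R.lι 0 n (y n - y' n)
    rw [map_sub, map_sub, ← hi n, ← hi' n, sub_sub_sub_comm]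
  · rw [map_sub, map_sub, hz, hz']

include hg in
theorem mrel_range {y : ∀ n, EG Z (F.obj (op n)) 0} {e : EG Z (limit F) 1} (h : MRel R hse y e)
    (hy : y ∈ (Formal2.towerDiff _ (etr Z F 0)).range) : e = 0 := by
  obtain ⟨i, z, hi, hz, rfl⟩ := h
  obtain ⟨x, rfl⟩ := hy
  obtain ⟨v, hv⟩ := exists_elim Z I (fun n => i n - R.lι 0 n (x n)) fun n => by
    rw [map_sub, R.etr_ι]
    have h1 := hi n
    change i n - _ = R.lι 0 n (x n - etr Z F 0 n (x (n + 1))) at h1
    rw [map_sub, sub_eq_iff_eq_add] at h1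
    rw [h1]
    abel
  rw [show z = emap Z g 0 v from elim_ext Z Q fun n => by
    rw [π_emap_g R hg, hv, hz, map_sub, R.lq_lι, sub_zero]]
  exact edel_comp_g Z hse 0 v

include hg in
theorem mrel_unique {y : ∀ n, EG Z (F.obj (op n)) 0} {e e' : EG Z (limit F) 1} (h : MRel R hse y e)
    (h' : MRel R hse y e') : e = e' :=
  sub_eq_zero.1 (mrel_range R hse hg (mrel_sub R hse h h') (by rw [sub_self]; exact zero_mem _))

include hg in
theorem mrel_add {y y' : ∀ n, EG Z (F.obj (op n)) 0} {e e' : EG Z (limit F) 1} (h : MRel R hse y e)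
    (h' : MRel R hse y' e') : MRel R hse (y + y') (e + e') := by
  obtain ⟨e₀, h₀⟩ := exists_mrel R hse 0
  obtain rfl : e₀ = 0 := mrel_range R hse hg h₀ (zero_mem _)
  have := mrel_sub R hse h (mrel_sub R hse h₀ h')
  rwa [zero_sub, zero_sub, sub_neg_eq_add, sub_neg_eq_add] at this

include hg in
theorem mrel_injective {y : ∀ n, EG Z (F.obj (op n)) 0} (h : MRel R hse y 0) :
    y ∈ (Formal2.towerDiff _ (etr Z F 0)).range := by
  obtain ⟨i, z, hi, hz, he⟩ := h
  obtain ⟨v, hv⟩ := exists_of_edel_eq_zero Z hse 0 z he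
  have hv' : ∀ n, R.lq 0 n (i n - emap Z (limit.π I (op n)) 0 v) = 0 := fun n => by
    rw [map_sub, ← hz n, ← π_emap_g R hg, show emap Z g 0 v = z from hv, sub_self]
  choose x hx using fun n => R.exists_of_lq_eq_zero 0 n _ (hv' n)
  refine ⟨x, funext fun n => R.lι_injective n ?_⟩
  change R.lι 0 n (x n - etr Z F 0 n (x (n + 1))) = R.lι 0 n (y n)
  rw [map_sub, ← R.etr_ι, hx n, hx (n + 1), map_sub, emap_π_ttr, ← hi n]
  abel

include hf hg in
theorem mrel_proj {y : ∀ n, EG Z (F.obj (op n)) 0} {e : EG Z (limit F) 1} (h : MRel R hse y e) (n : ℕ) :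
    emap Z (limit.π F (op n)) 1 e = 0 := by
  obtain ⟨i, z, hi, hz, rfl⟩ := h
  refine (π_edel R hse hf hg 0 n z).trans ?_
  rw [hz]
  exact R.ldel_lq 0 n (i n)

include hf hg in
theorem exists_mrel_of_proj [Injective (limit I)] (e : EG Z (limit F) 1)
    (he : ∀ n, emap Z (limit.π F (op n)) 1 e = 0) : ∃ y, MRel R hse y e := by
  haveI : Injective (ShortComplex.mk f g w).X₂ := ‹_›
  obtain ⟨z, rfl⟩ := edel_surjective Z hse 0 e
  choose i hi using fun n => R.exists_of_ldel_eq_zero 0 n _ ((π_edel R hse hf hg 0 n z).symm.trans (he n))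
  have hd : ∀ n, R.lq 0 n (i n - etr Z I 0 n (i (n + 1))) = 0 := fun n => by
    rw [map_sub, ← R.etr_lq, hi n, hi (n + 1), emap_π_ttr, sub_self]
  choose y hy using fun n => R.exists_of_lq_eq_zero 0 n _ (hd n)
  exact ⟨y, i, z, fun n => (hy n).symm, fun n => (hi n).symm, rfl⟩

include hse hf hg in
theorem exists_proj_eq (y : Formal2.limZero (fun n => EG Z (F.obj (op n)) 1) (etr Z F 1)) :
    ∃ e : EG Z (limit F) 1, ∀ n, emap Z (limit.π F (op n)) 1 e = y.1 n := by
  choose z hz using fun n => R.ldel_surjective 0 n (y.1 n)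
  have hd : ∀ n, R.ldel 0 n (z n - etr Z Q 0 n (z (n + 1))) = 0 := fun n => by
    rw [map_sub, ← R.etr_ldel, hz n, hz (n + 1)]
    exact congrFun y.2 n
  choose i hi using fun n => R.exists_of_ldel_eq_zero 0 n _ (hd n)
  obtain ⟨j, hj⟩ := R.exists_diff 0 i
  obtain ⟨v, hv⟩ := exists_elim Z Q (fun n => z n - R.lq 0 n (j n)) fun n => by
    rw [map_sub, R.etr_lq]
    have h1 := congrArg (R.lq 0 n) (hj n)
    rw [hi n, map_sub, eq_sub_iff_add_eq] at h1
    rw [← h1]
    abel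
  refine ⟨edel Z hse 0 v, fun n => (π_edel R hse hf hg 0 n v).trans ?_⟩
  rw [hv, map_sub, R.ldel_lq, sub_zero, hz]

include hg in
theorem exists_alpha : ∃ α : L1 Z F 0 →+ EG Z (limit F) 1,
    ∀ y, MRel R hse y (α (QuotientAddGroup.mk y)) := by
  choose a ha using exists_mrel R hse
  let a' : (∀ n, EG Z (F.obj (op n)) 0) →+ EG Z (limit F) 1 :=
    AddMonoidHom.mk' a fun y y' => mrel_unique R hse hg (ha _) (mrel_add R hse hg (ha y) (ha y'))
  exact ⟨QuotientAddGroup.lift (Formal2.towerDiff (fun n => EG Z (F.obj (op n)) 0) (etr Z F 0)).range a'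
    (fun y hy => mrel_range R hse hg (ha y) hy), fun y => ha y⟩

include R hse hf hg in
theorem hasMilnor_zero_of_ses [Injective (limit I)] : HasMilnor Z F 0 := by
  obtain ⟨α, hα⟩ := exists_alpha R hse hg
  refine ⟨α, betaHom Z F 1, ?_, ?_, ?_, fun _ _ => rfl⟩
  · refine (injective_iff_map_eq_zero α).2 fun q hq => ?_
    obtain ⟨y, rfl⟩ := QuotientAddGroup.mk_surjective q
    refine (QuotientAddGroup.eq_zero_iff y).2 (mrel_injective R hse hg ?_)
    rw [← hq]
    exact hα y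
  · intro y
    obtain ⟨e, he⟩ := exists_proj_eq R hse hf hg y
    exact ⟨e, Subtype.ext (funext he)⟩
  · refine le_antisymm ?_ ?_
    · rintro _ ⟨q, rfl⟩
      obtain ⟨y, rfl⟩ := QuotientAddGroup.mk_surjective q
      rw [mem_ker_betaHom]
      exact fun n => mrel_proj R hse hf hg (hα y) n
    · intro e he
      rw [mem_ker_betaHom] at he
      obtain ⟨y, hy⟩ := exists_mrel_of_proj R hse hf hg e he
      exact ⟨QuotientAddGroup.mk y, mrel_unique R hse hg (hα y) hy⟩

end base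

section step

variable {Z} {F I Q : ℕᵒᵖ ⥤ C} [HasLimit F] [HasLimit I] [HasLimit Q] (R : Res F I Q)
  {f : limit F ⟶ limit I} {g : limit I ⟶ limit Q}
  {w : f ≫ g = 0} (hse : (ShortComplex.mk f g w).ShortExact)
  (hf : ∀ n, f ≫ limit.π I (op n) = limit.π F (op n) ≫ R.ι n)
  (hg : ∀ n, g ≫ limit.π Q (op n) = limit.π I (op n) ≫ R.π n)

include hse in
theorem edel_injective_succ [Injective (limit I)] (p : ℕ) :
    Function.Injective (edel Z hse (p + 1)) := (injective_iff_map_eq_zero (edel Z hse (p + 1))).2 fun x hx => by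
  haveI : Injective (ShortComplex.mk f g w).X₂ := ‹_›
  obtain ⟨y, rfl⟩ := exists_of_edel_eq_zero Z hse (p + 1) x hx
  rw [Ext.eq_zero_of_injective y, map_zero]

theorem Res.ldel_injective_succ (p n : ℕ) : Function.Injective (R.ldel (Z := Z) (p + 1) n) :=
  (injective_iff_map_eq_zero (R.ldel (Z := Z) (p + 1) n)).2 fun x hx => by
    haveI := R.inj n
    obtain ⟨y, rfl⟩ := R.exists_of_ldel_eq_zero (p + 1) n x hx
    rw [Ext.eq_zero_of_injective y, map_zero]

/-- The connecting maps on all levels. -/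
noncomputable def Res.pdel (p : ℕ) :
    (∀ n, EG Z (Q.obj (op n)) p) →+ ∀ n, EG Z (F.obj (op n)) (p + 1) :=
  AddMonoidHom.mk' (fun x n => R.ldel p n (x n)) fun x y => funext fun n => map_add (R.ldel p n) (x n) (y n)

theorem Res.pdel_mem_range (p : ℕ) {y : ∀ n, EG Z (Q.obj (op n)) p}
    (hy : y ∈ (Formal2.towerDiff (fun n => EG Z (Q.obj (op n)) p) (etr Z Q p)).range) :
    R.pdel p y ∈ (Formal2.towerDiff (fun n => EG Z (F.obj (op n)) (p + 1)) (etr Z F (p + 1))).range := by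
  obtain ⟨x, rfl⟩ := hy
  refine ⟨R.pdel p x, funext fun n => ?_⟩
  change R.ldel p n (x n) - etr Z F (p + 1) n (R.ldel p (n + 1) (x (n + 1))) =
    R.ldel p n (x n - etr Z Q p n (x (n + 1)))
  rw [map_sub, R.etr_ldel]

theorem Res.mem_range_of_pdel_mem (p : ℕ) {y : ∀ n, EG Z (Q.obj (op n)) p}
    (hy : R.pdel p y ∈ (Formal2.towerDiff (fun n => EG Z (F.obj (op n)) (p + 1)) (etr Z F (p + 1))).range) :
    y ∈ (Formal2.towerDiff (fun n => EG Z (Q.obj (op n)) p) (etr Z Q p)).range := by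
  obtain ⟨x, hx⟩ := hy
  choose v hv using fun n => R.ldel_surjective p n (x n)
  have hd : ∀ n, R.ldel p n (y n - (v n - etr Z Q p n (v (n + 1)))) = 0 := fun n => by
    rw [map_sub, map_sub, ← R.etr_ldel, hv n, hv (n + 1)]
    exact sub_eq_zero.2 (congrFun hx n).symm
  choose i hi using fun n => R.exists_of_ldel_eq_zero p n _ (hd n)
  obtain ⟨j, hj⟩ := R.exists_diff p i
  refine ⟨fun n => v n + R.lq p n (j n), funext fun n => ?_⟩
  change v n + R.lq p n (j n) - etr Z Q p n (v (n + 1) + R.lq p (n + 1) (j (n + 1))) = y n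
  rw [map_add, R.etr_lq, add_sub_add_comm, ← map_sub (R.lq p n), hj n, hi n, add_sub_cancel]

theorem exists_l1_equiv (p : ℕ) : ∃ ε : L1 Z Q p ≃+ L1 Z F (p + 1),
    ∀ y, ε (QuotientAddGroup.mk y) = QuotientAddGroup.mk (R.pdel p y) := by
  let φ : L1 Z Q p →+ L1 Z F (p + 1) :=
    QuotientAddGroup.lift (Formal2.towerDiff (fun n => EG Z (Q.obj (op n)) p) (etr Z Q p)).range
      ((QuotientAddGroup.mk' _).comp (R.pdel p))
      fun y hy => (QuotientAddGroup.eq_zero_iff (R.pdel p y)).2 (R.pdel_mem_range p hy)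
  refine ⟨AddEquiv.ofBijective φ ⟨?_, ?_⟩, fun y => rfl⟩
  · refine (injective_iff_map_eq_zero φ).2 fun q hq => ?_
    obtain ⟨y, rfl⟩ := QuotientAddGroup.mk_surjective q
    exact (QuotientAddGroup.eq_zero_iff y).2
      (R.mem_range_of_pdel_mem p ((QuotientAddGroup.eq_zero_iff (R.pdel p y)).1 hq))
  · intro q
    obtain ⟨x, rfl⟩ := QuotientAddGroup.mk_surjective q
    choose v hv using fun n => R.ldel_surjective p n (x n)
    exact ⟨QuotientAddGroup.mk v, congrArg QuotientAddGroup.mk (funext hv : R.pdel p v = x)⟩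

include R hse hf hg in
theorem hasMilnor_succ [Injective (limit I)] (p : ℕ) (h : HasMilnor Z Q p) : HasMilnor Z F (p + 1) := by
  obtain ⟨α, β, hα, hβ, hr, hb⟩ := h
  obtain ⟨ε, -⟩ := exists_l1_equiv (Z := Z) R p
  haveI : Injective (ShortComplex.mk f g w).X₂ := ‹_›
  refine ⟨(edel Z hse (p + 1)).comp (α.comp ε.symm.toAddMonoidHom), betaHom Z F (p + 1 + 1), ?_, ?_, ?_,
    fun _ _ => rfl⟩
  · exact (edel_injective_succ hse p).comp (hα.comp ε.symm.injective)
  · intro y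
    choose z hz using fun n => R.ldel_surjective (p + 1) n (y.1 n)
    have hzc : ∀ n, z n - etr Z Q (p + 1) n (z (n + 1)) = 0 := fun n => by
      refine R.ldel_injective_succ p n ?_
      rw [map_sub, ← R.etr_ldel, hz n, hz (n + 1), map_zero]
      exact congrFun y.2 n
    obtain ⟨v, hv⟩ := hβ ⟨z, funext hzc⟩
    refine ⟨edel Z hse (p + 1) v, Subtype.ext (funext fun n => ?_)⟩
    refine (π_edel R hse hf hg (p + 1) n v).trans ?_
    rw [← hb, hv]
    exact hz n
  · refine le_antisymm ?_ ?_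
    · rintro _ ⟨q, rfl⟩
      rw [mem_ker_betaHom]
      intro n
      refine (π_edel R hse hf hg (p + 1) n (α (ε.symm q))).trans ?_
      rw [← hb, show β (α (ε.symm q)) = 0 from (hr.le ⟨_, rfl⟩ : α (ε.symm q) ∈ β.ker)]
      exact map_zero _
    · intro e he
      rw [mem_ker_betaHom] at he
      obtain ⟨v, rfl⟩ := edel_surjective Z hse (p + 1) e
      have hv : v ∈ β.ker := Subtype.ext (funext fun n => R.ldel_injective_succ p n (by
        rw [hb, ← π_edel R hse hf hg (p + 1) n v, he n]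
        exact (map_zero _).symm))
      obtain ⟨q, rfl⟩ := hr.ge hv
      exact ⟨ε q, by simp⟩

end step

end Groth.Agent.FMod90.Milnor
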